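import Cfsg.Agent.L0.Dce
import Cfsg.Agent.L0.Ly.Act

/-! Generated: double coset enumeration. -/

set_option autoImplicit false
set_option maxRecDepth 100000

namespace Cfsg.Agent.L0.LyFA

open Dce

noncomputable def F0 : GT Fa := .node (.node (.node (.node (.node (.leaf ⟨nat_lit 1, nat_lit 0, nat_lit 1, nat_lit 0, nat_lit 0, nat_lit 0, [], [], []⟩) (.leaf ⟨nat_lit 0, nat_lit 2, nat_lit 2, nat_lit 0, nat_lit 0, nat_lit 0, [], [nat_lit 0, nat_lit 1], []⟩)) (.leaf ⟨nat_lit 0, nat_lit 1, nat_lit 1, nat_lit 0, nat_lit 20017, nat_lit 0xb98c32, [nat_lit 0, nat_lit 0, nat_lit 0, nat_lit 0, nat_lit 0, nat_lit 0, nat_lit 0, nat_lit 2], [], []⟩)) (.node (.leaf ⟨nat_lit 0, nat_lit 1, nat_lit 1, nat_lit 0, nat_lit 18947, nat_lit 0x18d07, [nat_lit 0, nat_lit 0, nat_lit 0, nat_lit 0, nat_lit 0, nat_lit 0, nat_lit 1, nat_lit 0, nat_lit 1], [nat_lit 0, nat_lit 0, nat_lit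 0, nat_lit 0, nat_lit 0, nat_lit 1], []⟩) (.leaf ⟨nat_lit 0, nat_lit 1, nat_lit 1, nat_lit 0, nat_lit 11527, nat_lit 0x16b1c4eb, [nat_lit 0, nat_lit 0, nat_lit 0, nat_lit 0, nat_lit 0, nat_lit 0, nat_lit 0, nat_lit 0, nat_lit 20, nat_lit 0, nat_lit 0, nat_lit 0, nat_lit 9], [nat_lit 0, nat_lit 0, nat_lit 0, nat_lit 0, nat_lit 0, nat_lit 0, nat_lit 1, nat_lit 0, nat_lit 0, nat_lit 0, nat_lit 18, nat_lit 7], []⟩))) (.node (.node (.leaf ⟨nat_lit 2, nat_lit 0, nat_lit 0, nat_lit 0x20821, nat_lit 0, nat_lit 0, [nat_lit 0, nat_lit 0, nat_lit 0, nat_lit 1], [nat_lit 0, nat_lit 0, nat_lit 0, nat_lit 0, nat_lit 1], [nat_lit 0x2d2e4417121e22, nat_lit 0x6396b, nat_lit 0x168224ab6b8a3]⟩) (.leaf ⟨nat_lit 0, nat_lit 1, nat_lit 1, nat_lit 0, nat_lit 8707, nat_lit 0x19456d, [nat_lit 0, nat_lit 0, nat_lit 0, nat_lit 0, nat_lit 0, nat_lit 1, nat_lit 0, nat_lit 0, nat_lit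 0, nat_lit 0, nat_lit 2], [nat_lit 0, nat_lit 0, nat_lit 0, nat_lit 0, nat_lit 0, nat_lit 0, nat_lit 1, nat_lit 4, nat_lit 2, nat_lit 0, nat_lit 0, nat_lit 3, nat_lit 3], []⟩)) (.node (.leaf ⟨nat_lit 0, nat_lit 1, nat_lit 1, nat_lit 0, nat_lit 547, nat_lit 51819, [nat_lit 0, nat_lit 0, nat_lit 0, nat_lit 0, nat_lit 0, nat_lit 0, nat_lit 0, nat_lit 1], [nat_lit 0, nat_lit 0, nat_lit 0, nat_lit 0, nat_lit 0, nat_lit 1], []⟩) (.leaf ⟨nat_lit 0, nat_lit 1, nat_lit 1, nat_lit 0, nat_lit 0x39da7, nat_lit 0xd8462d, [nat_lit 0, nat_lit 0, nat_lit 0, nat_lit 0, nat_lit 0, nat_lit 0, nat_lit 0, nat_lit 0, nat_lit 1, nat_lit 0, nat_lit 0, nat_lit 1, nat_lit 71], [], []⟩)))) (.node (.node (.node (.node (.leaf ⟨nat_lit 2, nat_lit 0, nat_lit 0, nat_lit 1, nat_lit 0, nat_lit 0, [], [nat_lit 0, nat_lit 0, nat_lit 0, nat_lit 0, nat_lit 0, nat_lit 0, nat_lit 0, nat_lit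 0, nat_lit 0, nat_lit 0, nat_lit 1], [nat_lit 1057]⟩) (.leaf ⟨nat_lit 0, nat_lit 0, nat_lit 0, nat_lit 0, nat_lit 0, nat_lit 0, [nat_lit 0, nat_lit 0, nat_lit 0, nat_lit 1], [], []⟩)) (.leaf ⟨nat_lit 0, nat_lit 1, nat_lit 1, nat_lit 0, nat_lit 0x362b12d8c, nat_lit 0x6317212e42, [nat_lit 0, nat_lit 0, nat_lit 0, nat_lit 0, nat_lit 0, nat_lit 3, nat_lit 0, nat_lit 0, nat_lit 0, nat_lit 0, nat_lit 2], [nat_lit 0, nat_lit 0, nat_lit 0, nat_lit 0, nat_lit 0, nat_lit 0, nat_lit 2, nat_lit 2, nat_lit 2, nat_lit 0, nat_lit 0, nat_lit 4, nat_lit 4], []⟩)) (.node (.leaf ⟨nat_lit 0, nat_lit 1, nat_lit 1, nat_lit 0, nat_lit 0x5b16c08822, nat_lit 0x62d8b10441, [nat_lit 0, nat_lit 0, nat_lit 0, nat_lit 0, nat_lit 0, nat_lit 0, nat_lit 0, nat_lit 0, nat_lit 0, nat_lit 0, nat_lit 1], [nat_lit 0, nat_lit 0, nat_lit 0, nat_lit 0, nat_lit 0, nat_lit 0, nat_lit 0, nat_lit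 0, nat_lit 0, nat_lit 0, nat_lit 0, nat_lit 0, nat_lit 1], []⟩) (.leaf ⟨nat_lit 0, nat_lit 0, nat_lit 0, nat_lit 0, nat_lit 0, nat_lit 0, [], [nat_lit 0, nat_lit 0, nat_lit 0, nat_lit 0, nat_lit 0, nat_lit 0, nat_lit 0, nat_lit 0, nat_lit 0, nat_lit 0, nat_lit 0, nat_lit 764, nat_lit 323], []⟩))) (.node (.node (.leaf ⟨nat_lit 0, nat_lit 1, nat_lit 1, nat_lit 0, nat_lit 1553, nat_lit 0x2188c23, [nat_lit 0, nat_lit 0, nat_lit 0, nat_lit 0, nat_lit 0, nat_lit 0, nat_lit 1, nat_lit 1], [nat_lit 0, nat_lit 0, nat_lit 0, nat_lit 0, nat_lit 0, nat_lit 0, nat_lit 0, nat_lit 0, nat_lit 0, nat_lit 0, nat_lit 1], []⟩) (.leaf ⟨nat_lit 0, nat_lit 0, nat_lit 0, nat_lit 0, nat_lit 0, nat_lit 0, [nat_lit 0, nat_lit 0, nat_lit 0, nat_lit 0, nat_lit 0, nat_lit 0, nat_lit 0, nat_lit 11, nat_lit 0, nat_lit 0, nat_lit 0, nat_lit 3, nat_lit 14], [nat_lit 0, nat_lit 0, nat_lit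 0, nat_lit 0, nat_lit 0, nat_lit 0, nat_lit 0, nat_lit 0, nat_lit 0, nat_lit 0, nat_lit 4], []⟩)) (.node (.leaf ⟨nat_lit 0, nat_lit 1, nat_lit 1, nat_lit 0, nat_lit 0x18b60442, nat_lit 0x18c58822, [nat_lit 0, nat_lit 0, nat_lit 0, nat_lit 0, nat_lit 0, nat_lit 0, nat_lit 0, nat_lit 0, nat_lit 0, nat_lit 0, nat_lit 0, nat_lit 1], [nat_lit 0, nat_lit 0, nat_lit 0, nat_lit 0, nat_lit 0, nat_lit 0, nat_lit 0, nat_lit 0, nat_lit 0, nat_lit 0, nat_lit 0, nat_lit 0, nat_lit 1], []⟩) (.leaf ⟨nat_lit 0, nat_lit 1, nat_lit 1, nat_lit 0, nat_lit 0x24b524e1, nat_lit 0xc90910, [nat_lit 0, nat_lit 0, nat_lit 0, nat_lit 0, nat_lit 0, nat_lit 0, nat_lit 0, nat_lit 0, nat_lit 1], [], []⟩))))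

noncomputable def F1 : GT Fa := .node (.node (.node (.node (.node (.leaf ⟨nat_lit 2, nat_lit 0, nat_lit 0, nat_lit 6, nat_lit 0, nat_lit 0, [], [nat_lit 0, nat_lit 0, nat_lit 0, nat_lit 0, nat_lit 0, nat_lit 1], [nat_lit 5733]⟩) (.leaf ⟨nat_lit 0, nat_lit 0, nat_lit 0, nat_lit 0, nat_lit 0, nat_lit 0, [nat_lit 0, nat_lit 1], [], []⟩)) (.leaf ⟨nat_lit 0, nat_lit 1, nat_lit 1, nat_lit 0, nat_lit 0x310c08851, nat_lit 0x5b10c58841, [nat_lit 0, nat_lit 0, nat_lit 0, nat_lit 0, nat_lit 0, nat_lit 0, nat_lit 0, nat_lit 1], [nat_lit 0, nat_lit 0, nat_lit 0, nat_lit 0, nat_lit 0, nat_lit 1, nat_lit 0, nat_lit 0, nat_lit 0, nat_lit 0, nat_lit 0, nat_lit 0, nat_lit 1], []⟩)) (.node (.leaf ⟨nat_lit 0, nat_lit 1, nat_lit 1, nat_lit 0, nat_lit 0x8ca03, nat_lit 0xb6a030, [nat_lit 0, nat_lit 0, nat_lit 0, nat_lit 0, nat_lit 0, nat_lit 0, nat_lit 1, nat_lit 1, nat_lit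 1], [nat_lit 0, nat_lit 0, nat_lit 0, nat_lit 0, nat_lit 0, nat_lit 1], []⟩) (.leaf ⟨nat_lit 0, nat_lit 1, nat_lit 1, nat_lit 0, nat_lit 0x92d07, nat_lit 0xb5cceb, [nat_lit 0, nat_lit 0, nat_lit 0, nat_lit 0, nat_lit 0, nat_lit 0, nat_lit 0, nat_lit 0, nat_lit 21, nat_lit 0, nat_lit 0, nat_lit 0, nat_lit 9], [nat_lit 0, nat_lit 0, nat_lit 0, nat_lit 0, nat_lit 0, nat_lit 0, nat_lit 1, nat_lit 0, nat_lit 0, nat_lit 0, nat_lit 18, nat_lit 7], []⟩))) (.node (.node (.leaf ⟨nat_lit 0, nat_lit 1, nat_lit 1, nat_lit 0, nat_lit 0, nat_lit 0, [], [nat_lit 0, nat_lit 0, nat_lit 0, nat_lit 0, nat_lit 0, nat_lit 0, nat_lit 0, nat_lit 0, nat_lit 0, nat_lit 1], []⟩) (.leaf ⟨nat_lit 0, nat_lit 1, nat_lit 1, nat_lit 0, nat_lit 0x80a201, nat_lit 0x1633ae47, [], [nat_lit 0, nat_lit 0, nat_lit 0, nat_lit 0, nat_lit 0, nat_lit 0, nat_lit 0, nat_lit 0, nat_lit 0, nat_lit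 0, nat_lit 0, nat_lit 2], []⟩)) (.node (.leaf ⟨nat_lit 0, nat_lit 1, nat_lit 1, nat_lit 0, nat_lit 17955, nat_lit 0xd69ce8, [nat_lit 0, nat_lit 0, nat_lit 0, nat_lit 0, nat_lit 0, nat_lit 0, nat_lit 0, nat_lit 2], [nat_lit 0, nat_lit 0, nat_lit 0, nat_lit 0, nat_lit 0, nat_lit 1], []⟩) (.leaf ⟨nat_lit 0, nat_lit 0, nat_lit 0, nat_lit 0, nat_lit 0x62e2712022, nat_lit 0x62e2c82022, [], [], []⟩)))) (.node (.node (.node (.node (.leaf ⟨nat_lit 0, nat_lit 0, nat_lit 0, nat_lit 0, nat_lit 11627, nat_lit 1057, [], [], []⟩) (.leaf ⟨nat_lit 0, nat_lit 0, nat_lit 0, nat_lit 0, nat_lit 0, nat_lit 0, [nat_lit 0, nat_lit 0, nat_lit 1], [], []⟩)) (.leaf ⟨nat_lit 0, nat_lit 1, nat_lit 1, nat_lit 0, nat_lit 0, nat_lit 0, [nat_lit 0, nat_lit 0, nat_lit 0, nat_lit 0, nat_lit 0, nat_lit 2, nat_lit 0, nat_lit 0, nat_lit 0, nat_lit 0, nat_lit 2], [nat_lit 0, nat_lit 0, nat_lit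 0, nat_lit 0, nat_lit 0, nat_lit 0, nat_lit 2, nat_lit 3, nat_lit 2, nat_lit 0, nat_lit 0, nat_lit 3, nat_lit 3], []⟩)) (.node (.leaf ⟨nat_lit 0, nat_lit 1, nat_lit 1, nat_lit 0, nat_lit 295, nat_lit 0x84c69, [], [nat_lit 0, nat_lit 0, nat_lit 0, nat_lit 0, nat_lit 0, nat_lit 0, nat_lit 1, nat_lit 0, nat_lit 1], []⟩) (.leaf ⟨nat_lit 0, nat_lit 0, nat_lit 0, nat_lit 0, nat_lit 0, nat_lit 0, [nat_lit 0, nat_lit 0, nat_lit 0, nat_lit 0, nat_lit 0, nat_lit 0, nat_lit 0, nat_lit 0, nat_lit 0, nat_lit 0, nat_lit 0, nat_lit 764, nat_lit 323], [], []⟩))) (.node (.node (.leaf ⟨nat_lit 0, nat_lit 1, nat_lit 1, nat_lit 0, nat_lit 0x142149562, nat_lit 0x2a4ab12e4c, [nat_lit 0, nat_lit 0, nat_lit 0, nat_lit 0, nat_lit 3, nat_lit 1, nat_lit 2, nat_lit 0, nat_lit 0, nat_lit 0, nat_lit 3, nat_lit 0, nat_lit 1], [nat_lit 2, nat_lit 0, nat_lit 0, nat_lit 0, nat_lit 0,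 nat_lit 0, nat_lit 0, nat_lit 1, nat_lit 0, nat_lit 0, nat_lit 0, nat_lit 1], []⟩) (.leaf ⟨nat_lit 0, nat_lit 1, nat_lit 1, nat_lit 0, nat_lit 50541, nat_lit 8423, [nat_lit 0, nat_lit 0, nat_lit 0, nat_lit 0, nat_lit 0, nat_lit 0, nat_lit 0, nat_lit 0, nat_lit 0, nat_lit 0, nat_lit 4], [nat_lit 0, nat_lit 0, nat_lit 0, nat_lit 0, nat_lit 0, nat_lit 0, nat_lit 1, nat_lit 5, nat_lit 1, nat_lit 0, nat_lit 0, nat_lit 0, nat_lit 7], []⟩)) (.node (.leaf ⟨nat_lit 0, nat_lit 1, nat_lit 1, nat_lit 0, nat_lit 0x4163021, nat_lit 67628, [nat_lit 0, nat_lit 0, nat_lit 0, nat_lit 0, nat_lit 0, nat_lit 0, nat_lit 0, nat_lit 0, nat_lit 0, nat_lit 0, nat_lit 1, nat_lit 1], [nat_lit 0, nat_lit 0, nat_lit 0, nat_lit 0, nat_lit 0, nat_lit 0, nat_lit 0, nat_lit 0, nat_lit 0, nat_lit 0, nat_lit 0, nat_lit 0, nat_lit 1], []⟩) (.leaf ⟨nat_lit 0, nat_lit 1, nat_lit 1, nat_lit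 0, nat_lit 0, nat_lit 0, [nat_lit 0, nat_lit 0, nat_lit 0, nat_lit 0, nat_lit 0, nat_lit 0, nat_lit 0, nat_lit 0, nat_lit 1], [], []⟩))))

noncomputable def F2 : GT Fa := .node (.node (.node (.node (.node (.leaf ⟨nat_lit 0, nat_lit 0, nat_lit 0, nat_lit 0, nat_lit 5445, nat_lit 5733, [], [], []⟩) (.leaf ⟨nat_lit 0, nat_lit 2, nat_lit 2, nat_lit 0, nat_lit 0x16c89624195c7, nat_lit 0xad441d051569, [nat_lit 0, nat_lit 0, nat_lit 0, nat_lit 1], [nat_lit 0, nat_lit 0, nat_lit 1], []⟩)) (.leaf ⟨nat_lit 0, nat_lit 1, nat_lit 1, nat_lit 0, nat_lit 355, nat_lit 0x1ce2a8a1, [nat_lit 0, nat_lit 0, nat_lit 0, nat_lit 0, nat_lit 0, nat_lit 0, nat_lit 0, nat_lit 0, nat_lit 0, nat_lit 0, nat_lit 1], [nat_lit 0, nat_lit 0, nat_lit 0, nat_lit 0, nat_lit 0, nat_lit 1], []⟩)) (.node (.leaf ⟨nat_lit 0, nat_lit 1, nat_lit 1, nat_lit 0, nat_lit 0x210581, nat_lit 0xb12d8c,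 [nat_lit 0, nat_lit 0, nat_lit 0, nat_lit 0, nat_lit 0, nat_lit 0, nat_lit 0, nat_lit 0, nat_lit 0, nat_lit 0, nat_lit 0, nat_lit 1, nat_lit 1], [], []⟩) (.leaf ⟨nat_lit 0, nat_lit 0, nat_lit 0, nat_lit 0, nat_lit 0x54886451661, nat_lit 0xb5166e6b245, [], [], []⟩))) (.node (.node (.leaf ⟨nat_lit 0, nat_lit 0, nat_lit 0, nat_lit 0, nat_lit 0, nat_lit 0, [nat_lit 0, nat_lit 0, nat_lit 0, nat_lit 0, nat_lit 0, nat_lit 0, nat_lit 0, nat_lit 0, nat_lit 0, nat_lit 1], [], []⟩) (.leaf ⟨nat_lit 0, nat_lit 1, nat_lit 1, nat_lit 0, nat_lit 18989, nat_lit 0xb3a028, [nat_lit 0, nat_lit 0, nat_lit 0, nat_lit 0, nat_lit 0, nat_lit 1, nat_lit 0, nat_lit 1, nat_lit 1], [], []⟩)) (.node (.leaf ⟨nat_lit 0, nat_lit 1, nat_lit 1, nat_lit 0, nat_lit 0xb60441, nat_lit 0x160441, [], [nat_lit 0, nat_lit 0, nat_lit 0, nat_lit 0, nat_lit 0, nat_lit 0, nat_lit 0, nat_lit 0, nat_lit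 0, nat_lit 0, nat_lit 0, nat_lit 1], []⟩) (.leaf ⟨nat_lit 0, nat_lit 1, nat_lit 1, nat_lit 0, nat_lit 0x5b62c088e1, nat_lit 0xb2030a441, [nat_lit 0, nat_lit 0, nat_lit 0, nat_lit 0, nat_lit 0, nat_lit 0, nat_lit 0, nat_lit 0, nat_lit 0, nat_lit 0, nat_lit 0, nat_lit 1], [nat_lit 0, nat_lit 0, nat_lit 0, nat_lit 0, nat_lit 0, nat_lit 0, nat_lit 0, nat_lit 0, nat_lit 0, nat_lit 0, nat_lit 0, nat_lit 0, nat_lit 63], []⟩)))) (.node (.node (.node (.node (.leaf ⟨nat_lit 0, nat_lit 1, nat_lit 1, nat_lit 0, nat_lit 1, nat_lit 11726, [], [nat_lit 0, nat_lit 0, nat_lit 0, nat_lit 0, nat_lit 0, nat_lit 0, nat_lit 0, nat_lit 0, nat_lit 0, nat_lit 0, nat_lit 1], []⟩) (.leaf ⟨nat_lit 0, nat_lit 0, nat_lit 0, nat_lit 0, nat_lit 0, nat_lit 0, [nat_lit 0, nat_lit 1], [], []⟩)) (.leaf ⟨nat_lit 0, nat_lit 1, nat_lit 1, nat_lit 0, nat_lit 0xc58a03, nat_lit 0x5acec92d42,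 [nat_lit 0, nat_lit 0, nat_lit 0, nat_lit 0, nat_lit 0, nat_lit 1, nat_lit 0, nat_lit 0, nat_lit 0, nat_lit 0, nat_lit 2], [nat_lit 0, nat_lit 0, nat_lit 0, nat_lit 0, nat_lit 0, nat_lit 0, nat_lit 1, nat_lit 3, nat_lit 2, nat_lit 0, nat_lit 0, nat_lit 2, nat_lit 3], []⟩)) (.node (.leaf ⟨nat_lit 0, nat_lit 1, nat_lit 1, nat_lit 0, nat_lit 0x18b6316c, nat_lit 0x4110822, [], [nat_lit 0, nat_lit 0, nat_lit 0, nat_lit 0, nat_lit 0, nat_lit 0, nat_lit 0, nat_lit 0, nat_lit 0, nat_lit 0, nat_lit 1, nat_lit 0, nat_lit 1], []⟩) (.leaf ⟨nat_lit 0, nat_lit 1, nat_lit 1, nat_lit 0, nat_lit 18704, nat_lit 9517, [nat_lit 0, nat_lit 0, nat_lit 0, nat_lit 0, nat_lit 0, nat_lit 0, nat_lit 0, nat_lit 0, nat_lit 0, nat_lit 0, nat_lit 0, nat_lit 146, nat_lit 64], [], []⟩))) (.node (.node (.leaf ⟨nat_lit 0, nat_lit 1, nat_lit 1, nat_lit 0, nat_lit 0, nat_lit 0, [nat_lit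 0, nat_lit 0, nat_lit 0, nat_lit 0, nat_lit 3, nat_lit 1, nat_lit 3, nat_lit 0, nat_lit 0, nat_lit 0, nat_lit 2, nat_lit 1, nat_lit 2], [nat_lit 2, nat_lit 0, nat_lit 0, nat_lit 0, nat_lit 0, nat_lit 0, nat_lit 0, nat_lit 0, nat_lit 1], []⟩) (.leaf ⟨nat_lit 0, nat_lit 1, nat_lit 1, nat_lit 0, nat_lit 0x83528, nat_lit 0x5a430, [nat_lit 0, nat_lit 0, nat_lit 0, nat_lit 0, nat_lit 0, nat_lit 0, nat_lit 0, nat_lit 4, nat_lit 0, nat_lit 0, nat_lit 0, nat_lit 3, nat_lit 7], [nat_lit 0, nat_lit 0, nat_lit 0, nat_lit 0, nat_lit 0, nat_lit 0, nat_lit 0, nat_lit 0, nat_lit 2], []⟩)) (.node (.leaf ⟨nat_lit 0, nat_lit 1, nat_lit 1, nat_lit 0, nat_lit 40, nat_lit 0x1008521, [], [nat_lit 0, nat_lit 0, nat_lit 0, nat_lit 0, nat_lit 0, nat_lit 0, nat_lit 0, nat_lit 1, nat_lit 0, nat_lit 0, nat_lit 1], []⟩) (.leaf ⟨nat_lit 0, nat_lit 1, nat_lit 1, nat_lit 0, nat_lit 0x18182122,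 nat_lit 0x52163422, [], [], []⟩))))

noncomputable def F3 : GT Fa := .node (.node (.node (.node (.node (.leaf ⟨nat_lit 0, nat_lit 1, nat_lit 1, nat_lit 0, nat_lit 3, nat_lit 5733, [], [nat_lit 0, nat_lit 0, nat_lit 0, nat_lit 0, nat_lit 0, nat_lit 1], []⟩) (.leaf ⟨nat_lit 0, nat_lit 2, nat_lit 2, nat_lit 0, nat_lit 0, nat_lit 0, [nat_lit 0, nat_lit 0, nat_lit 0, nat_lit 1], [], []⟩)) (.leaf ⟨nat_lit 0, nat_lit 1, nat_lit 1, nat_lit 0, nat_lit 0xb1096c, nat_lit 0x20b181, [], [nat_lit 0, nat_lit 0, nat_lit 0, nat_lit 0, nat_lit 0, nat_lit 0, nat_lit 0, nat_lit 0, nat_lit 0, nat_lit 0, nat_lit 0, nat_lit 1, nat_lit 1], []⟩)) (.node (.leaf ⟨nat_lit 0, nat_lit 1, nat_lit 1, nat_lit 0, nat_lit 0x316c60581, nat_lit 0x316c58822, [nat_lit 0, nat_lit 0, nat_lit 0, nat_lit 0, nat_lit 0, nat_lit 0, nat_lit 0, nat_lit 0, nat_lit 0, nat_lit 0, nat_lit 0, nat_lit 2,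 nat_lit 1], [], []⟩) (.leaf ⟨nat_lit 0, nat_lit 1, nat_lit 1, nat_lit 0, nat_lit 0x95ad61085, nat_lit 0x24b284282ac62, [nat_lit 0, nat_lit 0, nat_lit 0, nat_lit 0, nat_lit 0, nat_lit 0, nat_lit 0, nat_lit 0, nat_lit 0, nat_lit 0, nat_lit 12, nat_lit 10], [nat_lit 0, nat_lit 0, nat_lit 0, nat_lit 0, nat_lit 0, nat_lit 0, nat_lit 0, nat_lit 0, nat_lit 12, nat_lit 0, nat_lit 0, nat_lit 0, nat_lit 2], []⟩))) (.node (.node (.leaf ⟨nat_lit 0, nat_lit 1, nat_lit 1, nat_lit 0, nat_lit 515, nat_lit 0x16748603, [nat_lit 0, nat_lit 0, nat_lit 0, nat_lit 0, nat_lit 0, nat_lit 0, nat_lit 1], [nat_lit 0, nat_lit 0, nat_lit 0, nat_lit 0, nat_lit 0, nat_lit 1], []⟩) (.leaf ⟨nat_lit 0, nat_lit 1, nat_lit 1, nat_lit 0, nat_lit 0x20c58a03, nat_lit 0x2d6c58910, [nat_lit 0, nat_lit 0, nat_lit 0, nat_lit 0, nat_lit 0, nat_lit 1, nat_lit 0, nat_lit 0, nat_lit 0, nat_lit 0,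 nat_lit 2], [nat_lit 0, nat_lit 0, nat_lit 0, nat_lit 0, nat_lit 0, nat_lit 0, nat_lit 0, nat_lit 3, nat_lit 2, nat_lit 0, nat_lit 0, nat_lit 2, nat_lit 3], []⟩)) (.node (.leaf ⟨nat_lit 0, nat_lit 1, nat_lit 1, nat_lit 0, nat_lit 1057, nat_lit 1, [], [nat_lit 0, nat_lit 0, nat_lit 0, nat_lit 0, nat_lit 0, nat_lit 0, nat_lit 0, nat_lit 0, nat_lit 0, nat_lit 0, nat_lit 3], []⟩) (.leaf ⟨nat_lit 0, nat_lit 1, nat_lit 1, nat_lit 0, nat_lit 0, nat_lit 0, [nat_lit 0, nat_lit 0, nat_lit 0, nat_lit 0, nat_lit 0, nat_lit 0, nat_lit 0, nat_lit 0, nat_lit 0, nat_lit 0, nat_lit 0, nat_lit 1], [nat_lit 0, nat_lit 0, nat_lit 0, nat_lit 0, nat_lit 0, nat_lit 0, nat_lit 0, nat_lit 0, nat_lit 0, nat_lit 0, nat_lit 0, nat_lit 0, nat_lit 212], []⟩)))) (.node (.node (.node (.node (.leaf ⟨nat_lit 2, nat_lit 0, nat_lit 0, nat_lit 12322, nat_lit 0, nat_lit 0, [], [nat_lit 0,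 nat_lit 0, nat_lit 0, nat_lit 0, nat_lit 0, nat_lit 0, nat_lit 0, nat_lit 0, nat_lit 0, nat_lit 0, nat_lit 0, nat_lit 1], [nat_lit 0xc08821]⟩) (.leaf ⟨nat_lit 0, nat_lit 0, nat_lit 0, nat_lit 0, nat_lit 0, nat_lit 0, [nat_lit 1], [], []⟩)) (.leaf ⟨nat_lit 0, nat_lit 1, nat_lit 1, nat_lit 0, nat_lit 369, nat_lit 0xb5a56d, [nat_lit 0, nat_lit 0, nat_lit 0, nat_lit 0, nat_lit 0, nat_lit 0, nat_lit 0, nat_lit 1, nat_lit 0, nat_lit 0, nat_lit 1], [], []⟩)) (.node (.leaf ⟨nat_lit 0, nat_lit 1, nat_lit 1, nat_lit 0, nat_lit 227, nat_lit 0x1094a30, [], [nat_lit 0, nat_lit 0, nat_lit 0, nat_lit 0, nat_lit 0, nat_lit 1, nat_lit 1], []⟩) (.leaf ⟨nat_lit 0, nat_lit 1, nat_lit 1, nat_lit 0, nat_lit 0x6303014542, nat_lit 0x1956b28441, [nat_lit 0, nat_lit 0, nat_lit 0, nat_lit 0, nat_lit 0, nat_lit 0, nat_lit 0, nat_lit 0, nat_lit 0, nat_lit 0, nat_lit 0, nat_lit 146,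 nat_lit 63], [], []⟩))) (.node (.node (.leaf ⟨nat_lit 0, nat_lit 0, nat_lit 0, nat_lit 0, nat_lit 0, nat_lit 0, [nat_lit 2, nat_lit 0, nat_lit 0, nat_lit 0, nat_lit 0, nat_lit 0, nat_lit 0, nat_lit 0, nat_lit 1], [nat_lit 0, nat_lit 0, nat_lit 0, nat_lit 0, nat_lit 3, nat_lit 1, nat_lit 3, nat_lit 0, nat_lit 0, nat_lit 0, nat_lit 2, nat_lit 1, nat_lit 2], []⟩) (.leaf ⟨nat_lit 0, nat_lit 1, nat_lit 1, nat_lit 0, nat_lit 9571, nat_lit 0x1ce9202a, [nat_lit 0, nat_lit 0, nat_lit 0, nat_lit 0, nat_lit 0, nat_lit 0, nat_lit 1, nat_lit 0, nat_lit 0, nat_lit 0, nat_lit 1], [nat_lit 0, nat_lit 0, nat_lit 0, nat_lit 0, nat_lit 0, nat_lit 0, nat_lit 0, nat_lit 5, nat_lit 0, nat_lit 0, nat_lit 0, nat_lit 3, nat_lit 7], []⟩)) (.node (.leaf ⟨nat_lit 0, nat_lit 1, nat_lit 1, nat_lit 0, nat_lit 272, nat_lit 0xc69c4a, [nat_lit 0, nat_lit 0, nat_lit 0, nat_lit 0, nat_lit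 0, nat_lit 0, nat_lit 1], [nat_lit 0, nat_lit 0, nat_lit 0, nat_lit 0, nat_lit 0, nat_lit 0, nat_lit 0, nat_lit 1], []⟩) (.leaf ⟨nat_lit 1, nat_lit 1, nat_lit 2, nat_lit 4, nat_lit 0, nat_lit 0, [], [], []⟩))))

noncomputable def F4 : GT Fa := .node (.node (.node (.node (.node (.leaf ⟨nat_lit 2, nat_lit 0, nat_lit 0, nat_lit 7, nat_lit 0, nat_lit 0, [], [nat_lit 0, nat_lit 0, nat_lit 0, nat_lit 0, nat_lit 0, nat_lit 0, nat_lit 1], [nat_lit 0x12a8ab]⟩) (.leaf ⟨nat_lit 0, nat_lit 2, nat_lit 2, nat_lit 0, nat_lit 0xb8a8872c1c2, nat_lit 0x1a42864551041, [], [], []⟩)) (.leaf ⟨nat_lit 0, nat_lit 1, nat_lit 1, nat_lit 0, nat_lit 263, nat_lit 0x1720a072, [], [nat_lit 0, nat_lit 0, nat_lit 0, nat_lit 0, nat_lit 0, nat_lit 0, nat_lit 1, nat_lit 1], []⟩)) (.node (.leaf ⟨nat_lit 0, nat_lit 1, nat_lit 1, nat_lit 0, nat_lit 433, nat_lit 0x1138d23, [nat_lit 0, nat_lit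 0, nat_lit 0, nat_lit 0, nat_lit 0, nat_lit 1, nat_lit 0, nat_lit 1], [], []⟩) (.leaf ⟨nat_lit 0, nat_lit 1, nat_lit 1, nat_lit 0, nat_lit 0, nat_lit 0, [nat_lit 0, nat_lit 0, nat_lit 0, nat_lit 0, nat_lit 0, nat_lit 0, nat_lit 0, nat_lit 0, nat_lit 0, nat_lit 0, nat_lit 4, nat_lit 7, nat_lit 2], [nat_lit 0, nat_lit 0, nat_lit 0, nat_lit 0, nat_lit 0, nat_lit 0, nat_lit 1, nat_lit 0, nat_lit 5], []⟩))) (.node (.node (.leaf ⟨nat_lit 0, nat_lit 1, nat_lit 1, nat_lit 0, nat_lit 363, nat_lit 33, [nat_lit 0, nat_lit 0, nat_lit 0, nat_lit 0, nat_lit 0, nat_lit 0, nat_lit 0, nat_lit 0, nat_lit 0, nat_lit 0, nat_lit 2], [], []⟩) (.leaf ⟨nat_lit 0, nat_lit 1, nat_lit 1, nat_lit 0, nat_lit 0x18188828, nat_lit 0x5b2529ae42, [nat_lit 0, nat_lit 0, nat_lit 0, nat_lit 0, nat_lit 0, nat_lit 1], [nat_lit 0, nat_lit 0, nat_lit 0, nat_lit 0, nat_lit 0, nat_lit 0, nat_lit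 0, nat_lit 1, nat_lit 0, nat_lit 0, nat_lit 1, nat_lit 1], []⟩)) (.node (.leaf ⟨nat_lit 0, nat_lit 1, nat_lit 1, nat_lit 0, nat_lit 0x2c60442, nat_lit 0x18c5884b, [nat_lit 0, nat_lit 0, nat_lit 0, nat_lit 0, nat_lit 0, nat_lit 0, nat_lit 0, nat_lit 0, nat_lit 0, nat_lit 0, nat_lit 1, nat_lit 0, nat_lit 1], [], []⟩) (.leaf ⟨nat_lit 0, nat_lit 0, nat_lit 0, nat_lit 0, nat_lit 0, nat_lit 0, [], [nat_lit 0, nat_lit 0, nat_lit 0, nat_lit 0, nat_lit 0, nat_lit 0, nat_lit 0, nat_lit 0, nat_lit 0, nat_lit 0, nat_lit 0, nat_lit 0, nat_lit 35], []⟩)))) (.node (.node (.node (.leaf ⟨nat_lit 0, nat_lit 0, nat_lit 0, nat_lit 0, nat_lit 0xb5b162, nat_lit 0xc08821, [], [], []⟩) (.leaf ⟨nat_lit 0, nat_lit 1, nat_lit 1, nat_lit 0, nat_lit 13352, nat_lit 0x10180432, [nat_lit 0, nat_lit 0, nat_lit 0, nat_lit 0, nat_lit 0, nat_lit 1], [nat_lit 0, nat_lit 0, nat_lit 0, nat_lit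 0, nat_lit 0, nat_lit 0, nat_lit 0, nat_lit 1, nat_lit 0, nat_lit 0, nat_lit 1], []⟩)) (.node (.leaf ⟨nat_lit 0, nat_lit 1, nat_lit 1, nat_lit 0, nat_lit 0x60622, nat_lit 0x303110641, [nat_lit 0, nat_lit 0, nat_lit 0, nat_lit 0, nat_lit 0, nat_lit 1], [nat_lit 0, nat_lit 0, nat_lit 0, nat_lit 0, nat_lit 0, nat_lit 0, nat_lit 0, nat_lit 0, nat_lit 0, nat_lit 0, nat_lit 0, nat_lit 1], []⟩) (.leaf ⟨nat_lit 0, nat_lit 1, nat_lit 1, nat_lit 0, nat_lit 0x404e3, nat_lit 0x35ce91d73, [nat_lit 0, nat_lit 0, nat_lit 0, nat_lit 0, nat_lit 0, nat_lit 0, nat_lit 0, nat_lit 0, nat_lit 1, nat_lit 0, nat_lit 0, nat_lit 321, nat_lit 134], [], []⟩))) (.node (.node (.leaf ⟨nat_lit 0, nat_lit 1, nat_lit 1, nat_lit 0, nat_lit 33, nat_lit 363, [], [nat_lit 0, nat_lit 0, nat_lit 0, nat_lit 0, nat_lit 0, nat_lit 0, nat_lit 0, nat_lit 0, nat_lit 0, nat_lit 0, nat_lit 2], []⟩)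 (.leaf ⟨nat_lit 0, nat_lit 1, nat_lit 1, nat_lit 0, nat_lit 0x8a563, nat_lit 0x1633a16b, [nat_lit 0, nat_lit 0, nat_lit 0, nat_lit 0, nat_lit 0, nat_lit 0, nat_lit 1, nat_lit 0, nat_lit 0, nat_lit 0, nat_lit 1], [nat_lit 0, nat_lit 0, nat_lit 0, nat_lit 0, nat_lit 0, nat_lit 0, nat_lit 0, nat_lit 4, nat_lit 0, nat_lit 0, nat_lit 0, nat_lit 3, nat_lit 7], []⟩)) (.node (.leaf ⟨nat_lit 0, nat_lit 1, nat_lit 1, nat_lit 0, nat_lit 0xb62c41, nat_lit 0xb62c4b, [nat_lit 0, nat_lit 0, nat_lit 0, nat_lit 0, nat_lit 0, nat_lit 0, nat_lit 0, nat_lit 0, nat_lit 0, nat_lit 0, nat_lit 0, nat_lit 1], [], []⟩) (.leaf ⟨nat_lit 0, nat_lit 2, nat_lit 2, nat_lit 0, nat_lit 0x1620b181, nat_lit 0x16212d8b, [], [], []⟩))))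

noncomputable def F5 : GT Fa := .node (.node (.node (.node (.node (.leaf ⟨nat_lit 0, nat_lit 0, nat_lit 0, nat_lit 0, nat_lit 0x12ccab, nat_lit 0x12a8ab, [], [], []⟩) (.leaf ⟨nat_lit 0, nat_lit 2, nat_lit 2, nat_lit 0, nat_lit 0, nat_lit 0, [], [nat_lit 0, nat_lit 0, nat_lit 1], []⟩)) (.leaf ⟨nat_lit 0, nat_lit 1, nat_lit 1, nat_lit 0, nat_lit 0x60451, nat_lit 0x303208c22, [nat_lit 0, nat_lit 0, nat_lit 0, nat_lit 0, nat_lit 0, nat_lit 0, nat_lit 0, nat_lit 1], [nat_lit 0, nat_lit 0, nat_lit 0, nat_lit 0, nat_lit 0, nat_lit 0, nat_lit 0, nat_lit 0, nat_lit 0, nat_lit 0, nat_lit 0, nat_lit 1], []⟩)) (.node (.leaf ⟨nat_lit 0, nat_lit 1, nat_lit 1, nat_lit 0, nat_lit 16433, nat_lit 0x2dce94603, [nat_lit 0, nat_lit 0, nat_lit 0, nat_lit 0, nat_lit 0, nat_lit 1, nat_lit 0, nat_lit 1], [nat_lit 0, nat_lit 0, nat_lit 0, nat_lit 0, nat_lit 0, nat_lit 0, nat_lit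 0, nat_lit 0, nat_lit 0, nat_lit 0, nat_lit 1], []⟩) (.leaf ⟨nat_lit 0, nat_lit 0, nat_lit 0, nat_lit 0, nat_lit 0, nat_lit 0, [nat_lit 0, nat_lit 0, nat_lit 0, nat_lit 0, nat_lit 0, nat_lit 0, nat_lit 1, nat_lit 0, nat_lit 5], [nat_lit 0, nat_lit 0, nat_lit 0, nat_lit 0, nat_lit 0, nat_lit 0, nat_lit 0, nat_lit 0, nat_lit 0, nat_lit 0, nat_lit 4, nat_lit 7, nat_lit 2], []⟩))) (.node (.node (.leaf ⟨nat_lit 0, nat_lit 1, nat_lit 1, nat_lit 0, nat_lit 269, nat_lit 52523, [nat_lit 0, nat_lit 0, nat_lit 0, nat_lit 0, nat_lit 0, nat_lit 1], [nat_lit 0, nat_lit 0, nat_lit 0, nat_lit 0, nat_lit 0, nat_lit 0, nat_lit 0, nat_lit 1], []⟩) (.leaf ⟨nat_lit 0, nat_lit 0, nat_lit 0, nat_lit 0, nat_lit 0x552d8574985, nat_lit 0x51248510665, [], [], []⟩)) (.node (.leaf ⟨nat_lit 0, nat_lit 1, nat_lit 1, nat_lit 0, nat_lit 0x11058c, nat_lit 0x212d8b, [nat_lit 0, nat_lit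 0, nat_lit 0, nat_lit 0, nat_lit 0, nat_lit 0, nat_lit 0, nat_lit 0, nat_lit 0, nat_lit 0, nat_lit 0, nat_lit 1, nat_lit 1], [], []⟩) (.leaf ⟨nat_lit 0, nat_lit 0, nat_lit 0, nat_lit 0, nat_lit 0, nat_lit 0, [nat_lit 0, nat_lit 0, nat_lit 0, nat_lit 0, nat_lit 0, nat_lit 0, nat_lit 0, nat_lit 0, nat_lit 0, nat_lit 0, nat_lit 0, nat_lit 0, nat_lit 35], [], []⟩)))) (.node (.node (.node (.leaf ⟨nat_lit 0, nat_lit 1, nat_lit 1, nat_lit 0, nat_lit 12322, nat_lit 0xc5b9c2, [], [nat_lit 0, nat_lit 0, nat_lit 0, nat_lit 0, nat_lit 0, nat_lit 0, nat_lit 0, nat_lit 0, nat_lit 0, nat_lit 0, nat_lit 0, nat_lit 1], []⟩) (.leaf ⟨nat_lit 0, nat_lit 1, nat_lit 1, nat_lit 0, nat_lit 0x62da2, nat_lit 0x5ad885c048, [nat_lit 0, nat_lit 0, nat_lit 0, nat_lit 0, nat_lit 0, nat_lit 0, nat_lit 0, nat_lit 0, nat_lit 1, nat_lit 0, nat_lit 0, nat_lit 1], [], []⟩)) (.node (.leaf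 ⟨nat_lit 0, nat_lit 1, nat_lit 1, nat_lit 0, nat_lit 0x18c58841, nat_lit 0x16c60442, [nat_lit 0, nat_lit 0, nat_lit 0, nat_lit 0, nat_lit 0, nat_lit 0, nat_lit 0, nat_lit 0, nat_lit 0, nat_lit 0, nat_lit 0, nat_lit 0, nat_lit 1], [nat_lit 0, nat_lit 0, nat_lit 0, nat_lit 0, nat_lit 0, nat_lit 0, nat_lit 0, nat_lit 0, nat_lit 0, nat_lit 0, nat_lit 1], []⟩) (.leaf ⟨nat_lit 0, nat_lit 1, nat_lit 1, nat_lit 0, nat_lit 0x5c8515b18b, nat_lit 0x4ae2212d81, [nat_lit 0, nat_lit 0, nat_lit 0, nat_lit 0, nat_lit 0, nat_lit 0, nat_lit 0, nat_lit 0, nat_lit 1], [nat_lit 0, nat_lit 0, nat_lit 0, nat_lit 0, nat_lit 0, nat_lit 0, nat_lit 0, nat_lit 0, nat_lit 0, nat_lit 0, nat_lit 0, nat_lit 244, nat_lit 103], []⟩))) (.node (.node (.leaf ⟨nat_lit 0, nat_lit 1, nat_lit 1, nat_lit 0, nat_lit 0x18c08841, nat_lit 0x16c62c42, [], [nat_lit 0, nat_lit 0, nat_lit 0, nat_lit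 0, nat_lit 0, nat_lit 0, nat_lit 0, nat_lit 0, nat_lit 0, nat_lit 0, nat_lit 1, nat_lit 0, nat_lit 1], []⟩) (.leaf ⟨nat_lit 0, nat_lit 0, nat_lit 0, nat_lit 0, nat_lit 0xb17494558c41, nat_lit 0x16c684b349105, [], [], []⟩)) (.node (.leaf ⟨nat_lit 0, nat_lit 1, nat_lit 1, nat_lit 0, nat_lit 291, nat_lit 0x111c4e3, [], [nat_lit 0, nat_lit 0, nat_lit 0, nat_lit 0, nat_lit 0, nat_lit 1, nat_lit 0, nat_lit 0, nat_lit 1], []⟩) (.leaf ⟨nat_lit 0, nat_lit 2, nat_lit 2, nat_lit 0, nat_lit 0x420882c, nat_lit 0x416058c, [], [], []⟩))))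

noncomputable def F6 : GT Fa := .node (.node (.node (.node (.node (.leaf ⟨nat_lit 0, nat_lit 1, nat_lit 1, nat_lit 0, nat_lit 7, nat_lit 0x12a8ab, [], [nat_lit 0, nat_lit 0, nat_lit 0, nat_lit 0, nat_lit 0, nat_lit 0, nat_lit 1], []⟩) (.leaf ⟨nat_lit 0, nat_lit 0, nat_lit 0, nat_lit 0, nat_lit 0, nat_lit 0, [nat_lit 0, nat_lit 0, nat_lit 1], [], []⟩)) (.leaf ⟨nat_lit 0, nat_lit 1, nat_lit 1, nat_lit 0, nat_lit 0xc38502, nat_lit 0x635ce3ad22, [], [nat_lit 0, nat_lit 0, nat_lit 0, nat_lit 0, nat_lit 0, nat_lit 1, nat_lit 0, nat_lit 0, nat_lit 1, nat_lit 0, nat_lit 0, nat_lit 1], []⟩)) (.node (.leaf ⟨nat_lit 0, nat_lit 1, nat_lit 1, nat_lit 0, nat_lit 0x94031, nat_lit 0x3040c21, [nat_lit 0, nat_lit 0, nat_lit 0, nat_lit 0, nat_lit 0, nat_lit 1, nat_lit 0, nat_lit 1, nat_lit 1], [nat_lit 0, nat_lit 0, nat_lit 0, nat_lit 0, nat_lit 0, nat_lit 0, nat_lit 0,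 nat_lit 0, nat_lit 0, nat_lit 0, nat_lit 1], []⟩) (.leaf ⟨nat_lit 0, nat_lit 0, nat_lit 0, nat_lit 0, nat_lit 0, nat_lit 0, [nat_lit 0, nat_lit 0, nat_lit 0, nat_lit 0, nat_lit 0, nat_lit 0, nat_lit 0, nat_lit 0, nat_lit 0, nat_lit 0, nat_lit 4, nat_lit 24, nat_lit 9], [nat_lit 0, nat_lit 0, nat_lit 0, nat_lit 0, nat_lit 0, nat_lit 0, nat_lit 0, nat_lit 0, nat_lit 8], []⟩))) (.node (.node (.leaf ⟨nat_lit 0, nat_lit 1, nat_lit 1, nat_lit 0, nat_lit 16653, nat_lit 232, [nat_lit 0, nat_lit 0, nat_lit 0, nat_lit 0, nat_lit 0, nat_lit 1, nat_lit 1], [nat_lit 0, nat_lit 0, nat_lit 0, nat_lit 0, nat_lit 0, nat_lit 0, nat_lit 0, nat_lit 1], []⟩) (.leaf ⟨nat_lit 0, nat_lit 1, nat_lit 1, nat_lit 0, nat_lit 0x95a901, nat_lit 0x16c3882a, [nat_lit 0, nat_lit 0, nat_lit 0, nat_lit 0, nat_lit 0, nat_lit 1, nat_lit 2, nat_lit 1, nat_lit 3], [nat_lit 0, nat_lit 0, nat_lit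 0, nat_lit 0, nat_lit 0, nat_lit 0, nat_lit 0, nat_lit 0, nat_lit 0, nat_lit 0, nat_lit 4, nat_lit 3], []⟩)) (.node (.leaf ⟨nat_lit 0, nat_lit 1, nat_lit 1, nat_lit 0, nat_lit 0x11082c, nat_lit 0x25b18b, [nat_lit 0, nat_lit 0, nat_lit 0, nat_lit 0, nat_lit 0, nat_lit 0, nat_lit 0, nat_lit 0, nat_lit 0, nat_lit 0, nat_lit 0, nat_lit 0, nat_lit 1], [nat_lit 0, nat_lit 0, nat_lit 0, nat_lit 0, nat_lit 0, nat_lit 0, nat_lit 0, nat_lit 0, nat_lit 0, nat_lit 0, nat_lit 2, nat_lit 1], []⟩) (.leaf ⟨nat_lit 0, nat_lit 0, nat_lit 0, nat_lit 0, nat_lit 0, nat_lit 0, [nat_lit 0, nat_lit 0, nat_lit 0, nat_lit 0, nat_lit 0, nat_lit 0, nat_lit 0, nat_lit 0, nat_lit 0, nat_lit 0, nat_lit 0, nat_lit 0, nat_lit 17], [], []⟩)))) (.node (.node (.node (.leaf ⟨nat_lit 2, nat_lit 0, nat_lit 0, nat_lit 0xc60442, nat_lit 0, nat_lit 0, [], [nat_lit 0, nat_lit 0, nat_lit 0, nat_lit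 0, nat_lit 0, nat_lit 0, nat_lit 0, nat_lit 0, nat_lit 0, nat_lit 0, nat_lit 0, nat_lit 0, nat_lit 1], [nat_lit 0x2d8c58841]⟩) (.leaf ⟨nat_lit 0, nat_lit 1, nat_lit 1, nat_lit 0, nat_lit 8771, nat_lit 0x6c230, [nat_lit 0, nat_lit 0, nat_lit 0, nat_lit 0, nat_lit 0, nat_lit 1, nat_lit 0, nat_lit 0, nat_lit 0, nat_lit 0, nat_lit 2], [nat_lit 0, nat_lit 0, nat_lit 0, nat_lit 0, nat_lit 0, nat_lit 0, nat_lit 2, nat_lit 4, nat_lit 1, nat_lit 0, nat_lit 0, nat_lit 3, nat_lit 3], []⟩)) (.node (.leaf ⟨nat_lit 0, nat_lit 1, nat_lit 1, nat_lit 0, nat_lit 0x220b181, nat_lit 0x16210581, [nat_lit 0, nat_lit 0, nat_lit 0, nat_lit 0, nat_lit 0, nat_lit 0, nat_lit 0, nat_lit 0, nat_lit 0, nat_lit 0, nat_lit 0, nat_lit 1, nat_lit 1], [nat_lit 0, nat_lit 0, nat_lit 0, nat_lit 0, nat_lit 0, nat_lit 0, nat_lit 0, nat_lit 0, nat_lit 0, nat_lit 0, nat_lit 1], []⟩) (.leaf ⟨nat_lit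 0, nat_lit 1, nat_lit 1, nat_lit 0, nat_lit 0, nat_lit 0, [nat_lit 0, nat_lit 0, nat_lit 0, nat_lit 0, nat_lit 0, nat_lit 0, nat_lit 0, nat_lit 0, nat_lit 0, nat_lit 0, nat_lit 0, nat_lit 32, nat_lit 16], [], []⟩))) (.node (.node (.leaf ⟨nat_lit 0, nat_lit 1, nat_lit 1, nat_lit 0, nat_lit 0x2d8c08841, nat_lit 0xc62c42, [], [nat_lit 0, nat_lit 0, nat_lit 0, nat_lit 0, nat_lit 0, nat_lit 0, nat_lit 0, nat_lit 0, nat_lit 0, nat_lit 0, nat_lit 0, nat_lit 0, nat_lit 1], []⟩) (.leaf ⟨nat_lit 0, nat_lit 1, nat_lit 1, nat_lit 0, nat_lit 0x1009632210a1, nat_lit 0xb688ae71568, [nat_lit 0, nat_lit 0, nat_lit 0, nat_lit 0, nat_lit 0, nat_lit 0, nat_lit 2, nat_lit 0, nat_lit 0, nat_lit 0, nat_lit 2], [nat_lit 0, nat_lit 0, nat_lit 0, nat_lit 0, nat_lit 0, nat_lit 0, nat_lit 0, nat_lit 3, nat_lit 2, nat_lit 0, nat_lit 0, nat_lit 1, nat_lit 5], []⟩)) (.node (.leaf ⟨nat_lit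 0, nat_lit 1, nat_lit 1, nat_lit 0, nat_lit 0x1620b181, nat_lit 0x2210581, [nat_lit 0, nat_lit 0, nat_lit 0, nat_lit 0, nat_lit 0, nat_lit 0, nat_lit 0, nat_lit 0, nat_lit 0, nat_lit 0, nat_lit 1, nat_lit 1, nat_lit 1], [], []⟩) (.leaf ⟨nat_lit 0, nat_lit 2, nat_lit 2, nat_lit 0, nat_lit 0x62c4b, nat_lit 0x5b162, [], [], []⟩))))

noncomputable def F7 : GT Fa := .node (.node (.node (.node (.node (.leaf ⟨nat_lit 2, nat_lit 0, nat_lit 0, nat_lit 8, nat_lit 0, nat_lit 0, [], [nat_lit 0, nat_lit 0, nat_lit 0, nat_lit 0, nat_lit 0, nat_lit 0, nat_lit 0, nat_lit 1], [nat_lit 19024]⟩) (.leaf ⟨nat_lit 0, nat_lit 0, nat_lit 0, nat_lit 0, nat_lit 0, nat_lit 0, [nat_lit 0, nat_lit 0, nat_lit 0, nat_lit 0, nat_lit 0, nat_lit 0, nat_lit 0, nat_lit 0, nat_lit 0, nat_lit 0, nat_lit 0, nat_lit 0, nat_lit 1], [], []⟩)) (.leaf ⟨nat_lit 0, nat_lit 1, nat_lit 1, nat_lit 0,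 nat_lit 560, nat_lit 0x1690c5a9, [nat_lit 0, nat_lit 0, nat_lit 0, nat_lit 0, nat_lit 0, nat_lit 0, nat_lit 1, nat_lit 1], [], []⟩)) (.node (.leaf ⟨nat_lit 0, nat_lit 1, nat_lit 1, nat_lit 0, nat_lit 0x212d8b, nat_lit 0x11058c, [], [nat_lit 0, nat_lit 0, nat_lit 0, nat_lit 0, nat_lit 0, nat_lit 0, nat_lit 0, nat_lit 0, nat_lit 0, nat_lit 0, nat_lit 0, nat_lit 1, nat_lit 1], []⟩) (.leaf ⟨nat_lit 0, nat_lit 0, nat_lit 0, nat_lit 0, nat_lit 0, nat_lit 0, [nat_lit 0, nat_lit 0, nat_lit 0, nat_lit 0, nat_lit 0, nat_lit 0, nat_lit 0, nat_lit 0, nat_lit 8], [nat_lit 0, nat_lit 0, nat_lit 0, nat_lit 0, nat_lit 0, nat_lit 0, nat_lit 0, nat_lit 0, nat_lit 0, nat_lit 0, nat_lit 4, nat_lit 24, nat_lit 9], []⟩))) (.node (.node (.leaf ⟨nat_lit 0, nat_lit 1, nat_lit 1, nat_lit 0, nat_lit 0x6ad0d, nat_lit 0xe74221, [nat_lit 0, nat_lit 0, nat_lit 0, nat_lit 0, nat_lit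 0, nat_lit 1, nat_lit 1, nat_lit 0, nat_lit 0, nat_lit 0, nat_lit 1], [nat_lit 0, nat_lit 0, nat_lit 0, nat_lit 0, nat_lit 0, nat_lit 0, nat_lit 0, nat_lit 1], []⟩) (.leaf ⟨nat_lit 0, nat_lit 1, nat_lit 1, nat_lit 0, nat_lit 0, nat_lit 0, [nat_lit 0, nat_lit 0, nat_lit 0, nat_lit 0, nat_lit 0, nat_lit 0, nat_lit 4, nat_lit 4, nat_lit 4, nat_lit 0, nat_lit 0, nat_lit 0, nat_lit 3], [nat_lit 0, nat_lit 0, nat_lit 0, nat_lit 0, nat_lit 0, nat_lit 0, nat_lit 0, nat_lit 0, nat_lit 0, nat_lit 0, nat_lit 6], []⟩)) (.node (.leaf ⟨nat_lit 0, nat_lit 1, nat_lit 1, nat_lit 0, nat_lit 593, nat_lit 0x288b1, [nat_lit 0, nat_lit 0, nat_lit 0, nat_lit 0, nat_lit 0, nat_lit 0, nat_lit 0, nat_lit 1, nat_lit 1], [], []⟩) (.leaf ⟨nat_lit 0, nat_lit 0, nat_lit 0, nat_lit 0, nat_lit 0, nat_lit 0, [nat_lit 0, nat_lit 0, nat_lit 0, nat_lit 0, nat_lit 0, nat_lit 0, nat_lit 0,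 nat_lit 0, nat_lit 0, nat_lit 0, nat_lit 0, nat_lit 0, nat_lit 1], [], []⟩)))) (.node (.node (.node (.leaf ⟨nat_lit 0, nat_lit 0, nat_lit 0, nat_lit 0, nat_lit 0x2d6c62c42, nat_lit 0x318110821, [], [], []⟩) (.leaf ⟨nat_lit 0, nat_lit 1, nat_lit 1, nat_lit 0, nat_lit 17635, nat_lit 17939, [nat_lit 0, nat_lit 0, nat_lit 0, nat_lit 0, nat_lit 0, nat_lit 1, nat_lit 0, nat_lit 0, nat_lit 0, nat_lit 0, nat_lit 2], [nat_lit 0, nat_lit 0, nat_lit 0, nat_lit 0, nat_lit 0, nat_lit 0, nat_lit 3, nat_lit 2, nat_lit 2, nat_lit 0, nat_lit 0, nat_lit 3, nat_lit 3], []⟩)) (.node (.leaf ⟨nat_lit 0, nat_lit 1, nat_lit 1, nat_lit 0, nat_lit 0x60502, nat_lit 0x302218521, [], [nat_lit 0, nat_lit 0, nat_lit 0, nat_lit 0, nat_lit 0, nat_lit 1, nat_lit 0, nat_lit 0, nat_lit 0, nat_lit 0, nat_lit 0, nat_lit 1], []⟩) (.leaf ⟨nat_lit 0, nat_lit 0, nat_lit 0, nat_lit 0, nat_lit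 0, nat_lit 0, [], [nat_lit 0, nat_lit 0, nat_lit 0, nat_lit 0, nat_lit 0, nat_lit 0, nat_lit 0, nat_lit 0, nat_lit 0, nat_lit 0, nat_lit 0, nat_lit 4, nat_lit 61], []⟩))) (.node (.node (.leaf ⟨nat_lit 0, nat_lit 1, nat_lit 1, nat_lit 0, nat_lit 579, nat_lit 0xc90870, [nat_lit 0, nat_lit 0, nat_lit 0, nat_lit 0, nat_lit 0, nat_lit 0, nat_lit 0, nat_lit 0, nat_lit 1], [nat_lit 0, nat_lit 0, nat_lit 0, nat_lit 0, nat_lit 0, nat_lit 1], []⟩) (.leaf ⟨nat_lit 0, nat_lit 1, nat_lit 1, nat_lit 0, nat_lit 0, nat_lit 0, [nat_lit 0, nat_lit 0, nat_lit 0, nat_lit 0, nat_lit 0, nat_lit 0, nat_lit 0, nat_lit 2, nat_lit 0, nat_lit 0, nat_lit 3, nat_lit 2, nat_lit 1], [nat_lit 0, nat_lit 0, nat_lit 0, nat_lit 0, nat_lit 0, nat_lit 0, nat_lit 0, nat_lit 0, nat_lit 4], []⟩)) (.node (.leaf ⟨nat_lit 0, nat_lit 1, nat_lit 1, nat_lit 0, nat_lit 0x18c08851, nat_lit 0xc6282541421,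 [nat_lit 0, nat_lit 0, nat_lit 0, nat_lit 0, nat_lit 0, nat_lit 0, nat_lit 0, nat_lit 1], [nat_lit 0, nat_lit 0, nat_lit 0, nat_lit 0, nat_lit 0, nat_lit 0, nat_lit 0, nat_lit 0, nat_lit 0, nat_lit 0, nat_lit 0, nat_lit 0, nat_lit 1], []⟩) (.leaf ⟨nat_lit 1, nat_lit 2, nat_lit 2, nat_lit 0x948512103, nat_lit 0x6166862c42, nat_lit 0x44a09645, [], [], []⟩))))

noncomputable def F8 : GT Fa := .node (.node (.node (.node (.node (.leaf ⟨nat_lit 0, nat_lit 0, nat_lit 0, nat_lit 0, nat_lit 7465, nat_lit 19024, [], [], []⟩) (.leaf ⟨nat_lit 0, nat_lit 0, nat_lit 0, nat_lit 0, nat_lit 0, nat_lit 0, [nat_lit 0, nat_lit 0, nat_lit 0, nat_lit 0, nat_lit 0, nat_lit 0, nat_lit 0, nat_lit 0, nat_lit 0, nat_lit 0, nat_lit 0, nat_lit 1], [], []⟩)) (.leaf ⟨nat_lit 0, nat_lit 1, nat_lit 1, nat_lit 0, nat_lit 17840, nat_lit 0x92210, [nat_lit 0, nat_lit 0, nat_lit 0, nat_lit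 0, nat_lit 0, nat_lit 1, nat_lit 1, nat_lit 1], [], []⟩)) (.node (.leaf ⟨nat_lit 0, nat_lit 1, nat_lit 1, nat_lit 0, nat_lit 0x316c62d81, nat_lit 0x2c4b10962, [], [nat_lit 0, nat_lit 0, nat_lit 0, nat_lit 0, nat_lit 0, nat_lit 0, nat_lit 0, nat_lit 0, nat_lit 0, nat_lit 0, nat_lit 0, nat_lit 2, nat_lit 1], []⟩) (.leaf ⟨nat_lit 0, nat_lit 0, nat_lit 0, nat_lit 0, nat_lit 0, nat_lit 0, [nat_lit 0, nat_lit 0, nat_lit 0, nat_lit 0, nat_lit 0, nat_lit 0, nat_lit 0, nat_lit 0, nat_lit 4, nat_lit 0, nat_lit 0, nat_lit 104, nat_lit 62], [nat_lit 0, nat_lit 0, nat_lit 0, nat_lit 0, nat_lit 0, nat_lit 0, nat_lit 0, nat_lit 0, nat_lit 0, nat_lit 0, nat_lit 21], []⟩))) (.node (.node (.leaf ⟨nat_lit 0, nat_lit 1, nat_lit 1, nat_lit 0, nat_lit 0x5b022, nat_lit 0x62c41, [nat_lit 0, nat_lit 0, nat_lit 0, nat_lit 0, nat_lit 0, nat_lit 0, nat_lit 0, nat_lit 0, nat_lit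 0, nat_lit 0, nat_lit 1], [nat_lit 0, nat_lit 0, nat_lit 0, nat_lit 0, nat_lit 0, nat_lit 0, nat_lit 0, nat_lit 0, nat_lit 0, nat_lit 0, nat_lit 0, nat_lit 1], []⟩) (.leaf ⟨nat_lit 0, nat_lit 1, nat_lit 1, nat_lit 0, nat_lit 0x862c47, nat_lit 0x39d060622, [nat_lit 0, nat_lit 0, nat_lit 0, nat_lit 0, nat_lit 0, nat_lit 0, nat_lit 0, nat_lit 0, nat_lit 0, nat_lit 0, nat_lit 0, nat_lit 1], [nat_lit 0, nat_lit 0, nat_lit 0, nat_lit 0, nat_lit 0, nat_lit 0, nat_lit 1, nat_lit 1], []⟩)) (.node (.leaf ⟨nat_lit 0, nat_lit 1, nat_lit 1, nat_lit 0, nat_lit 18001, nat_lit 0x8c467, [nat_lit 0, nat_lit 0, nat_lit 0, nat_lit 0, nat_lit 0, nat_lit 0, nat_lit 0, nat_lit 2, nat_lit 1], [], []⟩) (.leaf ⟨nat_lit 0, nat_lit 1, nat_lit 1, nat_lit 0, nat_lit 0x10c384e2, nat_lit 0x64433104e1, [], [], []⟩)))) (.node (.node (.node (.leaf ⟨nat_lit 0, nat_lit 1, nat_lit 1, nat_lit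 0, nat_lit 0xc60442, nat_lit 0x2d8c58841, [], [nat_lit 0, nat_lit 0, nat_lit 0, nat_lit 0, nat_lit 0, nat_lit 0, nat_lit 0, nat_lit 0, nat_lit 0, nat_lit 0, nat_lit 0, nat_lit 0, nat_lit 1], []⟩) (.leaf ⟨nat_lit 0, nat_lit 1, nat_lit 1, nat_lit 0, nat_lit 16813, nat_lit 0x339c69, [nat_lit 0, nat_lit 0, nat_lit 0, nat_lit 0, nat_lit 0, nat_lit 0, nat_lit 3, nat_lit 3, nat_lit 2, nat_lit 0, nat_lit 0, nat_lit 3, nat_lit 3], [nat_lit 0, nat_lit 0, nat_lit 0, nat_lit 0, nat_lit 0, nat_lit 0, nat_lit 0, nat_lit 0, nat_lit 0, nat_lit 0, nat_lit 2], []⟩)) (.node (.leaf ⟨nat_lit 0, nat_lit 1, nat_lit 1, nat_lit 0, nat_lit 365, nat_lit 0x1ce2cca1, [nat_lit 0, nat_lit 0, nat_lit 0, nat_lit 0, nat_lit 0, nat_lit 1, nat_lit 0, nat_lit 0, nat_lit 0, nat_lit 0, nat_lit 1], [], []⟩) (.leaf ⟨nat_lit 0, nat_lit 0, nat_lit 0, nat_lit 0, nat_lit 0, nat_lit 0, [nat_lit 0,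 nat_lit 0, nat_lit 0, nat_lit 0, nat_lit 0, nat_lit 0, nat_lit 0, nat_lit 0, nat_lit 0, nat_lit 0, nat_lit 0, nat_lit 4, nat_lit 61], [], []⟩))) (.node (.node (.leaf ⟨nat_lit 0, nat_lit 1, nat_lit 1, nat_lit 0, nat_lit 45090, nat_lit 0x62c4b, [], [nat_lit 0, nat_lit 0, nat_lit 0, nat_lit 0, nat_lit 0, nat_lit 0, nat_lit 0, nat_lit 0, nat_lit 0, nat_lit 0, nat_lit 1, nat_lit 1], []⟩) (.leaf ⟨nat_lit 0, nat_lit 0, nat_lit 0, nat_lit 0, nat_lit 0, nat_lit 0, [nat_lit 0, nat_lit 0, nat_lit 0, nat_lit 0, nat_lit 0, nat_lit 0, nat_lit 0, nat_lit 1, nat_lit 20, nat_lit 0, nat_lit 0, nat_lit 0, nat_lit 9], [nat_lit 0, nat_lit 0, nat_lit 0, nat_lit 0, nat_lit 0, nat_lit 0, nat_lit 0, nat_lit 0, nat_lit 0, nat_lit 0, nat_lit 19, nat_lit 7], []⟩)) (.node (.leaf ⟨nat_lit 0, nat_lit 1, nat_lit 1, nat_lit 0, nat_lit 0x62c4b, nat_lit 45090, [nat_lit 0, nat_lit 0, nat_lit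 0, nat_lit 0, nat_lit 0, nat_lit 0, nat_lit 0, nat_lit 0, nat_lit 0, nat_lit 0, nat_lit 1, nat_lit 1], [], []⟩) (.leaf ⟨nat_lit 0, nat_lit 0, nat_lit 0, nat_lit 0, nat_lit 0x8c46489641, nat_lit 0x5a4a873508, [], [], []⟩))))

noncomputable def F9 : GT Fa := .node (.node (.node (.node (.node (.leaf ⟨nat_lit 0, nat_lit 1, nat_lit 1, nat_lit 0, nat_lit 8, nat_lit 16978, [], [nat_lit 0, nat_lit 0, nat_lit 0, nat_lit 0, nat_lit 0, nat_lit 0, nat_lit 0, nat_lit 1], []⟩) (.leaf ⟨nat_lit 0, nat_lit 0, nat_lit 0, nat_lit 0, nat_lit 0, nat_lit 0, [nat_lit 0, nat_lit 0, nat_lit 0, nat_lit 0, nat_lit 0, nat_lit 0, nat_lit 0, nat_lit 0, nat_lit 0, nat_lit 0, nat_lit 1], [], []⟩)) (.leaf ⟨nat_lit 0, nat_lit 1, nat_lit 1, nat_lit 0, nat_lit 429, nat_lit 0x2a945, [nat_lit 0, nat_lit 0, nat_lit 0, nat_lit 0, nat_lit 0, nat_lit 2], [], []⟩)) (.node (.leaf ⟨nat_lit 0, nat_lit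 1, nat_lit 1, nat_lit 0, nat_lit 0x4b10822, nat_lit 0x18b6302c, [], [nat_lit 0, nat_lit 0, nat_lit 0, nat_lit 0, nat_lit 0, nat_lit 0, nat_lit 0, nat_lit 0, nat_lit 0, nat_lit 0, nat_lit 1, nat_lit 2, nat_lit 1], []⟩) (.leaf ⟨nat_lit 0, nat_lit 0, nat_lit 0, nat_lit 0, nat_lit 0, nat_lit 0, [nat_lit 0, nat_lit 0, nat_lit 0, nat_lit 0, nat_lit 0, nat_lit 0, nat_lit 0, nat_lit 0, nat_lit 0, nat_lit 0, nat_lit 38], [nat_lit 0, nat_lit 0, nat_lit 0, nat_lit 0, nat_lit 0, nat_lit 0, nat_lit 0, nat_lit 0, nat_lit 0, nat_lit 0, nat_lit 0, nat_lit 232, nat_lit 133], []⟩))) (.node (.node (.leaf ⟨nat_lit 0, nat_lit 0, nat_lit 0, nat_lit 0, nat_lit 0x18d2c0a109c22, nat_lit 0x18b82d6539462, [], [], []⟩) (.leaf ⟨nat_lit 0, nat_lit 1, nat_lit 1, nat_lit 0, nat_lit 0x1160622, nat_lit 0x6460180821, [nat_lit 0, nat_lit 0, nat_lit 0, nat_lit 0, nat_lit 0, nat_lit 1, nat_lit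 0, nat_lit 1], [nat_lit 0, nat_lit 0, nat_lit 0, nat_lit 0, nat_lit 0, nat_lit 0, nat_lit 0, nat_lit 0, nat_lit 0, nat_lit 0, nat_lit 0, nat_lit 1], []⟩)) (.node (.leaf ⟨nat_lit 0, nat_lit 1, nat_lit 1, nat_lit 0, nat_lit 0x318110821, nat_lit 0xc60442, [], [nat_lit 0, nat_lit 0, nat_lit 0, nat_lit 0, nat_lit 0, nat_lit 0, nat_lit 0, nat_lit 0, nat_lit 0, nat_lit 0, nat_lit 2, nat_lit 0, nat_lit 1], []⟩) (.leaf ⟨nat_lit 0, nat_lit 1, nat_lit 1, nat_lit 0, nat_lit 0x318b108e8, nat_lit 0xc82d2b62c42, [nat_lit 0, nat_lit 0, nat_lit 0, nat_lit 0, nat_lit 0, nat_lit 0, nat_lit 0, nat_lit 0, nat_lit 1], [], []⟩)))) (.node (.node (.node (.leaf ⟨nat_lit 2, nat_lit 0, nat_lit 0, nat_lit 0x84163021, nat_lit 0, nat_lit 0, [], [], [nat_lit 0x84163021, nat_lit 0x21058c]⟩) (.leaf ⟨nat_lit 0, nat_lit 1, nat_lit 1, nat_lit 0, nat_lit 0x318110910, nat_lit 0xc60c2214421,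 [nat_lit 0, nat_lit 0, nat_lit 0, nat_lit 0, nat_lit 0, nat_lit 0, nat_lit 1], [nat_lit 0, nat_lit 0, nat_lit 0, nat_lit 0, nat_lit 0, nat_lit 0, nat_lit 0, nat_lit 1, nat_lit 0, nat_lit 0, nat_lit 0, nat_lit 0, nat_lit 1], []⟩)) (.node (.leaf ⟨nat_lit 0, nat_lit 1, nat_lit 1, nat_lit 0, nat_lit 0x4b6058c, nat_lit 0x425882c, [nat_lit 0, nat_lit 0, nat_lit 0, nat_lit 0, nat_lit 0, nat_lit 0, nat_lit 0, nat_lit 0, nat_lit 0, nat_lit 0, nat_lit 0, nat_lit 0, nat_lit 1], [nat_lit 0, nat_lit 0, nat_lit 0, nat_lit 0, nat_lit 0, nat_lit 0, nat_lit 0, nat_lit 0, nat_lit 0, nat_lit 0, nat_lit 1], []⟩) (.leaf ⟨nat_lit 0, nat_lit 0, nat_lit 0, nat_lit 0, nat_lit 0, nat_lit 0, [], [nat_lit 0, nat_lit 0, nat_lit 0, nat_lit 0, nat_lit 0, nat_lit 0, nat_lit 0, nat_lit 0, nat_lit 0, nat_lit 0, nat_lit 0, nat_lit 0, nat_lit 472], []⟩))) (.node (.node (.leaf ⟨nat_lit 0,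 nat_lit 1, nat_lit 1, nat_lit 0, nat_lit 0x16210581, nat_lit 0x220b181, [nat_lit 0, nat_lit 0, nat_lit 0, nat_lit 0, nat_lit 0, nat_lit 0, nat_lit 0, nat_lit 0, nat_lit 0, nat_lit 0, nat_lit 0, nat_lit 0, nat_lit 1], [nat_lit 0, nat_lit 0, nat_lit 0, nat_lit 0, nat_lit 0, nat_lit 0, nat_lit 0, nat_lit 0, nat_lit 0, nat_lit 0, nat_lit 1, nat_lit 1], []⟩) (.leaf ⟨nat_lit 0, nat_lit 0, nat_lit 0, nat_lit 0, nat_lit 0, nat_lit 0, [nat_lit 0, nat_lit 0, nat_lit 0, nat_lit 0, nat_lit 0, nat_lit 0, nat_lit 0, nat_lit 0, nat_lit 0, nat_lit 0, nat_lit 41, nat_lit 16], [nat_lit 0, nat_lit 0, nat_lit 0, nat_lit 0, nat_lit 0, nat_lit 0, nat_lit 0, nat_lit 0, nat_lit 44, nat_lit 0, nat_lit 0, nat_lit 0, nat_lit 17], []⟩)) (.node (.leaf ⟨nat_lit 0, nat_lit 1, nat_lit 1, nat_lit 0, nat_lit 423, nat_lit 0x1690a629, [nat_lit 0, nat_lit 0, nat_lit 0, nat_lit 0, nat_lit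 0, nat_lit 1], [nat_lit 0, nat_lit 0, nat_lit 0, nat_lit 0, nat_lit 0, nat_lit 0, nat_lit 1], []⟩) (.leaf ⟨nat_lit 0, nat_lit 2, nat_lit 2, nat_lit 0, nat_lit 0x1675b90568621, nat_lit 0xc420912b063, [], [nat_lit 0, nat_lit 0, nat_lit 1], []⟩))))

noncomputable def F10 : GT Fa := .node (.node (.node (.node (.node (.leaf ⟨nat_lit 2, nat_lit 0, nat_lit 0, nat_lit 9, nat_lit 0, nat_lit 0, [], [nat_lit 0, nat_lit 0, nat_lit 0, nat_lit 0, nat_lit 0, nat_lit 0, nat_lit 0, nat_lit 0, nat_lit 1], [nat_lit 0x28b0e3]⟩) (.leaf ⟨nat_lit 0, nat_lit 0, nat_lit 0, nat_lit 0, nat_lit 0, nat_lit 0, [nat_lit 0, nat_lit 0, nat_lit 0, nat_lit 0, nat_lit 0, nat_lit 0, nat_lit 0, nat_lit 0, nat_lit 0, nat_lit 1], [], []⟩)) (.leaf ⟨nat_lit 0, nat_lit 1, nat_lit 1, nat_lit 0, nat_lit 17837, nat_lit 0x69e31, [nat_lit 0, nat_lit 0, nat_lit 0, nat_lit 0, nat_lit 0, nat_lit 2, nat_lit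 0, nat_lit 1], [], []⟩)) (.node (.leaf ⟨nat_lit 0, nat_lit 0, nat_lit 0, nat_lit 0, nat_lit 0x6044242d27, nat_lit 0x8483163162, [], [], []⟩) (.leaf ⟨nat_lit 0, nat_lit 1, nat_lit 1, nat_lit 0, nat_lit 16937, nat_lit 0xc80909, [nat_lit 0, nat_lit 0, nat_lit 0, nat_lit 0, nat_lit 0, nat_lit 0, nat_lit 0, nat_lit 0, nat_lit 2, nat_lit 0, nat_lit 0, nat_lit 46, nat_lit 28], [nat_lit 0, nat_lit 0, nat_lit 0, nat_lit 0, nat_lit 0, nat_lit 0, nat_lit 0, nat_lit 0, nat_lit 0, nat_lit 0, nat_lit 10], []⟩))) (.node (.node (.leaf ⟨nat_lit 1, nat_lit 1, nat_lit 1, nat_lit 0xe748aa0a484, nat_lit 0x7344b6b8eb, nat_lit 0x18b82d6539462, [nat_lit 0, nat_lit 0, nat_lit 0, nat_lit 0, nat_lit 2, nat_lit 1, nat_lit 1, nat_lit 0, nat_lit 0, nat_lit 0, nat_lit 2], [nat_lit 1, nat_lit 0, nat_lit 0, nat_lit 0, nat_lit 0, nat_lit 0, nat_lit 0, nat_lit 1, nat_lit 0, nat_lit 0,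 nat_lit 0, nat_lit 1], []⟩) (.leaf ⟨nat_lit 0, nat_lit 1, nat_lit 1, nat_lit 0, nat_lit 0x18b144e3, nat_lit 0x5a0eb62c62, [nat_lit 0, nat_lit 0, nat_lit 0, nat_lit 0, nat_lit 0, nat_lit 1, nat_lit 1, nat_lit 2, nat_lit 2], [nat_lit 0, nat_lit 0, nat_lit 0, nat_lit 0, nat_lit 0, nat_lit 0, nat_lit 0, nat_lit 0, nat_lit 0, nat_lit 0, nat_lit 4, nat_lit 2], []⟩)) (.node (.leaf ⟨nat_lit 0, nat_lit 1, nat_lit 1, nat_lit 0, nat_lit 0xb1058c, nat_lit 0x212d81, [], [nat_lit 0, nat_lit 0, nat_lit 0, nat_lit 0, nat_lit 0, nat_lit 0, nat_lit 0, nat_lit 0, nat_lit 0, nat_lit 0, nat_lit 2, nat_lit 1, nat_lit 1], []⟩) (.leaf ⟨nat_lit 0, nat_lit 1, nat_lit 1, nat_lit 0, nat_lit 0x18308a30, nat_lit 0x62422884e1, [], [], []⟩)))) (.node (.node (.node (.leaf ⟨nat_lit 2, nat_lit 0, nat_lit 0, nat_lit 0x2c420b181, nat_lit 0, nat_lit 0, [], [], [nat_lit 0x21058c, nat_lit 0x21058c]⟩)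 (.leaf ⟨nat_lit 0, nat_lit 1, nat_lit 1, nat_lit 0, nat_lit 0x418c90442, nat_lit 0xc5943109501, [nat_lit 0, nat_lit 0, nat_lit 0, nat_lit 0, nat_lit 0, nat_lit 1, nat_lit 1], [nat_lit 0, nat_lit 0, nat_lit 0, nat_lit 0, nat_lit 0, nat_lit 0, nat_lit 0, nat_lit 1, nat_lit 0, nat_lit 0, nat_lit 0, nat_lit 0, nat_lit 1], []⟩)) (.node (.leaf ⟨nat_lit 0, nat_lit 1, nat_lit 1, nat_lit 0, nat_lit 0x62c41, nat_lit 0x5b022, [nat_lit 0, nat_lit 0, nat_lit 0, nat_lit 0, nat_lit 0, nat_lit 0, nat_lit 0, nat_lit 0, nat_lit 0, nat_lit 0, nat_lit 0, nat_lit 1], [nat_lit 0, nat_lit 0, nat_lit 0, nat_lit 0, nat_lit 0, nat_lit 0, nat_lit 0, nat_lit 0, nat_lit 0, nat_lit 0, nat_lit 1], []⟩) (.leaf ⟨nat_lit 0, nat_lit 0, nat_lit 0, nat_lit 0, nat_lit 0, nat_lit 0, [nat_lit 0, nat_lit 0, nat_lit 0, nat_lit 0, nat_lit 0, nat_lit 0, nat_lit 0, nat_lit 0, nat_lit 0, nat_lit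 0, nat_lit 0, nat_lit 0, nat_lit 472], [], []⟩))) (.node (.node (.leaf ⟨nat_lit 0, nat_lit 1, nat_lit 1, nat_lit 0, nat_lit 0x2210581, nat_lit 0x1620b181, [], [nat_lit 0, nat_lit 0, nat_lit 0, nat_lit 0, nat_lit 0, nat_lit 0, nat_lit 0, nat_lit 0, nat_lit 0, nat_lit 0, nat_lit 1, nat_lit 1, nat_lit 1], []⟩) (.leaf ⟨nat_lit 0, nat_lit 0, nat_lit 0, nat_lit 0, nat_lit 0, nat_lit 0, [nat_lit 0, nat_lit 0, nat_lit 0, nat_lit 0, nat_lit 0, nat_lit 0, nat_lit 0, nat_lit 0, nat_lit 44, nat_lit 0, nat_lit 0, nat_lit 0, nat_lit 17], [nat_lit 0, nat_lit 0, nat_lit 0, nat_lit 0, nat_lit 0, nat_lit 0, nat_lit 0, nat_lit 0, nat_lit 0, nat_lit 0, nat_lit 41, nat_lit 16], []⟩)) (.node (.leaf ⟨nat_lit 0, nat_lit 1, nat_lit 1, nat_lit 0, nat_lit 0x1d8c08902, nat_lit 0xc0958109563, [], [nat_lit 0, nat_lit 0, nat_lit 0, nat_lit 0, nat_lit 0, nat_lit 1, nat_lit 1, nat_lit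 0, nat_lit 0, nat_lit 0, nat_lit 0, nat_lit 0, nat_lit 1], []⟩) (.leaf ⟨nat_lit 2, nat_lit 0, nat_lit 0, nat_lit 0x16858cb120601, nat_lit 0, nat_lit 0, [nat_lit 0, nat_lit 0, nat_lit 1], [nat_lit 0, nat_lit 0, nat_lit 0, nat_lit 0, nat_lit 1], [nat_lit 4, nat_lit 0xd688a874622, nat_lit 14699]⟩))))

noncomputable def F11 : GT Fa := .node (.node (.node (.node (.node (.leaf ⟨nat_lit 0, nat_lit 0, nat_lit 0, nat_lit 0, nat_lit 0xd8090c, nat_lit 0x28b0e3, [], [], []⟩) (.leaf ⟨nat_lit 0, nat_lit 0, nat_lit 0, nat_lit 0, nat_lit 0, nat_lit 0, [nat_lit 0, nat_lit 0, nat_lit 0, nat_lit 0, nat_lit 0, nat_lit 0, nat_lit 0, nat_lit 0, nat_lit 1], [], []⟩)) (.leaf ⟨nat_lit 0, nat_lit 1, nat_lit 1, nat_lit 0, nat_lit 0x631230a442, nat_lit 0xc09ca1094eb, [nat_lit 0, nat_lit 0, nat_lit 0, nat_lit 0, nat_lit 0, nat_lit 2, nat_lit 0, nat_lit 1], [nat_lit 0, nat_lit 0,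 nat_lit 0, nat_lit 0, nat_lit 0, nat_lit 0, nat_lit 0, nat_lit 0, nat_lit 0, nat_lit 0, nat_lit 0, nat_lit 0, nat_lit 1], []⟩)) (.node (.leaf ⟨nat_lit 1, nat_lit 1, nat_lit 1, nat_lit 0x58cec62562, nat_lit 0x84163021, nat_lit 0x8483163162, [nat_lit 0, nat_lit 0, nat_lit 0, nat_lit 0, nat_lit 1, nat_lit 1, nat_lit 0, nat_lit 1, nat_lit 1], [nat_lit 0, nat_lit 0, nat_lit 0, nat_lit 0, nat_lit 0, nat_lit 0, nat_lit 0, nat_lit 0, nat_lit 0, nat_lit 0, nat_lit 2, nat_lit 2, nat_lit 1], []⟩) (.leaf ⟨nat_lit 0, nat_lit 1, nat_lit 1, nat_lit 0, nat_lit 0x92203, nat_lit 0xb9a029, [nat_lit 0, nat_lit 0, nat_lit 0, nat_lit 0, nat_lit 0, nat_lit 0, nat_lit 0, nat_lit 0, nat_lit 0, nat_lit 0, nat_lit 0, nat_lit 73, nat_lit 44], [nat_lit 0, nat_lit 0, nat_lit 0, nat_lit 0, nat_lit 0, nat_lit 0, nat_lit 0, nat_lit 0, nat_lit 0, nat_lit 0, nat_lit 12], []⟩))) (.node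 (.node (.leaf ⟨nat_lit 2, nat_lit 0, nat_lit 0, nat_lit 0x1633b0e5748a1, nat_lit 0, nat_lit 0, [nat_lit 1, nat_lit 0, nat_lit 0, nat_lit 0, nat_lit 0, nat_lit 0, nat_lit 0, nat_lit 1, nat_lit 0, nat_lit 0, nat_lit 0, nat_lit 1], [nat_lit 0, nat_lit 0, nat_lit 0, nat_lit 0, nat_lit 2, nat_lit 1, nat_lit 1, nat_lit 0, nat_lit 0, nat_lit 0, nat_lit 2], [nat_lit 0x6952489430, nat_lit 0xe748aa0a484]⟩) (.leaf ⟨nat_lit 0, nat_lit 1, nat_lit 1, nat_lit 0, nat_lit 0x1ac088e8, nat_lit 0x6442240661, [nat_lit 0, nat_lit 0, nat_lit 0, nat_lit 0, nat_lit 0, nat_lit 1], [nat_lit 0, nat_lit 0, nat_lit 0, nat_lit 0, nat_lit 0, nat_lit 0, nat_lit 1, nat_lit 1, nat_lit 0, nat_lit 0, nat_lit 0, nat_lit 1], []⟩)) (.node (.leaf ⟨nat_lit 0, nat_lit 1, nat_lit 1, nat_lit 0, nat_lit 0xb1082c, nat_lit 0x25b181, [nat_lit 0, nat_lit 0, nat_lit 0, nat_lit 0, nat_lit 0, nat_lit 0,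 nat_lit 0, nat_lit 0, nat_lit 0, nat_lit 0, nat_lit 0, nat_lit 0, nat_lit 1], [nat_lit 0, nat_lit 0, nat_lit 0, nat_lit 0, nat_lit 0, nat_lit 0, nat_lit 0, nat_lit 0, nat_lit 0, nat_lit 0, nat_lit 0, nat_lit 1], []⟩) (.leaf ⟨nat_lit 0, nat_lit 1, nat_lit 1, nat_lit 0, nat_lit 0x89c29, nat_lit 0x1a188521, [nat_lit 0, nat_lit 0, nat_lit 0, nat_lit 0, nat_lit 0, nat_lit 0, nat_lit 0, nat_lit 0, nat_lit 1], [], []⟩)))) (.node (.node (.node (.leaf ⟨nat_lit 2, nat_lit 0, nat_lit 0, nat_lit 0x2d6212d8c, nat_lit 0, nat_lit 0, [], [nat_lit 0, nat_lit 0, nat_lit 0, nat_lit 0, nat_lit 1], [nat_lit 0x84b6316b, nat_lit 0x84b6316b]⟩) (.leaf ⟨nat_lit 0, nat_lit 1, nat_lit 1, nat_lit 0, nat_lit 1251, nat_lit 0x2dae72210, [nat_lit 0, nat_lit 0, nat_lit 0, nat_lit 0, nat_lit 0, nat_lit 1, nat_lit 0, nat_lit 0, nat_lit 0, nat_lit 0, nat_lit 1], [nat_lit 0, nat_lit 0, nat_lit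 0, nat_lit 0, nat_lit 0, nat_lit 0, nat_lit 3, nat_lit 3, nat_lit 2, nat_lit 0, nat_lit 0, nat_lit 3, nat_lit 3], []⟩)) (.node (.leaf ⟨nat_lit 0, nat_lit 1, nat_lit 1, nat_lit 0, nat_lit 0x16212d81, nat_lit 0x1625b18b, [nat_lit 0, nat_lit 0, nat_lit 0, nat_lit 0, nat_lit 0, nat_lit 0, nat_lit 0, nat_lit 0, nat_lit 0, nat_lit 0, nat_lit 1, nat_lit 0, nat_lit 1], [nat_lit 0, nat_lit 0, nat_lit 0, nat_lit 0, nat_lit 0, nat_lit 0, nat_lit 0, nat_lit 0, nat_lit 0, nat_lit 0, nat_lit 0, nat_lit 1], []⟩) (.leaf ⟨nat_lit 0, nat_lit 1, nat_lit 1, nat_lit 0, nat_lit 7591, nat_lit 0x94867, [nat_lit 0, nat_lit 0, nat_lit 0, nat_lit 0, nat_lit 0, nat_lit 0, nat_lit 0, nat_lit 0, nat_lit 0, nat_lit 0, nat_lit 0, nat_lit 2, nat_lit 105], [], []⟩))) (.node (.node (.leaf ⟨nat_lit 0, nat_lit 1, nat_lit 1, nat_lit 0, nat_lit 0x60441, nat_lit 0x5b162, [], [nat_lit 0, nat_lit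 0, nat_lit 0, nat_lit 0, nat_lit 0, nat_lit 0, nat_lit 0, nat_lit 0, nat_lit 0, nat_lit 0, nat_lit 1, nat_lit 1], []⟩) (.leaf ⟨nat_lit 0, nat_lit 1, nat_lit 1, nat_lit 0, nat_lit 0xc58910, nat_lit 0x62e0b9ada2, [nat_lit 0, nat_lit 0, nat_lit 0, nat_lit 0, nat_lit 0, nat_lit 0, nat_lit 1, nat_lit 0, nat_lit 20, nat_lit 0, nat_lit 0, nat_lit 0, nat_lit 9], [nat_lit 0, nat_lit 0, nat_lit 0, nat_lit 0, nat_lit 0, nat_lit 0, nat_lit 0, nat_lit 0, nat_lit 0, nat_lit 0, nat_lit 19, nat_lit 6], []⟩)) (.node (.leaf ⟨nat_lit 0, nat_lit 1, nat_lit 1, nat_lit 0, nat_lit 0x6303212122, nat_lit 0x18c1c42910821, [], [nat_lit 0, nat_lit 0, nat_lit 0, nat_lit 0, nat_lit 0, nat_lit 1, nat_lit 2, nat_lit 0, nat_lit 0, nat_lit 0, nat_lit 0, nat_lit 0, nat_lit 1], []⟩) (.leaf ⟨nat_lit 1, nat_lit 2, nat_lit 2, nat_lit 0x5b0eb49dc2, nat_lit 0xad420882ae45, nat_lit 0x1ce99ca3744a1,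 [nat_lit 0, nat_lit 0, nat_lit 1], [], []⟩))))

noncomputable def F12 : GT Fa := .node (.node (.node (.node (.node (.leaf ⟨nat_lit 0, nat_lit 1, nat_lit 1, nat_lit 0, nat_lit 9, nat_lit 0xd92107, [], [nat_lit 0, nat_lit 0, nat_lit 0, nat_lit 0, nat_lit 0, nat_lit 0, nat_lit 0, nat_lit 0, nat_lit 1], []⟩) (.leaf ⟨nat_lit 0, nat_lit 0, nat_lit 0, nat_lit 0, nat_lit 0, nat_lit 0, [nat_lit 0, nat_lit 0, nat_lit 0, nat_lit 0, nat_lit 0, nat_lit 0, nat_lit 0, nat_lit 1], [], []⟩)) (.leaf ⟨nat_lit 0, nat_lit 1, nat_lit 1, nat_lit 0, nat_lit 11491, nat_lit 0x16d8ad67, [nat_lit 0, nat_lit 0, nat_lit 0, nat_lit 0, nat_lit 0, nat_lit 0, nat_lit 0, nat_lit 0, nat_lit 0, nat_lit 0, nat_lit 1], [nat_lit 0, nat_lit 0, nat_lit 0, nat_lit 0, nat_lit 0, nat_lit 1, nat_lit 1], []⟩)) (.node (.leaf ⟨nat_lit 0, nat_lit 1, nat_lit 1, nat_lit 0, nat_lit 0xb8ca03, nat_lit 0x16b82172,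 [nat_lit 0, nat_lit 0, nat_lit 0, nat_lit 0, nat_lit 0, nat_lit 0, nat_lit 1, nat_lit 1, nat_lit 1, nat_lit 0, nat_lit 1], [nat_lit 0, nat_lit 0, nat_lit 0, nat_lit 0, nat_lit 0, nat_lit 1], []⟩) (.leaf ⟨nat_lit 0, nat_lit 1, nat_lit 1, nat_lit 0, nat_lit 0x635905a842, nat_lit 0xc484a109521, [nat_lit 0, nat_lit 0, nat_lit 0, nat_lit 0, nat_lit 0, nat_lit 0, nat_lit 0, nat_lit 0, nat_lit 1, nat_lit 0, nat_lit 18], [nat_lit 0, nat_lit 0, nat_lit 0, nat_lit 0, nat_lit 0, nat_lit 0, nat_lit 0, nat_lit 0, nat_lit 0, nat_lit 0, nat_lit 0, nat_lit 106, nat_lit 62], []⟩))) (.node (.node (.leaf ⟨nat_lit 2, nat_lit 0, nat_lit 0, nat_lit 0xc0830b064, nat_lit 0, nat_lit 0, [nat_lit 1, nat_lit 0, nat_lit 0, nat_lit 0, nat_lit 0, nat_lit 0, nat_lit 0, nat_lit 1, nat_lit 0, nat_lit 0, nat_lit 0, nat_lit 1], [nat_lit 0, nat_lit 0, nat_lit 0, nat_lit 0, nat_lit 2, nat_lit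 1, nat_lit 1, nat_lit 0, nat_lit 0, nat_lit 0, nat_lit 2], [nat_lit 0xe748aa0a484, nat_lit 0x18d2c0a109c22]⟩) (.leaf ⟨nat_lit 0, nat_lit 1, nat_lit 1, nat_lit 0, nat_lit 0x100a032, nat_lit 0x17291e2b, [nat_lit 0, nat_lit 0, nat_lit 0, nat_lit 0, nat_lit 0, nat_lit 1, nat_lit 0, nat_lit 1], [nat_lit 0, nat_lit 0, nat_lit 0, nat_lit 0, nat_lit 0, nat_lit 0, nat_lit 0, nat_lit 0, nat_lit 0, nat_lit 0, nat_lit 0, nat_lit 2], []⟩)) (.node (.leaf ⟨nat_lit 0, nat_lit 1, nat_lit 1, nat_lit 0, nat_lit 0x28a420c65, nat_lit 0x15ad738b3, [], [nat_lit 0, nat_lit 0, nat_lit 0, nat_lit 0, nat_lit 0, nat_lit 0, nat_lit 0, nat_lit 0, nat_lit 0, nat_lit 0, nat_lit 3, nat_lit 2, nat_lit 1], []⟩) (.leaf ⟨nat_lit 0, nat_lit 1, nat_lit 1, nat_lit 0, nat_lit 0x24c4b562, nat_lit 0x5ad913ae62, [], [], []⟩)))) (.node (.node (.node (.leaf ⟨nat_lit 2, nat_lit 0, nat_lit 0, nat_lit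 0x7344b6b8eb, nat_lit 0, nat_lit 0, [nat_lit 0, nat_lit 0, nat_lit 0, nat_lit 0, nat_lit 1], [nat_lit 1], [nat_lit 0xb5a4b39c084, nat_lit 0xd2a57374482]⟩) (.leaf ⟨nat_lit 0, nat_lit 1, nat_lit 1, nat_lit 0, nat_lit 0xd60502, nat_lit 0x6045180621, [], [nat_lit 0, nat_lit 0, nat_lit 0, nat_lit 0, nat_lit 0, nat_lit 0, nat_lit 0, nat_lit 0, nat_lit 0, nat_lit 0, nat_lit 0, nat_lit 1], []⟩)) (.node (.leaf ⟨nat_lit 0, nat_lit 1, nat_lit 1, nat_lit 0, nat_lit 0x420882c, nat_lit 0x4b62d8c, [nat_lit 0, nat_lit 0, nat_lit 0, nat_lit 0, nat_lit 0, nat_lit 0, nat_lit 0, nat_lit 0, nat_lit 0, nat_lit 0, nat_lit 1, nat_lit 0, nat_lit 1], [], []⟩) (.leaf ⟨nat_lit 0, nat_lit 1, nat_lit 1, nat_lit 0, nat_lit 0xc08a30, nat_lit 0x320110501, [nat_lit 0, nat_lit 0, nat_lit 0, nat_lit 0, nat_lit 0, nat_lit 0, nat_lit 0, nat_lit 0, nat_lit 1, nat_lit 0, nat_lit 0, nat_lit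 0, nat_lit 208], [], []⟩))) (.node (.node (.leaf ⟨nat_lit 0, nat_lit 1, nat_lit 1, nat_lit 0, nat_lit 67948, nat_lit 0x16b12d8c, [], [nat_lit 0, nat_lit 0, nat_lit 0, nat_lit 0, nat_lit 0, nat_lit 0, nat_lit 0, nat_lit 0, nat_lit 0, nat_lit 0, nat_lit 1, nat_lit 1, nat_lit 1], []⟩) (.leaf ⟨nat_lit 0, nat_lit 1, nat_lit 1, nat_lit 0, nat_lit 9585, nat_lit 0xb5ad09, [nat_lit 0, nat_lit 0, nat_lit 0, nat_lit 0, nat_lit 0, nat_lit 0, nat_lit 0, nat_lit 0, nat_lit 0, nat_lit 0, nat_lit 20, nat_lit 7], [nat_lit 0, nat_lit 0, nat_lit 0, nat_lit 0, nat_lit 0, nat_lit 0, nat_lit 0, nat_lit 0, nat_lit 21, nat_lit 0, nat_lit 0, nat_lit 0, nat_lit 9], []⟩)) (.node (.leaf ⟨nat_lit 0, nat_lit 1, nat_lit 1, nat_lit 0, nat_lit 0x62c47, nat_lit 0x641628adab, [nat_lit 0, nat_lit 0, nat_lit 0, nat_lit 0, nat_lit 0, nat_lit 0, nat_lit 0, nat_lit 0, nat_lit 0, nat_lit 0,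 nat_lit 0, nat_lit 1], [nat_lit 0, nat_lit 0, nat_lit 0, nat_lit 0, nat_lit 0, nat_lit 0, nat_lit 1], []⟩) (.leaf ⟨nat_lit 0, nat_lit 2, nat_lit 2, nat_lit 0, nat_lit 0x18c1848924448, nat_lit 0x10694916282c, [nat_lit 0, nat_lit 0, nat_lit 2], [], []⟩))))

noncomputable def F13 : GT Fa := .node (.node (.node (.node (.node (.leaf ⟨nat_lit 2, nat_lit 0, nat_lit 0, nat_lit 10, nat_lit 0, nat_lit 0, [], [nat_lit 0, nat_lit 0, nat_lit 0, nat_lit 0, nat_lit 0, nat_lit 0, nat_lit 0, nat_lit 0, nat_lit 0, nat_lit 1], [nat_lit 627]⟩) (.leaf ⟨nat_lit 0, nat_lit 0, nat_lit 0, nat_lit 0, nat_lit 0, nat_lit 0, [nat_lit 0, nat_lit 0, nat_lit 0, nat_lit 0, nat_lit 0, nat_lit 0, nat_lit 1], [], []⟩)) (.leaf ⟨nat_lit 0, nat_lit 1, nat_lit 1, nat_lit 0, nat_lit 0x42ce3, nat_lit 0x16d8a56b, [nat_lit 0, nat_lit 0, nat_lit 0, nat_lit 0, nat_lit 0, nat_lit 0, nat_lit 0, nat_lit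 0, nat_lit 0, nat_lit 0, nat_lit 1], [nat_lit 0, nat_lit 0, nat_lit 0, nat_lit 0, nat_lit 0, nat_lit 1, nat_lit 1, nat_lit 1], []⟩)) (.node (.leaf ⟨nat_lit 0, nat_lit 1, nat_lit 1, nat_lit 0, nat_lit 0xb595255b581, nat_lit 0x4490a18c, [nat_lit 0, nat_lit 0, nat_lit 0, nat_lit 0, nat_lit 1, nat_lit 1, nat_lit 1, nat_lit 3, nat_lit 3], [nat_lit 0, nat_lit 0, nat_lit 0, nat_lit 0, nat_lit 0, nat_lit 0, nat_lit 0, nat_lit 0, nat_lit 0, nat_lit 0, nat_lit 4, nat_lit 4, nat_lit 1], []⟩) (.leaf ⟨nat_lit 0, nat_lit 1, nat_lit 1, nat_lit 0, nat_lit 0xab5c0a76ad65, nat_lit 0x5739b169484, [nat_lit 0, nat_lit 0, nat_lit 0, nat_lit 0, nat_lit 0, nat_lit 0, nat_lit 0, nat_lit 0, nat_lit 2, nat_lit 0, nat_lit 1], [nat_lit 0, nat_lit 0, nat_lit 0, nat_lit 0, nat_lit 0, nat_lit 0, nat_lit 0, nat_lit 0, nat_lit 0, nat_lit 0, nat_lit 0, nat_lit 48, nat_lit 25], []⟩))) (.node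 (.node (.leaf ⟨nat_lit 2, nat_lit 0, nat_lit 0, nat_lit 0xc5c0b064225, nat_lit 0, nat_lit 0, [nat_lit 0, nat_lit 0, nat_lit 0, nat_lit 0, nat_lit 1, nat_lit 1, nat_lit 1, nat_lit 0, nat_lit 0, nat_lit 0, nat_lit 2], [nat_lit 1, nat_lit 0, nat_lit 0, nat_lit 0, nat_lit 0, nat_lit 0, nat_lit 0, nat_lit 1, nat_lit 0, nat_lit 0, nat_lit 0, nat_lit 1], [nat_lit 0xe749732a421, nat_lit 0x7344b69201]⟩) (.leaf ⟨nat_lit 0, nat_lit 1, nat_lit 1, nat_lit 0, nat_lit 0xb59c4590425, nat_lit 0x5b64212d81, [nat_lit 1, nat_lit 0, nat_lit 0, nat_lit 0, nat_lit 0, nat_lit 1, nat_lit 1, nat_lit 5, nat_lit 5], [nat_lit 0, nat_lit 0, nat_lit 0, nat_lit 0, nat_lit 0, nat_lit 0, nat_lit 0, nat_lit 0, nat_lit 0, nat_lit 0, nat_lit 9, nat_lit 11, nat_lit 2], []⟩)) (.node (.leaf ⟨nat_lit 0, nat_lit 1, nat_lit 1, nat_lit 0, nat_lit 0x18c08902, nat_lit 0x2ad6508827, [], [nat_lit 0,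 nat_lit 0, nat_lit 0, nat_lit 0, nat_lit 0, nat_lit 1, nat_lit 0, nat_lit 0, nat_lit 0, nat_lit 0, nat_lit 0, nat_lit 0, nat_lit 1], []⟩) (.leaf ⟨nat_lit 0, nat_lit 1, nat_lit 1, nat_lit 0, nat_lit 0x3a0e3, nat_lit 0xb40509, [], [], []⟩)))) (.node (.node (.node (.leaf ⟨nat_lit 2, nat_lit 0, nat_lit 0, nat_lit 0xd2c0a184641, nat_lit 0, nat_lit 0, [nat_lit 1], [nat_lit 0, nat_lit 0, nat_lit 0, nat_lit 0, nat_lit 2], [nat_lit 0xdd060c64, nat_lit 0xb495048c985]⟩) (.leaf ⟨nat_lit 0, nat_lit 1, nat_lit 1, nat_lit 0, nat_lit 0x762da2, nat_lit 0x416b61d62, [nat_lit 0, nat_lit 0, nat_lit 0, nat_lit 0, nat_lit 0, nat_lit 0, nat_lit 0, nat_lit 0, nat_lit 1, nat_lit 0, nat_lit 0, nat_lit 1], [nat_lit 0, nat_lit 0, nat_lit 0, nat_lit 0, nat_lit 0, nat_lit 0, nat_lit 1], []⟩)) (.node (.leaf ⟨nat_lit 0, nat_lit 1, nat_lit 1, nat_lit 0, nat_lit 0x160441, nat_lit 0xb60441,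 [], [nat_lit 0, nat_lit 0, nat_lit 0, nat_lit 0, nat_lit 0, nat_lit 0, nat_lit 0, nat_lit 0, nat_lit 0, nat_lit 0, nat_lit 2, nat_lit 1], []⟩) (.leaf ⟨nat_lit 0, nat_lit 1, nat_lit 1, nat_lit 0, nat_lit 0x318140847, nat_lit 0x5b1811092b, [], [nat_lit 0, nat_lit 0, nat_lit 0, nat_lit 0, nat_lit 0, nat_lit 0, nat_lit 0, nat_lit 0, nat_lit 0, nat_lit 0, nat_lit 0, nat_lit 1, nat_lit 35], []⟩))) (.node (.node (.leaf ⟨nat_lit 0, nat_lit 1, nat_lit 1, nat_lit 0, nat_lit 557, nat_lit 0x1119d23, [nat_lit 0, nat_lit 0, nat_lit 0, nat_lit 0, nat_lit 0, nat_lit 1, nat_lit 0, nat_lit 1], [], []⟩) (.leaf ⟨nat_lit 0, nat_lit 1, nat_lit 1, nat_lit 0, nat_lit 0x18758831, nat_lit 0x3162e02, [nat_lit 0, nat_lit 0, nat_lit 0, nat_lit 0, nat_lit 0, nat_lit 0, nat_lit 0, nat_lit 0, nat_lit 0, nat_lit 0, nat_lit 20, nat_lit 6], [nat_lit 0, nat_lit 0, nat_lit 0, nat_lit 0,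 nat_lit 0, nat_lit 0, nat_lit 0, nat_lit 0, nat_lit 21, nat_lit 0, nat_lit 0, nat_lit 0, nat_lit 9], []⟩)) (.node (.leaf ⟨nat_lit 0, nat_lit 1, nat_lit 1, nat_lit 0, nat_lit 66956, nat_lit 0x1ce1096c, [nat_lit 0, nat_lit 0, nat_lit 0, nat_lit 0, nat_lit 0, nat_lit 0, nat_lit 0, nat_lit 0, nat_lit 0, nat_lit 0, nat_lit 1, nat_lit 1, nat_lit 1], [], []⟩) (.leaf ⟨nat_lit 0, nat_lit 2, nat_lit 2, nat_lit 0, nat_lit 0, nat_lit 0, [nat_lit 0, nat_lit 0, nat_lit 3], [], []⟩))))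

noncomputable def F14 : GT Fa := .node (.node (.node (.node (.node (.leaf ⟨nat_lit 0, nat_lit 0, nat_lit 0, nat_lit 0, nat_lit 330, nat_lit 627, [], [], []⟩) (.leaf ⟨nat_lit 0, nat_lit 0, nat_lit 0, nat_lit 0, nat_lit 0, nat_lit 0, [nat_lit 0, nat_lit 0, nat_lit 0, nat_lit 0, nat_lit 0, nat_lit 1], [], []⟩)) (.leaf ⟨nat_lit 0, nat_lit 1, nat_lit 1, nat_lit 0, nat_lit 0x310b69c41, nat_lit 0x2d910c44a, [nat_lit 0, nat_lit 0, nat_lit 0, nat_lit 0, nat_lit 0, nat_lit 0, nat_lit 0, nat_lit 0, nat_lit 0, nat_lit 0, nat_lit 1], [nat_lit 0, nat_lit 0, nat_lit 0, nat_lit 0, nat_lit 0, nat_lit 1, nat_lit 1, nat_lit 1, nat_lit 0, nat_lit 0, nat_lit 0, nat_lit 1], []⟩)) (.node (.leaf ⟨nat_lit 0, nat_lit 1, nat_lit 1, nat_lit 0, nat_lit 0, nat_lit 0, [nat_lit 0, nat_lit 0, nat_lit 0, nat_lit 0, nat_lit 1, nat_lit 0, nat_lit 2, nat_lit 4, nat_lit 4], [nat_lit 0, nat_lit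 0, nat_lit 0, nat_lit 0, nat_lit 0, nat_lit 0, nat_lit 0, nat_lit 0, nat_lit 0, nat_lit 0, nat_lit 4, nat_lit 3], []⟩) (.leaf ⟨nat_lit 0, nat_lit 1, nat_lit 1, nat_lit 0, nat_lit 0, nat_lit 0, [nat_lit 0, nat_lit 0, nat_lit 0, nat_lit 0, nat_lit 0, nat_lit 0, nat_lit 0, nat_lit 0, nat_lit 2, nat_lit 0, nat_lit 8], [nat_lit 0, nat_lit 0, nat_lit 0, nat_lit 0, nat_lit 0, nat_lit 0, nat_lit 0, nat_lit 0, nat_lit 0, nat_lit 0, nat_lit 0, nat_lit 71, nat_lit 38], []⟩))) (.node (.node (.leaf ⟨nat_lit 2, nat_lit 0, nat_lit 0, nat_lit 0x7344b6b8eb, nat_lit 0, nat_lit 0, [nat_lit 0, nat_lit 0, nat_lit 0, nat_lit 0, nat_lit 1, nat_lit 1, nat_lit 1, nat_lit 0, nat_lit 0, nat_lit 0, nat_lit 2], [nat_lit 1, nat_lit 0, nat_lit 0, nat_lit 0, nat_lit 0, nat_lit 0, nat_lit 0, nat_lit 1, nat_lit 0, nat_lit 0, nat_lit 0, nat_lit 1], [nat_lit 0x18b82d6539462, nat_lit 0xe749732a421]⟩)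 (.leaf ⟨nat_lit 0, nat_lit 1, nat_lit 1, nat_lit 0, nat_lit 0, nat_lit 0, [nat_lit 1, nat_lit 0, nat_lit 0, nat_lit 0, nat_lit 0, nat_lit 0, nat_lit 0, nat_lit 7, nat_lit 5, nat_lit 0, nat_lit 0, nat_lit 0, nat_lit 1], [nat_lit 0, nat_lit 0, nat_lit 0, nat_lit 0, nat_lit 0, nat_lit 0, nat_lit 0, nat_lit 0, nat_lit 0, nat_lit 0, nat_lit 6, nat_lit 5], []⟩)) (.node (.leaf ⟨nat_lit 0, nat_lit 1, nat_lit 1, nat_lit 0, nat_lit 0xc088e8, nat_lit 0x31ce3ae42, [], [nat_lit 0, nat_lit 0, nat_lit 0, nat_lit 0, nat_lit 0, nat_lit 0, nat_lit 1, nat_lit 1, nat_lit 0, nat_lit 0, nat_lit 0, nat_lit 1], []⟩) (.leaf ⟨nat_lit 0, nat_lit 1, nat_lit 1, nat_lit 0, nat_lit 0x12862c47, nat_lit 0x5ad895a242, [], [], []⟩)))) (.node (.node (.node (.leaf ⟨nat_lit 2, nat_lit 0, nat_lit 0, nat_lit 0x5c5a588824, nat_lit 0, nat_lit 0, [], [nat_lit 0, nat_lit 1, nat_lit 0, nat_lit 0,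 nat_lit 1], [nat_lit 4, nat_lit 0x615d1694e4, nat_lit 14699]⟩) (.leaf ⟨nat_lit 0, nat_lit 1, nat_lit 1, nat_lit 0, nat_lit 0xec59da2, nat_lit 0x82e2b62162, [nat_lit 0, nat_lit 0, nat_lit 0, nat_lit 0, nat_lit 0, nat_lit 0, nat_lit 0, nat_lit 0, nat_lit 0, nat_lit 0, nat_lit 0, nat_lit 1], [nat_lit 0, nat_lit 0, nat_lit 0, nat_lit 0, nat_lit 0, nat_lit 0, nat_lit 1], []⟩)) (.node (.leaf ⟨nat_lit 0, nat_lit 1, nat_lit 1, nat_lit 0, nat_lit 0x4420b021, nat_lit 0x2d625b18b, [], [nat_lit 0, nat_lit 0, nat_lit 0, nat_lit 0, nat_lit 0, nat_lit 0, nat_lit 0, nat_lit 0, nat_lit 0, nat_lit 0, nat_lit 2, nat_lit 1, nat_lit 1], []⟩) (.leaf ⟨nat_lit 0, nat_lit 1, nat_lit 1, nat_lit 0, nat_lit 0x60d0c90442, nat_lit 0x106043160442, [nat_lit 0, nat_lit 0, nat_lit 0, nat_lit 0, nat_lit 0, nat_lit 0, nat_lit 0, nat_lit 0, nat_lit 0, nat_lit 0, nat_lit 0, nat_lit 0, nat_lit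 159], [], []⟩))) (.node (.node (.leaf ⟨nat_lit 0, nat_lit 1, nat_lit 1, nat_lit 0, nat_lit 232, nat_lit 0x17208e48, [], [nat_lit 0, nat_lit 0, nat_lit 0, nat_lit 0, nat_lit 0, nat_lit 0, nat_lit 1, nat_lit 1], []⟩) (.leaf ⟨nat_lit 0, nat_lit 1, nat_lit 1, nat_lit 0, nat_lit 8419, nat_lit 0x3c4e9, [nat_lit 0, nat_lit 0, nat_lit 0, nat_lit 0, nat_lit 0, nat_lit 0, nat_lit 0, nat_lit 0, nat_lit 0, nat_lit 0, nat_lit 9, nat_lit 3], [nat_lit 0, nat_lit 0, nat_lit 0, nat_lit 0, nat_lit 0, nat_lit 0, nat_lit 0, nat_lit 0, nat_lit 11, nat_lit 0, nat_lit 0, nat_lit 0, nat_lit 4], []⟩)) (.node (.leaf ⟨nat_lit 0, nat_lit 1, nat_lit 1, nat_lit 0, nat_lit 0x18110421, nat_lit 0x16b5b162, [], [nat_lit 0, nat_lit 0, nat_lit 0, nat_lit 0, nat_lit 0, nat_lit 0, nat_lit 0, nat_lit 0, nat_lit 0, nat_lit 0, nat_lit 3, nat_lit 1], []⟩) (.leaf ⟨nat_lit 0, nat_lit 0, nat_lit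 0, nat_lit 0, nat_lit 0x117456508c21, nat_lit 0xb5b5650a088, [], [], []⟩))))

noncomputable def F15 : GT Fa := .node (.node (.node (.node (.node (.leaf ⟨nat_lit 0, nat_lit 1, nat_lit 1, nat_lit 0, nat_lit 10, nat_lit 627, [], [nat_lit 0, nat_lit 0, nat_lit 0, nat_lit 0, nat_lit 0, nat_lit 0, nat_lit 0, nat_lit 0, nat_lit 0, nat_lit 1], []⟩) (.leaf ⟨nat_lit 0, nat_lit 0, nat_lit 0, nat_lit 0, nat_lit 0, nat_lit 0, [nat_lit 0, nat_lit 0, nat_lit 0, nat_lit 0, nat_lit 1], [], []⟩)) (.leaf ⟨nat_lit 0, nat_lit 1, nat_lit 1, nat_lit 0, nat_lit 0x945b0, nat_lit 0x89ce3, [nat_lit 0, nat_lit 0, nat_lit 0, nat_lit 0, nat_lit 0, nat_lit 1, nat_lit 1, nat_lit 1, nat_lit 1], [], []⟩)) (.node (.leaf ⟨nat_lit 0, nat_lit 1, nat_lit 1, nat_lit 0, nat_lit 0x316c08822, nat_lit 0x2c4b10822, [], [nat_lit 0, nat_lit 0, nat_lit 0, nat_lit 0, nat_lit 0, nat_lit 0, nat_lit 0,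 nat_lit 0, nat_lit 0, nat_lit 0, nat_lit 0, nat_lit 0, nat_lit 1], []⟩) (.leaf ⟨nat_lit 0, nat_lit 0, nat_lit 0, nat_lit 0, nat_lit 0, nat_lit 0, [nat_lit 0, nat_lit 0, nat_lit 0, nat_lit 0, nat_lit 0, nat_lit 0, nat_lit 0, nat_lit 0, nat_lit 0, nat_lit 0, nat_lit 1, nat_lit 14, nat_lit 5], [], []⟩))) (.node (.node (.leaf ⟨nat_lit 0, nat_lit 1, nat_lit 1, nat_lit 0, nat_lit 529, nat_lit 0x17048531, [nat_lit 0, nat_lit 0, nat_lit 0, nat_lit 0, nat_lit 0, nat_lit 0, nat_lit 1, nat_lit 1], [], []⟩) (.leaf ⟨nat_lit 0, nat_lit 0, nat_lit 0, nat_lit 0, nat_lit 0, nat_lit 0, [nat_lit 0, nat_lit 0, nat_lit 0, nat_lit 0, nat_lit 0, nat_lit 1, nat_lit 1, nat_lit 0, nat_lit 1], [nat_lit 0, nat_lit 0, nat_lit 0, nat_lit 0, nat_lit 0, nat_lit 0, nat_lit 0, nat_lit 5, nat_lit 0, nat_lit 0, nat_lit 0, nat_lit 3, nat_lit 7], []⟩)) (.node (.leaf ⟨nat_lit 0, nat_lit 1,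 nat_lit 1, nat_lit 0, nat_lit 0xb12d8c, nat_lit 0x210581, [], [nat_lit 0, nat_lit 0, nat_lit 0, nat_lit 0, nat_lit 0, nat_lit 0, nat_lit 0, nat_lit 0, nat_lit 0, nat_lit 0, nat_lit 0, nat_lit 1, nat_lit 1], []⟩) (.leaf ⟨nat_lit 0, nat_lit 0, nat_lit 0, nat_lit 0, nat_lit 0x50a2425b02c, nat_lit 0x25882c4c565, [], [], []⟩)))) (.node (.node (.node (.leaf ⟨nat_lit 2, nat_lit 0, nat_lit 0, nat_lit 0xd74a21095a1, nat_lit 0, nat_lit 0, [], [nat_lit 0, nat_lit 0, nat_lit 1, nat_lit 0, nat_lit 1], [nat_lit 0x38e243a4c, nat_lit 0xb1956b42483, nat_lit 0x2dca73545221a4]⟩) (.leaf ⟨nat_lit 0, nat_lit 1, nat_lit 1, nat_lit 0, nat_lit 17773, nat_lit 0x85aceb, [nat_lit 0, nat_lit 0, nat_lit 0, nat_lit 0, nat_lit 0, nat_lit 1, nat_lit 0, nat_lit 1, nat_lit 0, nat_lit 0, nat_lit 1], [], []⟩)) (.node (.leaf ⟨nat_lit 0, nat_lit 1, nat_lit 1, nat_lit 0, nat_lit 0x84b10581,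 nat_lit 0x2c425882c, [], [nat_lit 0, nat_lit 0, nat_lit 0, nat_lit 0, nat_lit 0, nat_lit 0, nat_lit 0, nat_lit 0, nat_lit 0, nat_lit 0, nat_lit 2, nat_lit 2, nat_lit 1], []⟩) (.leaf ⟨nat_lit 0, nat_lit 1, nat_lit 1, nat_lit 0, nat_lit 0xc40451, nat_lit 0x6064208e01, [nat_lit 0, nat_lit 0, nat_lit 0, nat_lit 0, nat_lit 0, nat_lit 0, nat_lit 0, nat_lit 0, nat_lit 0, nat_lit 0, nat_lit 0, nat_lit 1], [nat_lit 0, nat_lit 0, nat_lit 0, nat_lit 0, nat_lit 0, nat_lit 0, nat_lit 0, nat_lit 0, nat_lit 0, nat_lit 0, nat_lit 0, nat_lit 0, nat_lit 141], []⟩))) (.node (.node (.leaf ⟨nat_lit 0, nat_lit 1, nat_lit 1, nat_lit 0, nat_lit 0x425882c, nat_lit 0x4b6058c, [], [nat_lit 0, nat_lit 0, nat_lit 0, nat_lit 0, nat_lit 0, nat_lit 0, nat_lit 0, nat_lit 0, nat_lit 0, nat_lit 0, nat_lit 1, nat_lit 2, nat_lit 1], []⟩) (.leaf ⟨nat_lit 0, nat_lit 1, nat_lit 1, nat_lit 0,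 nat_lit 0x835a8, nat_lit 0x90ce3, [nat_lit 0, nat_lit 0, nat_lit 0, nat_lit 0, nat_lit 0, nat_lit 0, nat_lit 0, nat_lit 0, nat_lit 0, nat_lit 0, nat_lit 7, nat_lit 5, nat_lit 1], [nat_lit 0, nat_lit 0, nat_lit 0, nat_lit 0, nat_lit 0, nat_lit 0, nat_lit 1, nat_lit 0, nat_lit 6], []⟩)) (.node (.leaf ⟨nat_lit 0, nat_lit 1, nat_lit 1, nat_lit 0, nat_lit 432, nat_lit 0x73a509, [nat_lit 0, nat_lit 0, nat_lit 0, nat_lit 0, nat_lit 0, nat_lit 1, nat_lit 1], [], []⟩) (.leaf ⟨nat_lit 0, nat_lit 2, nat_lit 2, nat_lit 0, nat_lit 0x5b5cd62d85, nat_lit 0x2ba2d2c204, [], [nat_lit 0, nat_lit 1], []⟩))))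

noncomputable def F : GT Fa := (.node (.node (.node (.node F0 F8) (.node F4 F12)) (.node (.node F2 F10) (.node F6 F14))) (.node (.node (.node F1 F9) (.node F5 F13)) (.node (.node F3 F11) (.node F7 F15))))

noncomputable def W0 : GT (List ℕ) := .node (.node (.leaf ([])) (.leaf ([nat_lit 19, nat_lit 3, nat_lit 19]))) (.leaf ([nat_lit 19]))

noncomputable def W : GT (List ℕ) := W0

/-- the relators with the new generator -/
def R : List (List ℕ × List ℕ × List ℕ) := [([nat_lit 20, nat_lit 5, nat_lit 19, nat_lit 10, nat_lit 11, nat_lit 2, nat_lit 10, nat_lit 1, nat_lit 2, nat_lit 11, nat_lit 0, nat_lit 1, nat_lit 0], [nat_lit 0, nat_lit 0, nat_lit 0, nat_lit 0, nat_lit 0, nat_lit 1], []),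
  ([nat_lit 20, nat_lit 6, nat_lit 19, nat_lit 11, nat_lit 12, nat_lit 11, nat_lit 0, nat_lit 12, nat_lit 10, nat_lit 1, nat_lit 1], [nat_lit 0, nat_lit 0, nat_lit 0, nat_lit 0, nat_lit 0, nat_lit 0, nat_lit 1], []),
  ([nat_lit 20, nat_lit 7, nat_lit 19, nat_lit 10, nat_lit 11, nat_lit 10, nat_lit 12, nat_lit 0, nat_lit 1, nat_lit 0], [nat_lit 0, nat_lit 0, nat_lit 0, nat_lit 0, nat_lit 0, nat_lit 0, nat_lit 0, nat_lit 1], []),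
  ([nat_lit 20, nat_lit 8, nat_lit 19, nat_lit 11, nat_lit 10, nat_lit 1, nat_lit 12, nat_lit 11, nat_lit 0, nat_lit 1], [nat_lit 0, nat_lit 0, nat_lit 0, nat_lit 0, nat_lit 0, nat_lit 0, nat_lit 0, nat_lit 0, nat_lit 1], []),
  ([nat_lit 20, nat_lit 9, nat_lit 19, nat_lit 2, nat_lit 1, nat_lit 1, nat_lit 12, nat_lit 10, nat_lit 11, nat_lit 12, nat_lit 1, nat_lit 0, nat_lit 11, nat_lit 11], [nat_lit 0, nat_lit 0, nat_lit 0, nat_lit 0, nat_lit 0, nat_lit 0, nat_lit 0, nat_lit 0, nat_lit 0, nat_lit 1], []),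
  ([nat_lit 20, nat_lit 0, nat_lit 19, nat_lit 0, nat_lit 0, nat_lit 0], [nat_lit 0, nat_lit 0, nat_lit 0, nat_lit 0, nat_lit 0, nat_lit 0, nat_lit 0, nat_lit 0, nat_lit 0, nat_lit 0, nat_lit 1], []),
  ([nat_lit 20, nat_lit 1, nat_lit 0, nat_lit 11, nat_lit 19, nat_lit 0, nat_lit 0, nat_lit 1, nat_lit 0, nat_lit 11], [nat_lit 0, nat_lit 0, nat_lit 0, nat_lit 0, nat_lit 0, nat_lit 0, nat_lit 0, nat_lit 0, nat_lit 0, nat_lit 0, nat_lit 0, nat_lit 1], []),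
  ([nat_lit 20, nat_lit 1, nat_lit 1, nat_lit 0, nat_lit 11, nat_lit 11, nat_lit 19, nat_lit 0, nat_lit 1, nat_lit 1, nat_lit 10, nat_lit 11, nat_lit 11, nat_lit 10], [nat_lit 0, nat_lit 0, nat_lit 0, nat_lit 0, nat_lit 0, nat_lit 0, nat_lit 0, nat_lit 0, nat_lit 0, nat_lit 0, nat_lit 0, nat_lit 0, nat_lit 1], []),
  ([nat_lit 19, nat_lit 19, nat_lit 10, nat_lit 10], [nat_lit 0, nat_lit 0, nat_lit 0, nat_lit 0, nat_lit 1], []),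
  ([nat_lit 11, nat_lit 11, nat_lit 0, nat_lit 1, nat_lit 1, nat_lit 19, nat_lit 11, nat_lit 11, nat_lit 0, nat_lit 1, nat_lit 1, nat_lit 19, nat_lit 11, nat_lit 11, nat_lit 0, nat_lit 1, nat_lit 1, nat_lit 19, nat_lit 0, nat_lit 0], [nat_lit 0, nat_lit 0, nat_lit 0, nat_lit 0, nat_lit 1], []),
  ([nat_lit 12, nat_lit 13, nat_lit 10, nat_lit 12, nat_lit 10, nat_lit 1, nat_lit 12, nat_lit 13, nat_lit 19, nat_lit 10, nat_lit 3, nat_lit 11, nat_lit 12, nat_lit 10, nat_lit 1, nat_lit 12, nat_lit 13, nat_lit 1, nat_lit 12, nat_lit 11, nat_lit 10, nat_lit 12, nat_lit 0, nat_lit 11, nat_lit 0, nat_lit 1, nat_lit 0, nat_lit 11, nat_lit 19, nat_lit 10, nat_lit 12, nat_lit 13, nat_lit 0, nat_lit 12, nat_lit 11, nat_lit 0, nat_lit 12, nat_lit 13, nat_lit 10, nat_lit 12, nat_lit 0, nat_lit 2, nat_lit 11, nat_lit 11, nat_lit 12, nat_lit 11, nat_lit 10, nat_lit 11,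 nat_lit 11, nat_lit 19], [nat_lit 1], []),
  ([nat_lit 20, nat_lit 13, nat_lit 20, nat_lit 10, nat_lit 12, nat_lit 13, nat_lit 1, nat_lit 10, nat_lit 11, nat_lit 12, nat_lit 13, nat_lit 1, nat_lit 10, nat_lit 11, nat_lit 12, nat_lit 11, nat_lit 0, nat_lit 11, nat_lit 11, nat_lit 0, nat_lit 11, nat_lit 19, nat_lit 3, nat_lit 19, nat_lit 0, nat_lit 1, nat_lit 10, nat_lit 1, nat_lit 1, nat_lit 10, nat_lit 1, nat_lit 1, nat_lit 12, nat_lit 0, nat_lit 2, nat_lit 1, nat_lit 2, nat_lit 11, nat_lit 3, nat_lit 2, nat_lit 11, nat_lit 11, nat_lit 3, nat_lit 2, nat_lit 1, nat_lit 2], [nat_lit 0, nat_lit 1], []),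
  ([nat_lit 19, nat_lit 1, nat_lit 0, nat_lit 11, nat_lit 10, nat_lit 11, nat_lit 11, nat_lit 10, nat_lit 11, nat_lit 2, nat_lit 1, nat_lit 1, nat_lit 2, nat_lit 1, nat_lit 3, nat_lit 2, nat_lit 11, nat_lit 11, nat_lit 3, nat_lit 2, nat_lit 1, nat_lit 2, nat_lit 19, nat_lit 0, nat_lit 11, nat_lit 11, nat_lit 10, nat_lit 2, nat_lit 1, nat_lit 12, nat_lit 1, nat_lit 10, nat_lit 12, nat_lit 12, nat_lit 3, nat_lit 2, nat_lit 0, nat_lit 2, nat_lit 10, nat_lit 2, nat_lit 11, nat_lit 13, nat_lit 20, nat_lit 12, nat_lit 11, nat_lit 12, nat_lit 13, nat_lit 1, nat_lit 1, nat_lit 12, nat_lit 13, nat_lit 11, nat_lit 12, nat_lit 11, nat_lit 11, nat_lit 12, nat_lit 1, nat_lit 0, nat_lit 1, nat_lit 1, nat_lit 0, nat_lit 1, nat_lit 10, nat_lit 11, nat_lit 20, nat_lit 13, nat_lit 0, nat_lit 2, nat_lit 1, nat_lit 2, nat_lit 10, nat_lit 12, nat_lit 13, nat_lit 0, nat_lit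 11, nat_lit 10, nat_lit 2, nat_lit 10, nat_lit 11, nat_lit 11, nat_lit 10, nat_lit 1, nat_lit 10], [nat_lit 0, nat_lit 0, nat_lit 1], []),
  ([nat_lit 19, nat_lit 1, nat_lit 3, nat_lit 19, nat_lit 1, nat_lit 1, nat_lit 10, nat_lit 11, nat_lit 10, nat_lit 1, nat_lit 1, nat_lit 12, nat_lit 0, nat_lit 2, nat_lit 10, nat_lit 12, nat_lit 3, nat_lit 12, nat_lit 1, nat_lit 1, nat_lit 10, nat_lit 2, nat_lit 1, nat_lit 20, nat_lit 13, nat_lit 11, nat_lit 20, nat_lit 12, nat_lit 10, nat_lit 2, nat_lit 1, nat_lit 12, nat_lit 13, nat_lit 2, nat_lit 10, nat_lit 2, nat_lit 0, nat_lit 2, nat_lit 11, nat_lit 10, nat_lit 11, nat_lit 10, nat_lit 1], [nat_lit 0, nat_lit 0, nat_lit 0, nat_lit 1], [])]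

/-- the data -/
noncomputable def P : Par := ⟨LyAct.T, nat_lit 19, fun y => Nat.land (Nat.shiftRight (nat_lit 0x13a2507314620825183dc46b16a) (Nat.mul (nat_lit 5) y)) (nat_lit 31), [nat_lit 0, nat_lit 1, nat_lit 20], nat_lit 0, nat_lit 363, [], [nat_lit 0, nat_lit 0, nat_lit 0, nat_lit 0, nat_lit 1], F.get, W.get, R⟩

def D0 : List De := [⟨nat_lit 2, nat_lit 0, nat_lit 0, nat_lit 0, false, nat_lit 0⟩,
  ⟨nat_lit 3, nat_lit 0, nat_lit 0, nat_lit 0, false, nat_lit 0⟩,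
  ⟨nat_lit 1, nat_lit 0, nat_lit 0, nat_lit 0, false, nat_lit 0⟩,
  ⟨nat_lit 0, nat_lit 4, nat_lit 0x2000000000020000000000013000000000004, nat_lit 0, false, nat_lit 0⟩,
  ⟨nat_lit 3, nat_lit 0, nat_lit 0, nat_lit 1, false, nat_lit 0⟩,
  ⟨nat_lit 1, nat_lit 0, nat_lit 0, nat_lit 0, false, nat_lit 0⟩,
  ⟨nat_lit 0, nat_lit 4, nat_lit 0x2000000000050000000000043000000000004, nat_lit 0, false, nat_lit 0⟩,
  ⟨nat_lit 3, nat_lit 0, nat_lit 0, nat_lit 2, false, nat_lit 0⟩,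
  ⟨nat_lit 1, nat_lit 0, nat_lit 0, nat_lit 0, false, nat_lit 0⟩,
  ⟨nat_lit 0, nat_lit 4, nat_lit 0x2000000000080000000000073000000000004, nat_lit 0, false, nat_lit 0⟩,
  ⟨nat_lit 3, nat_lit 0, nat_lit 0, nat_lit 3, false, nat_lit 0⟩,
  ⟨nat_lit 1, nat_lit 0, nat_lit 0, nat_lit 0, false, nat_lit 0⟩,
  ⟨nat_lit 0, nat_lit 4, nat_lit 0x20000000000b00000000000a3000000000004, nat_lit 0, false, nat_lit 0⟩,
  ⟨nat_lit 3, nat_lit 0, nat_lit 0, nat_lit 4, false, nat_lit 0⟩,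
  ⟨nat_lit 1, nat_lit 0, nat_lit 0, nat_lit 0, false, nat_lit 0⟩,
  ⟨nat_lit 0, nat_lit 4, nat_lit 0x20000000000e00000000000d3000000000004, nat_lit 0, false, nat_lit 0⟩,
  ⟨nat_lit 3, nat_lit 0, nat_lit 0, nat_lit 5, false, nat_lit 0⟩,
  ⟨nat_lit 1, nat_lit 0, nat_lit 0, nat_lit 0, false, nat_lit 0⟩,
  ⟨nat_lit 0, nat_lit 4, nat_lit 0x2000000000110000000000103000000000004, nat_lit 0, false, nat_lit 0⟩,
  ⟨nat_lit 3, nat_lit 0, nat_lit 0, nat_lit 6, false, nat_lit 0⟩,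
  ⟨nat_lit 1, nat_lit 0, nat_lit 0, nat_lit 0, false, nat_lit 0⟩,
  ⟨nat_lit 0, nat_lit 4, nat_lit 0x2000000000140000000000133000000000004, nat_lit 0, false, nat_lit 0⟩,
  ⟨nat_lit 3, nat_lit 0, nat_lit 0, nat_lit 7, false, nat_lit 0⟩,
  ⟨nat_lit 1, nat_lit 0, nat_lit 0, nat_lit 0, false, nat_lit 0⟩,
  ⟨nat_lit 0, nat_lit 4, nat_lit 0x2000000000170000000000163000000000004, nat_lit 0, false, nat_lit 0⟩,
  ⟨nat_lit 3, nat_lit 0, nat_lit 0, nat_lit 9, false, nat_lit 11⟩,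
  ⟨nat_lit 3, nat_lit 0, nat_lit 0, nat_lit 9, false, nat_lit 17⟩,
  ⟨nat_lit 3, nat_lit 0, nat_lit 0, nat_lit 9, true, nat_lit 14⟩,
  ⟨nat_lit 3, nat_lit 0, nat_lit 0, nat_lit 10, false, nat_lit 49⟩,
  ⟨nat_lit 3, nat_lit 0, nat_lit 0, nat_lit 10, true, nat_lit 21⟩,
  ⟨nat_lit 3, nat_lit 0, nat_lit 0, nat_lit 11, false, nat_lit 2⟩,
  ⟨nat_lit 3, nat_lit 0, nat_lit 0, nat_lit 12, false, nat_lit 42⟩,
  ⟨nat_lit 3, nat_lit 0, nat_lit 0, nat_lit 13, true, nat_lit 16⟩,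
  ⟨nat_lit 0, nat_lit 5, nat_lit 0x380000000000680000000000300000000000600000000000f0, nat_lit 0, false, nat_lit 0⟩,
  ⟨nat_lit 0, nat_lit 1, nat_lit 0x100021d, nat_lit 0, false, nat_lit 0⟩,
  ⟨nat_lit 0, nat_lit 2, nat_lit 0x68000000000030, nat_lit 0, false, nat_lit 0⟩,
  ⟨nat_lit 0, nat_lit 2, nat_lit 0x128000000000128, nat_lit 0, false, nat_lit 0⟩,
  ⟨nat_lit 0, nat_lit 2, nat_lit 0x90000000000038, nat_lit 0, false, nat_lit 0⟩,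
  ⟨nat_lit 0, nat_lit 2, nat_lit 0x68000000000250, nat_lit 0, false, nat_lit 0⟩,
  ⟨nat_lit 0, nat_lit 2, nat_lit 0x128000000000260, nat_lit 0, false, nat_lit 0⟩,
  ⟨nat_lit 0, nat_lit 2, nat_lit 0x128000000000150, nat_lit 0, false, nat_lit 0⟩,
  ⟨nat_lit 1, nat_lit 0, nat_lit 0, nat_lit 0, false, nat_lit 0⟩,
  ⟨nat_lit 0, nat_lit 6, nat_lit 0x200000000029000000000000a0000000002710000000002810000000001c3, nat_lit 0, false, nat_lit 0⟩,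
  ⟨nat_lit 4, nat_lit 0, nat_lit 0, nat_lit 42, false, nat_lit 10⟩,
  ⟨nat_lit 4, nat_lit 0, nat_lit 0, nat_lit 42, false, nat_lit 21⟩,
  ⟨nat_lit 4, nat_lit 0, nat_lit 0, nat_lit 42, true, nat_lit 8⟩,
  ⟨nat_lit 4, nat_lit 0, nat_lit 0, nat_lit 42, true, nat_lit 29⟩,
  ⟨nat_lit 0, nat_lit 2, nat_lit 0x68000000000098, nat_lit 0, false, nat_lit 0⟩,
  ⟨nat_lit 0, nat_lit 2, nat_lit 0x1200000000002f0, nat_lit 0, false, nat_lit 0⟩,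
  ⟨nat_lit 0, nat_lit 7, nat_lit 0x2a20000000003010000000001890000000000300000000000600000000001580000000002ac, nat_lit 0, false, nat_lit 0⟩,
  ⟨nat_lit 0, nat_lit 10, nat_lit 0x1580000000001280000000001880000000001580000000001200000000000980000000000680000000001200000000000c0000000000310, nat_lit 0, false, nat_lit 0⟩,
  ⟨nat_lit 0, nat_lit 1, nat_lit 0x100032d, nat_lit 0, false, nat_lit 0⟩,
  ⟨nat_lit 0, nat_lit 2, nat_lit 0x120000000000120, nat_lit 0, false, nat_lit 0⟩,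
  ⟨nat_lit 0, nat_lit 2, nat_lit 0x180000000000120, nat_lit 0, false, nat_lit 0⟩,
  ⟨nat_lit 0, nat_lit 2, nat_lit 0x128000000000350, nat_lit 0, false, nat_lit 0⟩,
  ⟨nat_lit 0, nat_lit 2, nat_lit 0xc8000000000030, nat_lit 0, false, nat_lit 0⟩,
  ⟨nat_lit 0, nat_lit 2, nat_lit 0x120000000000150, nat_lit 0, false, nat_lit 0⟩,
  ⟨nat_lit 0, nat_lit 2, nat_lit 0x188000000000380, nat_lit 0, false, nat_lit 0⟩,
  ⟨nat_lit 0, nat_lit 2, nat_lit 0x180000000000380, nat_lit 0, false, nat_lit 0⟩,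
  ⟨nat_lit 0, nat_lit 2, nat_lit 0x150000000000120, nat_lit 0, false, nat_lit 0⟩,
  ⟨nat_lit 0, nat_lit 2, nat_lit 0x1800000000003b0, nat_lit 0, false, nat_lit 0⟩,
  ⟨nat_lit 0, nat_lit 2, nat_lit 0x98000000000038, nat_lit 0, false, nat_lit 0⟩,
  ⟨nat_lit 0, nat_lit 2, nat_lit 0x60000000000090, nat_lit 0, false, nat_lit 0⟩,
  ⟨nat_lit 0, nat_lit 2, nat_lit 0x1500000000003a0, nat_lit 0, false, nat_lit 0⟩,
  ⟨nat_lit 0, nat_lit 2, nat_lit 0xc8000000000230, nat_lit 0, false, nat_lit 0⟩,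
  ⟨nat_lit 0, nat_lit 2, nat_lit 0x98000000000400, nat_lit 0, false, nat_lit 0⟩,
  ⟨nat_lit 0, nat_lit 2, nat_lit 0x188000000000158, nat_lit 0, false, nat_lit 0⟩,
  ⟨nat_lit 0, nat_lit 2, nat_lit 0x158000000000420, nat_lit 0, false, nat_lit 0⟩,
  ⟨nat_lit 0, nat_lit 2, nat_lit 0x38000000000098, nat_lit 0, false, nat_lit 0⟩,
  ⟨nat_lit 0, nat_lit 2, nat_lit 0x120000000000440, nat_lit 0, false, nat_lit 0⟩,
  ⟨nat_lit 0, nat_lit 2, nat_lit 0xc8000000000450, nat_lit 0, false, nat_lit 0⟩,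
  ⟨nat_lit 0, nat_lit 2, nat_lit 0x180000000000150, nat_lit 0, false, nat_lit 0⟩,
  ⟨nat_lit 0, nat_lit 2, nat_lit 0x150000000000470, nat_lit 0, false, nat_lit 0⟩,
  ⟨nat_lit 0, nat_lit 2, nat_lit 0x120000000000480, nat_lit 0, false, nat_lit 0⟩,
  ⟨nat_lit 1, nat_lit 0, nat_lit 0, nat_lit 0, false, nat_lit 0⟩,
  ⟨nat_lit 0, nat_lit 6, nat_lit 0x20000000004a000000000000a000000000461000000000491000000000193, nat_lit 0, false, nat_lit 0⟩,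
  ⟨nat_lit 0, nat_lit 2, nat_lit 0x128000000000410, nat_lit 0, false, nat_lit 0⟩,
  ⟨nat_lit 0, nat_lit 6, nat_lit 0x4b20000000004c10000000003810000000001580000000001880000000004bc, nat_lit 0, false, nat_lit 0⟩,
  ⟨nat_lit 0, nat_lit 7, nat_lit 0x1580000000001880000000000300000000000680000000000c80000000000980000000004d0, nat_lit 0, false, nat_lit 0⟩,
  ⟨nat_lit 0, nat_lit 2, nat_lit 0x158000000000470, nat_lit 0, false, nat_lit 0⟩,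
  ⟨nat_lit 0, nat_lit 2, nat_lit 0x1280000000004f0, nat_lit 0, false, nat_lit 0⟩,
  ⟨nat_lit 0, nat_lit 2, nat_lit 0xc0000000000060, nat_lit 0, false, nat_lit 0⟩,
  ⟨nat_lit 0, nat_lit 2, nat_lit 0x1580000000003c0, nat_lit 0, false, nat_lit 0⟩,
  ⟨nat_lit 0, nat_lit 2, nat_lit 0x60000000000030, nat_lit 0, false, nat_lit 0⟩,
  ⟨nat_lit 0, nat_lit 2, nat_lit 0x150000000000038, nat_lit 0, false, nat_lit 0⟩,
  ⟨nat_lit 0, nat_lit 2, nat_lit 0x188000000000120, nat_lit 0, false, nat_lit 0⟩,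
  ⟨nat_lit 0, nat_lit 2, nat_lit 0x158000000000550, nat_lit 0, false, nat_lit 0⟩,
  ⟨nat_lit 0, nat_lit 2, nat_lit 0x150000000000030, nat_lit 0, false, nat_lit 0⟩,
  ⟨nat_lit 0, nat_lit 2, nat_lit 0x128000000000038, nat_lit 0, false, nat_lit 0⟩,
  ⟨nat_lit 0, nat_lit 2, nat_lit 0x158000000000390, nat_lit 0, false, nat_lit 0⟩,
  ⟨nat_lit 0, nat_lit 2, nat_lit 0x158000000000120, nat_lit 0, false, nat_lit 0⟩,
  ⟨nat_lit 0, nat_lit 2, nat_lit 0x188000000000280, nat_lit 0, false, nat_lit 0⟩,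
  ⟨nat_lit 0, nat_lit 2, nat_lit 0x1580000000005b0, nat_lit 0, false, nat_lit 0⟩,
  ⟨nat_lit 0, nat_lit 2, nat_lit 0x1200000000003b0, nat_lit 0, false, nat_lit 0⟩,
  ⟨nat_lit 0, nat_lit 2, nat_lit 0x1800000000005d0, nat_lit 0, false, nat_lit 0⟩,
  ⟨nat_lit 0, nat_lit 2, nat_lit 0x1500000000005e0, nat_lit 0, false, nat_lit 0⟩,
  ⟨nat_lit 0, nat_lit 2, nat_lit 0x98000000000030, nat_lit 0, false, nat_lit 0⟩,
  ⟨nat_lit 0, nat_lit 2, nat_lit 0x98000000000600, nat_lit 0, false, nat_lit 0⟩,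
  ⟨nat_lit 0, nat_lit 2, nat_lit 0x1280000000003b0, nat_lit 0, false, nat_lit 0⟩,
  ⟨nat_lit 0, nat_lit 2, nat_lit 0x120000000000340, nat_lit 0, false, nat_lit 0⟩,
  ⟨nat_lit 0, nat_lit 2, nat_lit 0x188000000000128, nat_lit 0, false, nat_lit 0⟩,
  ⟨nat_lit 0, nat_lit 2, nat_lit 0x158000000000188, nat_lit 0, false, nat_lit 0⟩,
  ⟨nat_lit 0, nat_lit 2, nat_lit 0x1880000000005d0, nat_lit 0, false, nat_lit 0⟩,
  ⟨nat_lit 0, nat_lit 2, nat_lit 0xc8000000000098, nat_lit 0, false, nat_lit 0⟩,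
  ⟨nat_lit 0, nat_lit 2, nat_lit 0x98000000000670, nat_lit 0, false, nat_lit 0⟩,
  ⟨nat_lit 0, nat_lit 2, nat_lit 0x180000000000340, nat_lit 0, false, nat_lit 0⟩,
  ⟨nat_lit 0, nat_lit 2, nat_lit 0x150000000000690, nat_lit 0, false, nat_lit 0⟩,
  ⟨nat_lit 0, nat_lit 2, nat_lit 0x188000000000620, nat_lit 0, false, nat_lit 0⟩,
  ⟨nat_lit 0, nat_lit 2, nat_lit 0x1200000000005f0, nat_lit 0, false, nat_lit 0⟩,
  ⟨nat_lit 0, nat_lit 2, nat_lit 0x180000000000030, nat_lit 0, false, nat_lit 0⟩,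
  ⟨nat_lit 0, nat_lit 2, nat_lit 0x1500000000003e0, nat_lit 0, false, nat_lit 0⟩,
  ⟨nat_lit 0, nat_lit 2, nat_lit 0x150000000000180, nat_lit 0, false, nat_lit 0⟩,
  ⟨nat_lit 0, nat_lit 2, nat_lit 0x158000000000180, nat_lit 0, false, nat_lit 0⟩,
  ⟨nat_lit 0, nat_lit 2, nat_lit 0x128000000000700, nat_lit 0, false, nat_lit 0⟩,
  ⟨nat_lit 0, nat_lit 2, nat_lit 0x120000000000090, nat_lit 0, false, nat_lit 0⟩,
  ⟨nat_lit 0, nat_lit 2, nat_lit 0x90000000000068, nat_lit 0, false, nat_lit 0⟩,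
  ⟨nat_lit 0, nat_lit 2, nat_lit 0x1280000000005a0, nat_lit 0, false, nat_lit 0⟩,
  ⟨nat_lit 0, nat_lit 2, nat_lit 0xc0000000000030, nat_lit 0, false, nat_lit 0⟩,
  ⟨nat_lit 0, nat_lit 2, nat_lit 0x158000000000640, nat_lit 0, false, nat_lit 0⟩,
  ⟨nat_lit 0, nat_lit 2, nat_lit 0x180000000000098, nat_lit 0, false, nat_lit 0⟩,
  ⟨nat_lit 0, nat_lit 2, nat_lit 0x158000000000128, nat_lit 0, false, nat_lit 0⟩,
  ⟨nat_lit 0, nat_lit 2, nat_lit 0x38000000000060, nat_lit 0, false, nat_lit 0⟩,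
  ⟨nat_lit 0, nat_lit 2, nat_lit 0x600000000006d0, nat_lit 0, false, nat_lit 0⟩,
  ⟨nat_lit 0, nat_lit 2, nat_lit 0x600000000007a0, nat_lit 0, false, nat_lit 0⟩,
  ⟨nat_lit 0, nat_lit 2, nat_lit 0x158000000000060, nat_lit 0, false, nat_lit 0⟩,
  ⟨nat_lit 0, nat_lit 2, nat_lit 0x128000000000650, nat_lit 0, false, nat_lit 0⟩,
  ⟨nat_lit 0, nat_lit 2, nat_lit 0x150000000000630, nat_lit 0, false, nat_lit 0⟩,
  ⟨nat_lit 0, nat_lit 2, nat_lit 0x38000000000068, nat_lit 0, false, nat_lit 0⟩,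
  ⟨nat_lit 0, nat_lit 2, nat_lit 0x38000000000610, nat_lit 0, false, nat_lit 0⟩,
  ⟨nat_lit 0, nat_lit 2, nat_lit 0x30000000000770, nat_lit 0, false, nat_lit 0⟩,
  ⟨nat_lit 0, nat_lit 2, nat_lit 0x128000000000030, nat_lit 0, false, nat_lit 0⟩,
  ⟨nat_lit 0, nat_lit 2, nat_lit 0x1280000000003c0, nat_lit 0, false, nat_lit 0⟩,
  ⟨nat_lit 0, nat_lit 2, nat_lit 0x90000000000060, nat_lit 0, false, nat_lit 0⟩,
  ⟨nat_lit 0, nat_lit 2, nat_lit 0x150000000000098, nat_lit 0, false, nat_lit 0⟩,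
  ⟨nat_lit 0, nat_lit 2, nat_lit 0x150000000000750, nat_lit 0, false, nat_lit 0⟩,
  ⟨nat_lit 0, nat_lit 2, nat_lit 0x98000000000068, nat_lit 0, false, nat_lit 0⟩,
  ⟨nat_lit 0, nat_lit 2, nat_lit 0x980000000007f0, nat_lit 0, false, nat_lit 0⟩,
  ⟨nat_lit 0, nat_lit 2, nat_lit 0x38000000000038, nat_lit 0, false, nat_lit 0⟩,
  ⟨nat_lit 0, nat_lit 2, nat_lit 0x98000000000890, nat_lit 0, false, nat_lit 0⟩,
  ⟨nat_lit 0, nat_lit 2, nat_lit 0x1800000000008a0, nat_lit 0, false, nat_lit 0⟩,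
  ⟨nat_lit 0, nat_lit 2, nat_lit 0x128000000000530, nat_lit 0, false, nat_lit 0⟩,
  ⟨nat_lit 0, nat_lit 2, nat_lit 0x900000000008c0, nat_lit 0, false, nat_lit 0⟩,
  ⟨nat_lit 0, nat_lit 2, nat_lit 0x1500000000008d0, nat_lit 0, false, nat_lit 0⟩,
  ⟨nat_lit 0, nat_lit 2, nat_lit 0xc8000000000880, nat_lit 0, false, nat_lit 0⟩,
  ⟨nat_lit 0, nat_lit 13, nat_lit 0x10004ed0000000004b20000000008e10000000005b10000000004b20000000008b10000000006a10000000001a30000000008f10000000006f10000000001800000000001500000000004b4, nat_lit 0, false, nat_lit 0⟩,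
  ⟨nat_lit 0, nat_lit 5, nat_lit 0x188000000000158000000000090000000000030000000000900, nat_lit 0, false, nat_lit 0⟩,
  ⟨nat_lit 0, nat_lit 3, nat_lit 0x1000915000000000158000000000230, nat_lit 0, false, nat_lit 0⟩,
  ⟨nat_lit 0, nat_lit 2, nat_lit 0x128000000000098, nat_lit 0, false, nat_lit 0⟩,
  ⟨nat_lit 0, nat_lit 2, nat_lit 0x38000000000720, nat_lit 0, false, nat_lit 0⟩,
  ⟨nat_lit 0, nat_lit 2, nat_lit 0x1580000000000c8, nat_lit 0, false, nat_lit 0⟩,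
  ⟨nat_lit 0, nat_lit 3, nat_lit 0x1000915000000000090000000000370, nat_lit 0, false, nat_lit 0⟩,
  ⟨nat_lit 0, nat_lit 3, nat_lit 0x1000915000000000098000000000530, nat_lit 0, false, nat_lit 0⟩,
  ⟨nat_lit 0, nat_lit 3, nat_lit 0x100091d000000000068000000000890, nat_lit 0, false, nat_lit 0⟩,
  ⟨nat_lit 0, nat_lit 2, nat_lit 0x180000000000730, nat_lit 0, false, nat_lit 0⟩,
  ⟨nat_lit 0, nat_lit 2, nat_lit 0x38000000000990, nat_lit 0, false, nat_lit 0⟩,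
  ⟨nat_lit 0, nat_lit 3, nat_lit 0x1000915000000000120000000000530, nat_lit 0, false, nat_lit 0⟩,
  ⟨nat_lit 0, nat_lit 2, nat_lit 0x38000000000570, nat_lit 0, false, nat_lit 0⟩,
  ⟨nat_lit 0, nat_lit 2, nat_lit 0x60000000000950, nat_lit 0, false, nat_lit 0⟩,
  ⟨nat_lit 0, nat_lit 2, nat_lit 0xc00000000009d0, nat_lit 0, false, nat_lit 0⟩,
  ⟨nat_lit 0, nat_lit 2, nat_lit 0x98000000000580, nat_lit 0, false, nat_lit 0⟩,
  ⟨nat_lit 0, nat_lit 3, nat_lit 0x1000915000000000090000000000230, nat_lit 0, false, nat_lit 0⟩,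
  ⟨nat_lit 0, nat_lit 2, nat_lit 0x1500000000009c0, nat_lit 0, false, nat_lit 0⟩,
  ⟨nat_lit 0, nat_lit 2, nat_lit 0xc80000000003d0, nat_lit 0, false, nat_lit 0⟩,
  ⟨nat_lit 0, nat_lit 2, nat_lit 0x68000000000920, nat_lit 0, false, nat_lit 0⟩,
  ⟨nat_lit 0, nat_lit 2, nat_lit 0x150000000000940, nat_lit 0, false, nat_lit 0⟩,
  ⟨nat_lit 1, nat_lit 0, nat_lit 0, nat_lit 0, false, nat_lit 0⟩,
  ⟨nat_lit 0, nat_lit 12, nat_lit 0x10004e5000000000002000000000a5000000000000a000000000a410000000006310000000001b30000000002510000000002410000000001800000000001500000000004b4, nat_lit 0, false, nat_lit 0⟩,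
  ⟨nat_lit 0, nat_lit 6, nat_lit 0x100091d0000000000380000000001800000000000c0000000000188000000000a60, nat_lit 0, false, nat_lit 0⟩,
  ⟨nat_lit 0, nat_lit 2, nat_lit 0x900000000007c0, nat_lit 0, false, nat_lit 0⟩,
  ⟨nat_lit 0, nat_lit 2, nat_lit 0x98000000000540, nat_lit 0, false, nat_lit 0⟩,
  ⟨nat_lit 0, nat_lit 3, nat_lit 0x1000a75000000000158000000000970, nat_lit 0, false, nat_lit 0⟩,
  ⟨nat_lit 0, nat_lit 2, nat_lit 0x380000000006e0, nat_lit 0, false, nat_lit 0⟩,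
  ⟨nat_lit 0, nat_lit 2, nat_lit 0x150000000000a90, nat_lit 0, false, nat_lit 0⟩,
  ⟨nat_lit 0, nat_lit 16, nat_lit 0x10004e50000000002a2000000000a110000000005210000000001280000000000300000000004b2000000000ab10000000004310000000001d3000000000ac10000000005f10000000000300000000001500000000001200000000002a4, nat_lit 0, false, nat_lit 0⟩,
  ⟨nat_lit 0, nat_lit 12, nat_lit 0x1000a7d00000200091d000000000128000000000158000000000180000000000150000000000038000000000038000000000060000000000188000000000038000000000ad0, nat_lit 0, false, nat_lit 0⟩,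
  ⟨nat_lit 0, nat_lit 4, nat_lit 0x10009150000030004e5000002000aed000001000335, nat_lit 0, false, nat_lit 0⟩,
  ⟨nat_lit 0, nat_lit 3, nat_lit 0x1000a75000002000afd000001000915, nat_lit 0, false, nat_lit 0⟩,
  ⟨nat_lit 0, nat_lit 4, nat_lit 0x1000b0d000001000afd0000000001200000000009f0, nat_lit 0, false, nat_lit 0⟩,
  ⟨nat_lit 0, nat_lit 3, nat_lit 0x1000afd0000000000c0000000000260, nat_lit 0, false, nat_lit 0⟩,
  ⟨nat_lit 0, nat_lit 3, nat_lit 0x1000af50000000000c0000000000820, nat_lit 0, false, nat_lit 0⟩,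
  ⟨nat_lit 0, nat_lit 2, nat_lit 0x98000000000b30, nat_lit 0, false, nat_lit 0⟩,
  ⟨nat_lit 1, nat_lit 0, nat_lit 0, nat_lit 0, false, nat_lit 0⟩,
  ⟨nat_lit 0, nat_lit 17, nat_lit 0x1000b05000001000a7d000002000af50000030004e5000002000aed000000000002000000000b5000000000000a000000000b210000000008310000000002b3000000000b410000000005c10000000001280000000001280000000000600000000002a4, nat_lit 0, false, nat_lit 0⟩,
  ⟨nat_lit 0, nat_lit 9, nat_lit 0x1000afd0000000001580000000001280000000001800000000000600000000000380000000001500000000000c0000000000b60, nat_lit 0, false, nat_lit 0⟩,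
  ⟨nat_lit 0, nat_lit 2, nat_lit 0x5000b7d000001000b05, nat_lit 0, false, nat_lit 0⟩,
  ⟨nat_lit 0, nat_lit 2, nat_lit 0x2000b8d000001000b75, nat_lit 0, false, nat_lit 0⟩,
  ⟨nat_lit 0, nat_lit 1, nat_lit 0x1000b9d, nat_lit 0, false, nat_lit 0⟩,
  ⟨nat_lit 0, nat_lit 3, nat_lit 0x1000b85000000000158000000000730, nat_lit 0, false, nat_lit 0⟩,
  ⟨nat_lit 0, nat_lit 3, nat_lit 0x1000b8d0000000000c0000000000930, nat_lit 0, false, nat_lit 0⟩,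
  ⟨nat_lit 0, nat_lit 2, nat_lit 0x150000000000bc0, nat_lit 0, false, nat_lit 0⟩,
  ⟨nat_lit 0, nat_lit 5, nat_lit 0x3000bad000006000b85000001000af5000000000090000000000530, nat_lit 0, false, nat_lit 0⟩,
  ⟨nat_lit 0, nat_lit 5, nat_lit 0x1000bad000002000b85000001000a7d000000000090000000000980, nat_lit 0, false, nat_lit 0⟩,
  ⟨nat_lit 0, nat_lit 3, nat_lit 0x1000b85000000000128000000000840, nat_lit 0, false, nat_lit 0⟩,
  ⟨nat_lit 0, nat_lit 2, nat_lit 0xc8000000000c00, nat_lit 0, false, nat_lit 0⟩,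
  ⟨nat_lit 1, nat_lit 0, nat_lit 0, nat_lit 0, false, nat_lit 0⟩,
  ⟨nat_lit 0, nat_lit 18, nat_lit 0x7000bad00000e000b85000001000a7d000002000af50000030004e5000002000aed000000000002000000000c2000000000000a000000000bf10000000006510000000002c3000000000c110000000007110000000001500000000000c80000000001200000000002a4, nat_lit 0, false, nat_lit 0⟩,
  ⟨nat_lit 0, nat_lit 11, nat_lit 0x2000ba5000004000b8d000001000afd000000000120000000000150000000000180000000000038000000000090000000000120000000000150000000000c30, nat_lit 0, false, nat_lit 0⟩,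
  ⟨nat_lit 0, nat_lit 1, nat_lit 0x1000c4d, nat_lit 0, false, nat_lit 0⟩,
  ⟨nat_lit 0, nat_lit 4, nat_lit 0x2000ba5000004000b8d000004000c5d000001000a75, nat_lit 0, false, nat_lit 0⟩,
  ⟨nat_lit 0, nat_lit 1, nat_lit 0x1000c6d, nat_lit 0, false, nat_lit 0⟩]

theorem c0 : P.chkL D0 0 = true := by decide +kernel

def D1 : List De := [⟨nat_lit 0, nat_lit 2, nat_lit 0x5000c7d000001000ba5, nat_lit 0, false, nat_lit 0⟩,
  ⟨nat_lit 0, nat_lit 2, nat_lit 0x2000c8d000001000c75, nat_lit 0, false, nat_lit 0⟩,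
  ⟨nat_lit 0, nat_lit 6, nat_lit 0x3000c95000007000c85000001000b8d000001000c5d0000000000c0000000000870, nat_lit 0, false, nat_lit 0⟩,
  ⟨nat_lit 0, nat_lit 7, nat_lit 0x1000c95000003000c85000001000b8d000002000c55000001000afd0000000000c8000000000a00, nat_lit 0, false, nat_lit 0⟩,
  ⟨nat_lit 0, nat_lit 5, nat_lit 0x5000c9500000a000c85000002000b8d000000000188000000000680, nat_lit 0, false, nat_lit 0⟩,
  ⟨nat_lit 0, nat_lit 23, nat_lit 0x13000c9d00002a000c8d000009000b85000002000c5d000001000af50000010004e5000001000aed0000000002a2000000000cc10000000003a10000000000600000000001800000000000300000000004b2000000000cb10000000005e10000000002b3000000000a310000000007810000000001500000000000680000000000300000000002a4, nat_lit 0, false, nat_lit 0⟩,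
  ⟨nat_lit 0, nat_lit 15, nat_lit 0xb000c95000018000c85000005000b8d000001000c55000001000afd000000000158000000000128000000000188000000000158000000000128000000000060000000000038000000000188000000000068000000000cd0, nat_lit 0, false, nat_lit 0⟩,
  ⟨nat_lit 0, nat_lit 3, nat_lit 0x1000c95000002000ced000001000c85, nat_lit 0, false, nat_lit 0⟩,
  ⟨nat_lit 0, nat_lit 2, nat_lit 0x26000cfd000001000c95, nat_lit 0, false, nat_lit 0⟩,
  ⟨nat_lit 0, nat_lit 1, nat_lit 0x1000d0d, nat_lit 0, false, nat_lit 0⟩,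
  ⟨nat_lit 0, nat_lit 7, nat_lit 0x2000d1d00004f000cf5000008000ced000001000b85000001000c5d0000000000c8000000000730, nat_lit 0, false, nat_lit 0⟩,
  ⟨nat_lit 0, nat_lit 2, nat_lit 0x180000000000d20, nat_lit 0, false, nat_lit 0⟩,
  ⟨nat_lit 0, nat_lit 8, nat_lit 0x1000d15000014000cfd000002000ce5000001000b8d000004000c55000001000afd0000000000900000000009b0, nat_lit 0, false, nat_lit 0⟩,
  ⟨nat_lit 0, nat_lit 21, nat_lit 0x2d000d1500067d000cfd0000a8000ce5000012000b8d000006000c55000004000afd0000020004ed000001000ae50000000002a2000000000d310000000005910000000001880000000001500000000004b2000000000d410000000002d30000000009a10000000003f10000000000380000000001200000000002a4, nat_lit 0, false, nat_lit 0⟩,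
  ⟨nat_lit 0, nat_lit 13, nat_lit 0x10000d15000237000cfd000039000ce5000006000b8d000001000c55000001000afd0000000001280000000001880000000001500000000000980000000000380000000000c8000000000d50, nat_lit 0, false, nat_lit 0⟩,
  ⟨nat_lit 0, nat_lit 2, nat_lit 0x18000d6d000001000d15, nat_lit 0, false, nat_lit 0⟩,
  ⟨nat_lit 0, nat_lit 1, nat_lit 0x1000d7d, nat_lit 0, false, nat_lit 0⟩,
  ⟨nat_lit 0, nat_lit 2, nat_lit 0x8000d8d000001000d65, nat_lit 0, false, nat_lit 0⟩,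
  ⟨nat_lit 0, nat_lit 1, nat_lit 0x1000d9d, nat_lit 0, false, nat_lit 0⟩,
  ⟨nat_lit 0, nat_lit 9, nat_lit 0x11b000dad0008ce000d850001ab000cfd00002b000ce5000005000b8d000003000c55000001000afd000000000060000000000790, nat_lit 0, false, nat_lit 0⟩,
  ⟨nat_lit 0, nat_lit 8, nat_lit 0x54000dad0002a0000d8500007f000cfd00000d000ce5000001000b8d000001000c5d000000000150000000000870, nat_lit 0, false, nat_lit 0⟩,
  ⟨nat_lit 0, nat_lit 7, nat_lit 0xd000da5000068000d8d000014000cf5000002000ced000001000c55000000000180000000000510, nat_lit 0, false, nat_lit 0⟩,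
  ⟨nat_lit 0, nat_lit 7, nat_lit 0x42000da500020a000d8d000063000cf500000a000ced000001000b85000000000090000000000dd0, nat_lit 0, false, nat_lit 0⟩,
  ⟨nat_lit 0, nat_lit 9, nat_lit 0xf9000da50007c0000d8d000178000cf5000026000ced000004000b85000001000c5d000001000af5000000000030000000000850, nat_lit 0, false, nat_lit 0⟩,
  ⟨nat_lit 0, nat_lit 7, nat_lit 0xd000da5000068000d8d000014000cf5000002000ced000001000c55000000000060000000000db0, nat_lit 0, false, nat_lit 0⟩,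
  ⟨nat_lit 1, nat_lit 0, nat_lit 0, nat_lit 0, false, nat_lit 0⟩,
  ⟨nat_lit 0, nat_lit 17, nat_lit 0x1ab000da5000d4a000d8d000285000cf5000041000ced000006000b85000002000c5d000001000af5000000000002000000000e1000000000000a000000000bb10000000005010000000001a3000000000de10000000006610000000001200000000004b4, nat_lit 0, false, nat_lit 0⟩,
  ⟨nat_lit 0, nat_lit 13, nat_lit 0x84000dad000418000d850000c7000cfd000014000ce5000002000b8d000000000128000000000128000000000158000000000098000000000120000000000150000000000098000000000e20, nat_lit 0, false, nat_lit 0⟩,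
  ⟨nat_lit 0, nat_lit 3, nat_lit 0x2000dad000004000e3d000001000d85, nat_lit 0, false, nat_lit 0⟩,
  ⟨nat_lit 0, nat_lit 1, nat_lit 0x1000e4d, nat_lit 0, false, nat_lit 0⟩,
  ⟨nat_lit 0, nat_lit 2, nat_lit 0xd000e5d000001000da5, nat_lit 0, false, nat_lit 0⟩,
  ⟨nat_lit 0, nat_lit 2, nat_lit 0x2000e6d000001000e55, nat_lit 0, false, nat_lit 0⟩,
  ⟨nat_lit 0, nat_lit 9, nat_lit 0x207f57000e7d00272a000e3d0001db000cf5000030000ced000005000b85000001000c5d000001000af50000000000c8000000000860, nat_lit 0, false, nat_lit 0⟩,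
  ⟨nat_lit 0, nat_lit 8, nat_lit 0x81dc3000e7d0009c8000e3d000077000cf500000c000ced000001000b85000001000c550000000001880000000003e0, nat_lit 0, false, nat_lit 0⟩,
  ⟨nat_lit 0, nat_lit 3, nat_lit 0xd0000e7d0000000000c0000000000dc0, nat_lit 0, false, nat_lit 0⟩,
  ⟨nat_lit 0, nat_lit 9, nat_lit 0x2739f6000e75002f46000e3500023d000cfd00003a000ce5000006000b8d000001000c55000001000afd000000000120000000000a20, nat_lit 0, false, nat_lit 0⟩,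
  ⟨nat_lit 0, nat_lit 8, nat_lit 0x2f3689000e750038e6000e350002b1000cfd000046000ce5000007000b8d000001000afd0000000000c0000000000aa0, nat_lit 0, false, nat_lit 0⟩,
  ⟨nat_lit 0, nat_lit 7, nat_lit 0x204f5000e7500026f000e3500001d000cfd000003000ce5000001000c55000000000060000000000be0, nat_lit 0, false, nat_lit 0⟩,
  ⟨nat_lit 0, nat_lit 8, nat_lit 0x81e96000e7d0009c9000e3d000077000cf500000c000ced000001000b85000001000c550000000000c0000000000a80, nat_lit 0, false, nat_lit 0⟩,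
  ⟨nat_lit 1, nat_lit 0, nat_lit 0, nat_lit 0, false, nat_lit 0⟩,
  ⟨nat_lit 0, nat_lit 18, nat_lit 0x41016f000e7d004e57000e3d0003b6000cf5000060000ced00000a000b85000002000c5d000002000af5000000000002000000000ef000000000000a000000000ed10000000003610000000002d3000000000e010000000001810000000000300000000000300000000002a4, nat_lit 0, false, nat_lit 0⟩,
  ⟨nat_lit 0, nat_lit 12, nat_lit 0x3488e000e7d0003f5000e3d000030000cf5000005000ced000002000c55000000000150000000000038000000000060000000000060000000000158000000000030000000000f00, nat_lit 0, false, nat_lit 0⟩,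
  ⟨nat_lit 0, nat_lit 6, nat_lit 0x9982000e7d0000b9000e3d00000a000cf5000002000f1d000000000150000000000ca0, nat_lit 0, false, nat_lit 0⟩,
  ⟨nat_lit 2, nat_lit 0, nat_lit 0, nat_lit 0, false, nat_lit 0⟩,
  ⟨nat_lit 0, nat_lit 19, nat_lit 0x955c000e750000b4000e3500000d000cfd00000e000f15000001000b8d000001000c55000000000f320000000007610000000000380000000001580000000000980000000001800000000001200000000001200000000001200000000000600000000000c8000000000030000000000f34, nat_lit 0, false, nat_lit 0⟩,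
  ⟨nat_lit 0, nat_lit 17, nat_lit 0x3fde000e7500004d000e35000006000cfd000005000f15000001000c5d000000000f320000000005c1000000000090000000000068000000000030000000000158000000000128000000000188000000000150000000000098000000000038000000000f34, nat_lit 0, false, nat_lit 0⟩,
  ⟨nat_lit 0, nat_lit 21, nat_lit 0x32ec1000e750003d6000e35000048000cfd00004f000f15000004000b8d000001000c55000001000afd000000000f320000000007810000000000380000000000c00000000000900000000000c00000000001580000000001200000000001800000000000380000000000c0000000000030000000000180000000000f34, nat_lit 0, false, nat_lit 0⟩,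
  ⟨nat_lit 0, nat_lit 20, nat_lit 0x58696000e7d0006a9000e3d00007f000cf500008a000f1d000006000b85000004000c55000001000af50000020004ed000001000ae5000000000f32000000000f21000000000341000000000030000000000180000000000098000000000150000000000f3a0000000007b10000000007d10000000002e3, nat_lit 0, false, nat_lit 0⟩,
  ⟨nat_lit 1, nat_lit 0, nat_lit 0, nat_lit 0, false, nat_lit 0⟩,
  ⟨nat_lit 0, nat_lit 25, nat_lit 0xfd0b000e7d000131000e3d000016000cf500000d000f1d000001000b85000001000c5d000000000f32000000000ec10000000003f10000000000c0000000000158000000000068000000000002000000000f8000000000000a000000000e910000000006c10000000001f3000000000ee10000000007e10000000000c00000000000c0000000000158000000000090000000000f34, nat_lit 0, false, nat_lit 0⟩,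
  ⟨nat_lit 4, nat_lit 0, nat_lit 0, nat_lit 249, false, nat_lit 14⟩,
  ⟨nat_lit 0, nat_lit 24, nat_lit 0x6332b000e75000779000e3500008b000cfd000091000f15000009000b8d000004000c55000002000afd0000020004ed000001000ae5000000000f320000000000310000000001290000000000380000000000900000000000380000000001500000000002a2000000000801000000000551000000000128000000000f3a000000000bb10000000005d1000000000fa3, nat_lit 0, false, nat_lit 0⟩,
  ⟨nat_lit 0, nat_lit 14, nat_lit 0x380e4000e75000439000e35000050000cfd000056000f15000004000b8d000002000c5d0000010004e5000000000fb2000000000ea1000000000f98000000000f60000000000f90000000000f58000000000fbc, nat_lit 0, false, nat_lit 0⟩,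
  ⟨nat_lit 0, nat_lit 6, nat_lit 0xf60000000000f48000000000f98000000000f68000000000f58000000000fc0, nat_lit 0, false, nat_lit 0⟩,
  ⟨nat_lit 1, nat_lit 0, nat_lit 0, nat_lit 0, false, nat_lit 0⟩,
  ⟨nat_lit 0, nat_lit 19, nat_lit 0xb994000e750000df000e35000010000cfd000011000f15000001000b8d000001000c55000000000f32000000000002000000000fe000000000000a000000000df10000000007110000000001e30000000006b10000000000c00000000000c0000000000098000000000060000000000f34, nat_lit 0, false, nat_lit 0⟩,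
  ⟨nat_lit 0, nat_lit 10, nat_lit 0xf48000000000f48000000000f58000000000f40000000000f68000000000f90000000000f48000000000f98000000000f60000000000ff0, nat_lit 0, false, nat_lit 0⟩,
  ⟨nat_lit 0, nat_lit 1, nat_lit 0x100100d, nat_lit 0, false, nat_lit 0⟩,
  ⟨nat_lit 0, nat_lit 32, nat_lit 0x2505e000e7d0002ca000e3d000036000cf5000039000f1d000002000b85000004000c55000001000afd000000000f32000000000b110000000007e1000000000038000000000098000000000120000000000068000000000f3a000000000811000000000561000000000f98000000000f40000000000f98000000000f48000000000f720000000009e10000000006410000000002030000000009610000000005d1000000000f48000000000f90000000000f48000000000f90000000000fb4, nat_lit 0, false, nat_lit 0⟩,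
  ⟨nat_lit 0, nat_lit 6, nat_lit 0x1000fd5000000000f40000000000f60000000000f90000000000f90000000001020, nat_lit 0, false, nat_lit 0⟩,
  ⟨nat_lit 0, nat_lit 30, nat_lit 0x6503b000e7500079c000e3500008e000cfd000096000f15000007000b8d000002000c55000001000afd0000010004ed000001000fdd000001000ae5000000000fb2000000000eb10000000005d1000000000f40000000000f98000000000f98000000000f48000000000f58000000000fb2000000000e810000000007410000000002e3000000000bd10000000003a1000000000f90000000000f40000000000f98000000000f50000000000f40000000000fb4, nat_lit 0, false, nat_lit 0⟩,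
  ⟨nat_lit 0, nat_lit 8, nat_lit 0x1000fdd000000000f68000000000f58000000000f98000000000f40000000000f98000000000f68000000001040, nat_lit 0, false, nat_lit 0⟩,
  ⟨nat_lit 0, nat_lit 1, nat_lit 0x100105d, nat_lit 0, false, nat_lit 0⟩,
  ⟨nat_lit 0, nat_lit 1, nat_lit 0x1000e75, nat_lit 0, false, nat_lit 0⟩,
  ⟨nat_lit 0, nat_lit 2, nat_lit 0xd4001075000001000e35, nat_lit 0, false, nat_lit 0⟩,
  ⟨nat_lit 0, nat_lit 3, nat_lit 0x500107d00000e00108d000001000cf5, nat_lit 0, false, nat_lit 0⟩,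
  ⟨nat_lit 0, nat_lit 1, nat_lit 0x1000225, nat_lit 0, false, nat_lit 0⟩,
  ⟨nat_lit 0, nat_lit 1, nat_lit 0x1000f15, nat_lit 0, false, nat_lit 0⟩,
  ⟨nat_lit 0, nat_lit 5, nat_lit 0x900107d0000070010850000130010950000140010bd000001000b85, nat_lit 0, false, nat_lit 0⟩,
  ⟨nat_lit 0, nat_lit 5, nat_lit 0x20010750000070010850000040010950000050010bd000001000c55, nat_lit 0, false, nat_lit 0⟩,
  ⟨nat_lit 0, nat_lit 6, nat_lit 0x70010750000030010850000010010bd0000050010c50000010010dd000001000af5, nat_lit 0, false, nat_lit 0⟩,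
  ⟨nat_lit 0, nat_lit 6, nat_lit 0x30010850000040010950000040010bd0000040010cd0000020010dd0000010004e5, nat_lit 0, false, nat_lit 0⟩,
  ⟨nat_lit 0, nat_lit 1, nat_lit 0x1001035, nat_lit 0, false, nat_lit 0⟩,
  ⟨nat_lit 0, nat_lit 1, nat_lit 0x1001065, nat_lit 0, false, nat_lit 0⟩,
  ⟨nat_lit 0, nat_lit 1, nat_lit 0x1001015, nat_lit 0, false, nat_lit 0⟩,
  ⟨nat_lit 0, nat_lit 6, nat_lit 0x100107d0000050010850000060010950000050010bd0000070010cd000001000ae5, nat_lit 0, false, nat_lit 0⟩]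

theorem c1 : P.chkL D1 200 = true := by decide +kernel


theorem val {H : Type} [Group H] {N : ℕ} {Γ : Type} [Group Γ] {A : RAct H N} {g : ℕ → H} {φ : H →* Γ} {z : Γ}
    {c : ℕ → Subgroup.center Γ} (h : CtxH P A g) (hG : CtxG P g φ z c) :
    ∀ x < 276, Val P g φ z c (P.F x) := by
  have h0 : ∀ x < 0, Val P g φ z c (P.F x) := forall_lt_zero'
  have h1 : ∀ x < 200, Val P g φ z c (P.F x) := chkL_spec h hG h0 c0
  have h2 : ∀ x < 276, Val P g φ z c (P.F x) := chkL_spec h hG h1 c1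
  exact h2

theorem rel {H : Type} [Group H] {N : ℕ} {Γ : Type} [Group Γ] {A : RAct H N} {g : ℕ → H} {φ : H →* Γ} {z : Γ}
    {c : ℕ → Subgroup.center Γ} (h : CtxH P A g) (hG : CtxG P g φ z c) : ∀ i < 13, c i = 1 :=
  rel_unit (val h hG) (l := [nat_lit 275, nat_lit 274, nat_lit 273, nat_lit 272, nat_lit 271, nat_lit 270, nat_lit 269, nat_lit 268, nat_lit 267, nat_lit 266, nat_lit 265, nat_lit 264, nat_lit 263]) (by decide +kernel)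

end Cfsg.Agent.L0.LyFA
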