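import Cfsg.Agent.L0.Ly.Tc1
import Cfsg.Agent.L0.Ly.Tc2
import Cfsg.Agent.L0.Ly.Tc3
import Cfsg.Agent.L0.Ly.Tc4
import Cfsg.Agent.L0.Ly.FA
import Cfsg.Agent.L0.Ly.Clo
import Cfsg.Agent.L0.Mu.LyP2
import Cfsg.Agent.L0.Mu.LyP3
import Cfsg.Agent.L0.Mu.LyP5
import Cfsg.Agent.L0.DceG
import Cfsg.Prelude.Def_Spor_Ly

/-! The presented group Ly: finiteness and the multiplier. -/

set_option autoImplicit false
set_option maxRecDepth 100000
set_option linter.style.haveILetI false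

namespace Cfsg.Agent.L0.LyG

open Cfsg.Spor Dce

/-- letter of a generator -/
def idx : Ly.Gen → ℕ
  | .a => 0
  | .b => 1
  | .c => 2
  | .d => 3
  | .z => 4
  | .e => 5
  | .a1 => 6
  | .a2 => 7
  | .a3 => 8
  | .a4 => 9
  | .c1 => 10
  | .c2 => 11
  | .c3 => 12
  | .c4 => 13
  | .c5 => 14
  | .u => 15
  | .x23 => 16
  | .x24 => 17
  | .x25 => 18
  | .x29 => 19
  | .x47 => 20
  | .x96 => 21
  | .x129 => 22
  | .x162 => 23
  | .x163 => 24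
  | .x164 => 25
  | .x165 => 26
  | .x166 => 27
  | .x167 => 28
  | .x168 => 29
  | .x169 => 30
  | .x364 => 31
  | .x365 => 32
  | .x366 => 33
  | .x367 => 34
  | .x368 => 35
  | .x369 => 36
  | .x370 => 37
  | .x371 => 38

/-- all generators -/
def all : List Ly.Gen := [.a, .b, .c, .d, .z, .e, .a1, .a2, .a3, .a4, .c1, .c2, .c3, .c4, .c5, .u, .x23, .x24, .x25, .x29, .x47, .x96, .x129, .x162, .x163, .x164, .x165, .x166, .x167, .x168, .x169, .x364, .x365, .x366, .x367, .x368, .x369, .x370, .x371]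

/-- the letters -/
def x (i : ℕ) : Ly := if i < 39 then PresentedGroup.of (all.getD i .a)
  else (PresentedGroup.of (all.getD (i - 39) .a))⁻¹

theorem hall : ∀ q, q ∈ all := by intro q; cases q <;> decide

/-- the defining relators -/
def R : List (List ℕ) := [[0, 0, 0, 0, 0, 0, 0, 0],
    [1, 1, 1, 1, 1],
    [0, 1, 0, 1, 0, 1, 0, 1],
    [39, 39, 40, 0, 0, 1],
    [39, 40, 0, 1, 39, 40, 0, 1, 39, 40, 0, 1],
    [10, 41],
    [11, 39, 41, 0],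
    [12, 40, 41, 1],
    [13, 1, 41, 40],
    [14, 50, 49, 11, 10],
    [10, 10, 10, 10, 10],
    [14, 14, 14, 14, 14],
    [49, 53, 10, 14],
    [50, 53, 11, 14],
    [51, 53, 12, 14],
    [52, 53, 13, 14],
    [49, 51, 10, 12, 14, 14],
    [49, 52, 10, 13, 53, 53],
    [50, 51, 11, 12, 14],
    [50, 52, 11, 13],
    [51, 52, 12, 13, 14],
    [39, 11, 0, 10, 10],
    [39, 12, 0, 52, 49, 12, 12],
    [39, 13, 0, 52, 49, 52, 12, 11, 49],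
    [39, 14, 0, 53, 53],
    [40, 11, 1, 13, 10, 13, 51, 50],
    [40, 12, 1, 12, 12, 52, 49, 49],
    [40, 14, 1, 53],
    [5, 42, 49, 42, 1, 39, 40, 49, 42, 39, 49, 0, 49, 39, 10, 0, 1, 1],
    [5, 5],
    [44, 10, 5, 10, 40, 51, 40],
    [44, 12, 5, 0, 13, 10, 50, 39, 40, 40],
    [44, 13, 5, 52, 12, 40, 40],
    [44, 14, 5, 13, 49, 12, 49],
    [5, 0, 0, 5, 13, 53, 49, 39, 1, 39, 40, 40, 39],
    [44, 1, 5, 13, 13, 12, 49],
    [5, 0, 1, 1, 0, 40, 0, 5, 13, 53, 49, 39, 39],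
    [5, 11, 5, 50, 5, 11, 52, 0, 12, 0, 0, 0],
    [3, 44, 40, 11, 39, 44, 39, 44, 39, 14, 13, 10, 1, 0, 40, 40, 39],
    [3, 3, 39, 39, 39, 39],
    [40, 42, 1, 3],
    [42, 0, 3, 39, 39, 39],
    [3, 14, 3, 14, 3, 14, 3, 14, 3, 14],
    [3, 14, 3, 53, 3, 14, 39, 39],
    [6, 39],
    [7, 1, 39, 40],
    [8, 1, 1, 39, 40, 40],
    [9, 40, 40, 39, 1, 1],
    [15, 39, 39],
    [16, 42],
    [17, 3],
    [18, 40, 41, 0, 40, 40, 2, 42, 2, 0, 41, 39, 2, 40, 40, 0, 1, 0, 40, 40],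
    [19, 41, 40, 41, 42, 1, 1, 41, 42, 1, 41, 40, 41, 39, 2, 40, 40, 0, 40, 40, 0, 40, 39],
    [20, 3, 2, 40, 0, 2, 0, 3, 2],
    [21, 42, 40],
    [22, 1, 3],
    [23, 39, 40, 2, 39, 1, 2, 40, 0, 1, 0],
    [24, 40, 41, 40, 0, 41, 39, 1, 1],
    [25, 39, 40, 39, 41, 0, 1, 0],
    [26, 40, 39, 1, 41, 40, 0, 1],
    [27, 2, 1, 1, 41, 39, 40, 41, 1, 0, 40, 40],
    [28, 0, 0, 0],
    [29, 0, 0, 1, 0, 40],
    [30, 0, 1, 1, 39, 40, 40, 39],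
    [31, 1, 39, 40, 39, 1, 39, 2, 0, 1, 2, 40, 3, 2, 40, 0, 2, 1, 42, 0],
    [32, 3, 1, 41, 0, 41, 39, 41, 42, 2, 2, 0, 40, 2, 40, 41, 0, 1, 1, 39],
    [33, 41, 40, 41, 42, 1, 1, 41, 42, 40, 41, 40, 40, 41, 1, 0, 1, 1, 0, 1, 39, 40],
    [34, 1, 0, 40, 39, 40, 40, 39, 40, 2, 1, 1, 2, 1, 3, 2, 40, 40, 3, 2, 1, 2],
    [35, 1, 1, 0, 1, 2, 1, 1, 41, 39, 2, 0, 3, 2, 39, 1, 2, 39, 3, 2, 0],
    [36, 1, 39, 1, 1, 39, 1, 2, 1, 0, 40, 3, 2, 1, 0, 40, 3, 2, 0],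
    [37, 0, 40, 0, 1, 1, 0, 41, 0, 1, 39, 3, 2, 0, 41, 40, 41, 39, 3],
    [38, 40, 0, 1, 0, 1, 41, 39, 41, 0, 41, 3, 2, 40, 41, 0, 2],
    [43, 10, 4, 62],
    [43, 11, 4, 63],
    [43, 12, 4, 64],
    [43, 13, 4, 65],
    [43, 14, 4, 66],
    [43, 6, 4, 67],
    [43, 7, 4, 68],
    [43, 8, 4, 69],
    [4, 4, 54],
    [9, 4, 9, 4, 9, 4, 15],
    [20, 4, 31, 4, 35, 4],
    [43, 17, 43, 36, 4, 16, 4, 19],
    [4, 33, 4, 32, 43, 34, 43, 37],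
    [4, 21, 4, 18, 43, 22, 43, 38],
    [0, 39],
    [39, 0],
    [1, 40],
    [40, 1],
    [2, 41],
    [41, 2],
    [3, 42],
    [42, 3],
    [4, 43],
    [43, 4],
    [5, 44],
    [44, 5],
    [6, 45],
    [45, 6],
    [7, 46],
    [46, 7],
    [8, 47],
    [47, 8],
    [9, 48],
    [48, 9],
    [10, 49],
    [49, 10],
    [11, 50],
    [50, 11],
    [12, 51],
    [51, 12],
    [13, 52],
    [52, 13],
    [14, 53],
    [53, 14],
    [15, 54],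
    [54, 15],
    [16, 55],
    [55, 16],
    [17, 56],
    [56, 17],
    [18, 57],
    [57, 18],
    [19, 58],
    [58, 19],
    [20, 59],
    [59, 20],
    [21, 60],
    [60, 21],
    [22, 61],
    [61, 22],
    [23, 62],
    [62, 23],
    [24, 63],
    [63, 24],
    [25, 64],
    [64, 25],
    [26, 65],
    [65, 26],
    [27, 66],
    [66, 27],
    [28, 67],
    [67, 28],
    [29, 68],
    [68, 29],
    [30, 69],
    [69, 30],
    [31, 70],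
    [70, 31],
    [32, 71],
    [71, 32],
    [33, 72],
    [72, 33],
    [34, 73],
    [73, 34],
    [35, 74],
    [74, 35],
    [36, 75],
    [75, 36],
    [37, 76],
    [76, 37],
    [38, 77],
    [77, 38]]

theorem isPres : IsPres x 78 R :=
  isPres_cox (idx := idx) (iv := fun q => idx q + 39) hall (by intro q; cases q <;> rfl)
    (by intro q; cases q <;> rfl) (by decide +kernel) (by decide +kernel) (by decide +kernel)
    (by decide +kernel) (by decide +kernel)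

/-- inverse letters -/
def iv (i : ℕ) : ℕ := if i < 39 then i + 39 else i - 39

theorem card_H : Finite (PG 19 LyH.R) ∧ Nat.card (PG 19 LyH.R) ≤ 5859000000 := by
  have := CardLe.top (LyTc1.bound (rel_sub (R := LyH.R) (fun _ => PG.rel) (by decide +kernel))
    (LyTc2.bound (rel_sub (R := LyH.R) (fun _ => PG.rel) (by decide +kernel))
    (LyTc3.bound (rel_sub (R := LyH.R) (fun _ => PG.rel) (by decide +kernel))
    (LyTc4.bound (rel_sub (R := LyH.R) (fun _ => PG.rel) (by decide +kernel))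
    (cardLe_nil _))))) (PG.genL_range 19 LyH.R)
  simpa using this

instance : Finite (PG 19 LyH.R) := card_H.1

theorem perfect_H : commutator (PG 19 LyH.R) = ⊤ :=
  PG.perfect (by decide +kernel) (Ls := [[(81, 0), (-288, 3), (-1428, 5), (-108, 6), (-103, 7), (-555, 8), (-997, 9), (5, 20), (910, 24), (-1670, 26), (760, 27), (-355, 41), (709, 43), (910, 45), (96, 47), (103, 48), (108, 49), (-421, 52), (108, 56), (36, 60)],
    [(13, 0), (-48, 3), (-237, 5), (-18, 6), (-17, 7), (-92, 8), (-166, 9), (1, 20), (151, 24), (-277, 26), (126, 27), (-59, 41), (118, 43), (151, 45), (16, 47), (17, 48), (18, 49), (-70, 52), (18, 56), (6, 60)],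
    [(-1, 0), (1, 2), (3, 5), (1, 8), (-3, 24), (3, 26), (-1, 27), (1, 41), (-2, 45)],
    [(-1, 0), (9, 3), (39, 5), (3, 6), (3, 7), (15, 8), (28, 9), (-24, 24), (45, 26), (-21, 27), (9, 41), (-20, 43), (-24, 45), (-3, 47), (-3, 48), (-3, 49), (12, 52), (-3, 56), (-1, 60)],
    [(46, 0), (-1, 1), (-168, 3), (-832, 5), (-63, 6), (-60, 7), (-323, 8), (-581, 9), (3, 20), (530, 24), (-972, 26), (442, 27), (-207, 41), (413, 43), (530, 45), (56, 47), (60, 48), (63, 49), (-245, 52), (63, 56), (21, 60)],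
    [(-1, 0), (3, 5), (1, 8), (-2, 24), (3, 26), (-1, 27), (1, 41), (-2, 45)],
    [(-1, 0), (1, 6), (-1, 7), (-1, 8), (-1, 24), (-1, 26), (2, 27), (2, 41), (-1, 45), (1, 48), (-1, 49)],
    [(-1, 0), (1, 5), (-1, 24), (1, 26), (1, 41), (-1, 45)],
    [(-1, 0), (1, 5), (-1, 24), (1, 27), (1, 41), (-1, 45)],
    [(1, 0), (2, 9), (-1, 43)],
    [(-80, 0), (288, 3), (1428, 5), (108, 6), (103, 7), (555, 8), (997, 9), (-5, 20), (-910, 24), (1670, 26), (-760, 27), (355, 41), (-709, 43), (-910, 45), (-96, 47), (-103, 48), (-108, 49), (421, 52), (-108, 56), (-36, 60)],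
    [(-13, 0), (1, 1), (48, 3), (237, 5), (18, 6), (17, 7), (92, 8), (166, 9), (-1, 20), (-151, 24), (277, 26), (-126, 27), (59, 41), (-118, 43), (-151, 45), (-16, 47), (-17, 48), (-18, 49), (70, 52), (-18, 56), (-6, 60)],
    [(1, 0), (-3, 5), (-1, 8), (3, 24), (-3, 26), (1, 27), (-1, 41), (2, 45)],
    [(1, 0), (-8, 3), (-39, 5), (-3, 6), (-3, 7), (-15, 8), (-28, 9), (24, 24), (-45, 26), (21, 27), (-9, 41), (20, 43), (24, 45), (3, 47), (3, 48), (3, 49), (-12, 52), (3, 56), (1, 60)],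
    [(1, 0), (-2, 5), (-1, 8), (2, 24), (-3, 26), (1, 27), (-1, 41), (2, 45)],
    [(1, 0), (1, 7), (1, 8), (1, 24), (1, 26), (-2, 27), (-2, 41), (1, 45), (-1, 48), (1, 49)],
    [(1, 0), (-1, 5), (1, 7), (1, 24), (-1, 26), (-1, 41), (1, 45)],
    [(1, 0), (-1, 5), (1, 8), (1, 24), (-1, 27), (-1, 41), (1, 45)],
    [(-1, 0), (-1, 9), (1, 43)]]) (by decide +kernel)

theorem exists_act : ∃ A : RAct (PG 19 LyH.R) 3906, A.Tab (PG.gen 19 LyH.R) 19 LyAct.T ∧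
    A.IsBase LyCh.B ∧ Nat.card (PG 19 LyH.R) = 5859000000 := by
  obtain ⟨A, hA⟩ := LyAct.ex
  exact ⟨A, hA, LyCh.ch hA card_H.2⟩

theorem upper_H : UpperMult (PG 19 LyH.R) (Multiplicative (ZMod 1)) := by
  obtain ⟨A, ht, hb, hc⟩ := exists_act
  exact upper_cyclic (k2 := 0) (k3 := 0) rfl ((LyP2.pm hb ht hc).mono (by norm_num))
    ((LyP3.pm hb ht hc).mono (by norm_num))
    (pmult_rest hc [5] (by simpa using LyP5.pm hb ht hc) (by decide +kernel) (by decide +kernel))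

/-- the generators in the letters of the enumeration -/
def s (i : ℕ) : List ℕ := List.getD [[0],
    [1],
    [2],
    [3],
    [19],
    [4],
    [0],
    [1, 0, 11],
    [1, 1, 0, 11, 11],
    [11, 11, 0, 1, 1],
    [5],
    [6],
    [7],
    [8],
    [9],
    [0, 0],
    [3],
    [13],
    [1, 1, 10, 11, 10, 1, 1, 12, 0, 2, 10, 12, 3, 12, 1, 1, 10, 2, 1],
    [0, 1, 10, 1, 1, 10, 1, 1, 12, 0, 2, 1, 2, 11, 3, 2, 11, 11, 3, 2, 1, 2],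
    [12, 13, 10, 12, 10, 1, 12, 13],
    [1, 3],
    [13, 11],
    [10, 11, 10, 1, 12, 11, 0, 12, 1, 0],
    [11, 11, 0, 2, 10, 1, 2, 1],
    [10, 11, 10, 2, 0, 1, 0],
    [11, 10, 1, 2, 11, 0, 1],
    [1, 1, 10, 11, 2, 1, 0, 2, 11, 11, 12],
    [10, 10, 10],
    [1, 10, 11, 10, 10],
    [0, 1, 1, 0, 11, 11, 10],
    [10, 3, 11, 12, 10, 1, 12, 13, 1, 12, 11, 10, 12, 0, 11, 0, 1, 0, 11],
    [0, 11, 11, 10, 2, 1, 12, 1, 10, 12, 12, 3, 2, 0, 2, 10, 2, 11, 13],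
    [1, 0, 11, 10, 11, 11, 10, 11, 2, 1, 1, 2, 1, 3, 2, 11, 11, 3, 2, 1, 2],
    [12, 11, 12, 13, 1, 1, 12, 13, 11, 12, 11, 11, 12, 1, 0, 1, 1, 0, 1, 10, 11],
    [10, 12, 13, 0, 12, 11, 0, 12, 13, 10, 12, 0, 2, 11, 11, 12, 11, 10, 11, 11],
    [10, 12, 13, 1, 10, 11, 12, 13, 1, 10, 11, 12, 11, 0, 11, 11, 0, 11],
    [13, 0, 2, 1, 2, 10, 12, 13, 0, 11, 10, 2, 10, 11, 11, 10, 1, 10],
    [12, 10, 2, 1, 12, 13, 2, 10, 2, 0, 2, 11, 10, 11, 10, 1],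
    [10],
    [11],
    [12],
    [13],
    [20],
    [4],
    [10],
    [1, 10, 11],
    [1, 1, 10, 11, 11],
    [11, 11, 10, 1, 1],
    [14],
    [15],
    [16],
    [17],
    [18],
    [10, 10],
    [13],
    [3],
    [11, 12, 0, 11, 11, 2, 13, 2, 0, 12, 10, 2, 11, 11, 0, 1, 0, 11, 11],
    [12, 11, 12, 13, 1, 1, 12, 13, 1, 12, 11, 12, 10, 2, 11, 11, 0, 11, 11, 0, 11, 10],
    [3, 2, 11, 0, 2, 0, 3, 2],
    [13, 11],
    [1, 3],
    [10, 11, 2, 10, 1, 2, 11, 0, 1, 0],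
    [11, 12, 11, 0, 12, 10, 1, 1],
    [10, 11, 10, 12, 0, 1, 0],
    [11, 10, 1, 12, 11, 0, 1],
    [2, 1, 1, 12, 10, 11, 12, 1, 0, 11, 11],
    [0, 0, 0],
    [0, 0, 1, 0, 11],
    [0, 1, 1, 10, 11, 11, 10],
    [1, 10, 11, 10, 1, 10, 2, 0, 1, 2, 11, 3, 2, 11, 0, 2, 1, 13, 0],
    [3, 1, 12, 0, 12, 10, 12, 13, 2, 2, 0, 11, 2, 11, 12, 0, 1, 1, 10],
    [12, 11, 12, 13, 1, 1, 12, 13, 11, 12, 11, 11, 12, 1, 0, 1, 1, 0, 1, 10, 11],
    [1, 0, 11, 10, 11, 11, 10, 11, 2, 1, 1, 2, 1, 3, 2, 11, 11, 3, 2, 1, 2],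
    [1, 1, 0, 1, 2, 1, 1, 12, 10, 2, 0, 3, 2, 10, 1, 2, 10, 3, 2, 0],
    [1, 10, 1, 1, 10, 1, 2, 1, 0, 11, 3, 2, 1, 0, 11, 3, 2, 0],
    [0, 11, 0, 1, 1, 0, 12, 0, 1, 10, 3, 2, 0, 12, 11, 12, 10, 3],
    [11, 0, 1, 0, 1, 12, 10, 12, 0, 12, 3, 2, 11, 12, 0, 2]] i []

/-- the letters of the enumeration -/
def t (i : ℕ) : List ℕ := List.getD [[0],
    [1],
    [2],
    [3],
    [5],
    [10],
    [11],
    [12],
    [13],
    [14],
    [39],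
    [40],
    [41],
    [42],
    [49],
    [50],
    [51],
    [52],
    [53],
    [4],
    [43]] i []

theorem br : ∃ (φ : PG 19 LyH.R →* Ly) (z : Ly),
    (∀ i < 78, x i = ev (XX 19 (PG.gen 19 LyH.R) φ z) (s i)) ∧
      ∀ r ∈ R.map fun r => r.flatMap s, ev (XX 19 (PG.gen 19 LyH.R) φ z) r = 1 :=
  bridge isPres.rel iv LyFB.P.iv s t (by decide +kernel) (by decide +kernel) (by decide +kernel)
    (by decide +kernel)

theorem finite : Finite Ly := by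
  obtain ⟨A, ht, hb, hc⟩ := exists_act
  obtain ⟨B, hB⟩ := LyActN.ex
  obtain ⟨φ, z, h1, h2⟩ := br
  have h : CtxH LyFB.P A (PG.gen 19 LyH.R) :=
    ctxH_of (R := LyH.R) ht hb (fun _ => PG.rel) (by decide +kernel)
  exact (LyClo.fin h (ctxG_one h h2 (by decide +kernel)) hB hc.le (gen_of isPres.gen_top h1)).1

/-- the relators giving the labels -/
def L : List (List ℕ) := [[12, 13, 10, 12, 10, 1, 12, 13, 19, 10, 3, 11, 12, 10, 1, 12, 13, 1, 12, 11, 10, 12, 0, 11, 0, 1, 0, 11, 19, 10, 12, 13, 0, 12, 11, 0, 12, 13, 10, 12, 0, 2, 11, 11, 12, 11, 10, 11, 11, 19],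
    [20, 13, 20, 10, 12, 13, 1, 10, 11, 12, 13, 1, 10, 11, 12, 11, 0, 11, 11, 0, 11, 19, 3, 19, 0, 1, 10, 1, 1, 10, 1, 1, 12, 0, 2, 1, 2, 11, 3, 2, 11, 11, 3, 2, 1, 2],
    [19, 1, 0, 11, 10, 11, 11, 10, 11, 2, 1, 1, 2, 1, 3, 2, 11, 11, 3, 2, 1, 2, 19, 0, 11, 11, 10, 2, 1, 12, 1, 10, 12, 12, 3, 2, 0, 2, 10, 2, 11, 13, 20, 12, 11, 12, 13, 1, 1, 12, 13, 11, 12, 11, 11, 12, 1, 0, 1, 1, 0, 1, 10, 11, 20, 13, 0, 2, 1, 2, 10, 12, 13, 0, 11, 10, 2, 10, 11, 11, 10, 1, 10],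
    [19, 1, 3, 19, 1, 1, 10, 11, 10, 1, 1, 12, 0, 2, 10, 12, 3, 12, 1, 1, 10, 2, 1, 20, 13, 11, 20, 12, 10, 2, 1, 12, 13, 2, 10, 2, 0, 2, 11, 10, 11, 10, 1],
    [19, 19, 10, 10],
    [20, 5, 19, 10, 11, 2, 10, 1, 2, 11, 0, 1, 0],
    [20, 6, 19, 11, 12, 11, 0, 12, 10, 1, 1],
    [20, 7, 19, 10, 11, 10, 12, 0, 1, 0],
    [20, 8, 19, 11, 10, 1, 12, 11, 0, 1],
    [20, 9, 19, 2, 1, 1, 12, 10, 11, 12, 1, 0, 11, 11],
    [20, 0, 19, 0, 0, 0],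
    [20, 1, 0, 11, 19, 0, 0, 1, 0, 11],
    [20, 1, 1, 0, 11, 11, 19, 0, 1, 1, 10, 11, 11, 10]]

theorem upper : UpperMult Ly (Multiplicative (ZMod 1)) := upper_of_section fun Γ _ σ hs hσ => by
  obtain ⟨A, ht, hb, hc⟩ := exists_act
  obtain ⟨φ, z, h1, h2⟩ := br
  have h : CtxH LyFA.P A (PG.gen 19 LyH.R) :=
    ctxH_of (R := LyH.R) ht hb (fun _ => PG.rel) (by decide +kernel)
  obtain ⟨ψ, hψ⟩ := exists_lift_perfect perfect_H upper_H φ hs hσ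
  obtain ⟨y, rfl, hy⟩ := exists_norm hs hσ hψ
    (consB_spec (w := [11, 11, 0, 1, 1, 19, 11, 11, 0, 1, 1, 19, 11, 11, 0, 1, 1, 19, 0, 0]) (h.xiv φ z) h2 (by decide +kernel))
    (consB_spec (w := [0, 0, 20, 20]) (h.xiv φ z) h2 (by decide +kernel)) (by decide +kernel)
  have h3 := labels h hσ hψ (L := L) (cons_all (h.xiv φ _) h2 (by decide +kernel)) hy
    (by decide +kernel) fun c hc => LyFA.rel h hc
  exact section_of h isPres hψ h1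
    (forall_app (rel_XX (R := LyH.R) (by decide +kernel) (fun _ => PG.rel) ψ y) h3)
    (by decide +kernel)

end Cfsg.Agent.L0.LyG
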