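import Cfsg.Agent.L0.Dce
import Cfsg.Agent.L0.Ly.Act

/-! Generated: double coset enumeration. -/

set_option autoImplicit false
set_option maxRecDepth 100000

namespace Cfsg.Agent.L0.LyFB

open Dce

noncomputable def F0 : GT Fa := .node (.node (.node (.node (.node (.leaf ⟨nat_lit 1, nat_lit 0, nat_lit 1, nat_lit 0, nat_lit 0, nat_lit 0, [], [], []⟩) (.leaf ⟨nat_lit 0, nat_lit 1, nat_lit 1, nat_lit 0, nat_lit 0xc58910, nat_lit 0x62e0b9ada2, [], [], []⟩)) (.node (.leaf ⟨nat_lit 0, nat_lit 1, nat_lit 1, nat_lit 0, nat_lit 0x11082c, nat_lit 0x25b18b, [], [], []⟩) (.leaf ⟨nat_lit 1, nat_lit 4, nat_lit 3, nat_lit 0x1170a2d915d2, nat_lit 0x2d6c6921052489, nat_lit 0x20b29e2c704e4, [], [], []⟩))) (.node (.node (.leaf ⟨nat_lit 0, nat_lit 1, nat_lit 1, nat_lit 0, nat_lit 0x425882c, nat_lit 0x4b6058c, [], [], []⟩) (.leaf ⟨nat_lit 0, nat_lit 1, nat_lit 1, nat_lit 0, nat_lit 0x31925c842, nat_lit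 0xb6312148841, [], [], []⟩)) (.leaf ⟨nat_lit 0, nat_lit 1, nat_lit 1, nat_lit 0, nat_lit 8291, nat_lit 0x82103, [], [], []⟩))) (.node (.node (.node (.leaf ⟨nat_lit 2, nat_lit 0, nat_lit 0, nat_lit 0x2694125122565, nat_lit 0, nat_lit 0, [], [], [nat_lit 0x16c604a209041, nat_lit 0x18121183424, nat_lit 0xb1956b42483]⟩) (.leaf ⟨nat_lit 0, nat_lit 1, nat_lit 1, nat_lit 0, nat_lit 0x318808848, nat_lit 0x55aca193441, [], [], []⟩)) (.leaf ⟨nat_lit 0, nat_lit 1, nat_lit 1, nat_lit 0, nat_lit 589, nat_lit 0xd43510, [], [], []⟩)) (.node (.node (.leaf ⟨nat_lit 0, nat_lit 1, nat_lit 1, nat_lit 0, nat_lit 0x18c58822, nat_lit 0x18b60442, [], [], []⟩) (.leaf ⟨nat_lit 2, nat_lit 0, nat_lit 0, nat_lit 0x16858cb120601, nat_lit 0, nat_lit 0, [], [], [nat_lit 4, nat_lit 0xd688a874622, nat_lit 14699]⟩)) (.leaf ⟨nat_lit 0, nat_lit 1, nat_lit 1, nat_lit 0, nat_lit 0x3a127, nat_lit 0xc38912, [], [],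 []⟩)))) (.node (.node (.node (.node (.leaf ⟨nat_lit 2, nat_lit 0, nat_lit 0, nat_lit 12322, nat_lit 0, nat_lit 0, [], [], [nat_lit 0xc08821]⟩) (.leaf ⟨nat_lit 0, nat_lit 1, nat_lit 1, nat_lit 0, nat_lit 0x1062c48, nat_lit 0x5ae2c3a562, [], [], []⟩)) (.node (.leaf ⟨nat_lit 0, nat_lit 1, nat_lit 1, nat_lit 0, nat_lit 0x18c08a22, nat_lit 0xb4318b14441, [], [], []⟩) (.leaf ⟨nat_lit 1, nat_lit 4, nat_lit 4, nat_lit 0x20593929094e2, nat_lit 0x1642a4ee2cd88, nat_lit 0x1d23b9a920e04, [], [], []⟩))) (.node (.node (.leaf ⟨nat_lit 0, nat_lit 1, nat_lit 1, nat_lit 0, nat_lit 237, nat_lit 0x170904ed, [], [], []⟩) (.leaf ⟨nat_lit 0, nat_lit 1, nat_lit 1, nat_lit 0, nat_lit 0x80e52, nat_lit 0x6b531, [], [], []⟩)) (.leaf ⟨nat_lit 0, nat_lit 1, nat_lit 1, nat_lit 0, nat_lit 105, nat_lit 0x111c467, [], [], []⟩))) (.node (.node (.node (.leaf ⟨nat_lit 2, nat_lit 0, nat_lit 0, nat_lit 0xe749732a484,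 nat_lit 0, nat_lit 0, [], [], [nat_lit 0x7344b69201, nat_lit 0x18b82d6539462]⟩) (.leaf ⟨nat_lit 0, nat_lit 1, nat_lit 1, nat_lit 0, nat_lit 0x4a107, nat_lit 0x738d29, [], [], []⟩)) (.leaf ⟨nat_lit 0, nat_lit 1, nat_lit 1, nat_lit 0, nat_lit 66956, nat_lit 0x1ce1096c, [], [], []⟩)) (.node (.node (.leaf ⟨nat_lit 0, nat_lit 1, nat_lit 1, nat_lit 0, nat_lit 0x18c58848, nat_lit 0x105ad8c8ac42, [], [], []⟩) (.leaf ⟨nat_lit 1, nat_lit 3, nat_lit 2, nat_lit 0xc4116514122, nat_lit 0xa2a89328965, nat_lit 0xb389623942c, [], [], []⟩)) (.leaf ⟨nat_lit 0, nat_lit 1, nat_lit 1, nat_lit 0, nat_lit 8455, nat_lit 0x90ca2b, [], [], []⟩))))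

noncomputable def F1 : GT Fa := .node (.node (.node (.node (.node (.leaf ⟨nat_lit 2, nat_lit 0, nat_lit 0, nat_lit 6, nat_lit 0, nat_lit 0, [], [], [nat_lit 5733]⟩) (.leaf ⟨nat_lit 0, nat_lit 1, nat_lit 1, nat_lit 0, nat_lit 13549, nat_lit 0x80e08, [], [], []⟩)) (.node (.leaf ⟨nat_lit 0, nat_lit 1, nat_lit 1, nat_lit 0, nat_lit 593, nat_lit 0x288b1, [], [], []⟩) (.leaf ⟨nat_lit 1, nat_lit 2, nat_lit 4, nat_lit 0x1b32cc856b481, nat_lit 0x14e5b5cd39047, nat_lit 0x16e6cdc920c32, [], [], []⟩))) (.node (.node (.leaf ⟨nat_lit 0, nat_lit 1, nat_lit 1, nat_lit 0, nat_lit 525, nat_lit 0x74a507, [], [], []⟩) (.leaf ⟨nat_lit 0, nat_lit 1, nat_lit 1, nat_lit 0, nat_lit 1287, nat_lit 0x300a201, [], [], []⟩)) (.leaf ⟨nat_lit 0, nat_lit 1, nat_lit 1, nat_lit 0, nat_lit 0x1a063, nat_lit 0xc82451, [], [], []⟩))) (.node (.node (.node (.leaf ⟨nat_lit 2, nat_lit 0, nat_lit 0, nat_lit 0xd74a21095a1,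 nat_lit 0, nat_lit 0, [], [], [nat_lit 0x18121183424, nat_lit 0xb1956b42483, nat_lit 0x2e672ba4499c22]⟩) (.leaf ⟨nat_lit 0, nat_lit 1, nat_lit 1, nat_lit 0, nat_lit 0xc50448, nat_lit 0x64c3048821, [], [], []⟩)) (.leaf ⟨nat_lit 0, nat_lit 1, nat_lit 1, nat_lit 0, nat_lit 0xc80622, nat_lit 0x8b02280601, [], [], []⟩)) (.node (.node (.leaf ⟨nat_lit 0, nat_lit 1, nat_lit 1, nat_lit 0, nat_lit 0x302c60581, nat_lit 0x2c4110822, [], [], []⟩) (.leaf ⟨nat_lit 2, nat_lit 0, nat_lit 0, nat_lit 4129, nat_lit 0, nat_lit 0, [], [], [nat_lit 0xc420912b063, nat_lit 14699, nat_lit 0x59c88384b2]⟩)) (.leaf ⟨nat_lit 0, nat_lit 1, nat_lit 1, nat_lit 0, nat_lit 594, nat_lit 0xb6a141, [], [], []⟩)))) (.node (.node (.node (.node (.leaf ⟨nat_lit 0, nat_lit 0, nat_lit 0, nat_lit 0, nat_lit 0xb5b162, nat_lit 0xc08821, [], [], []⟩) (.leaf ⟨nat_lit 0, nat_lit 1, nat_lit 1, nat_lit 0, nat_lit 3632, nat_lit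 0xb90507, [], [], []⟩)) (.node (.leaf ⟨nat_lit 0, nat_lit 1, nat_lit 1, nat_lit 0, nat_lit 13571, nat_lit 0x84a53, [], [], []⟩) (.leaf ⟨nat_lit 1, nat_lit 4, nat_lit 3, nat_lit 0x956214087, nat_lit 0x5896c61ce4, nat_lit 0x8082862e42, [], [], []⟩))) (.node (.node (.leaf ⟨nat_lit 0, nat_lit 1, nat_lit 1, nat_lit 0, nat_lit 0x316c08822, nat_lit 0x2c4b10822, [], [], []⟩) (.leaf ⟨nat_lit 0, nat_lit 1, nat_lit 1, nat_lit 0, nat_lit 0x630f15c842, nat_lit 0x10604a109521, [], [], []⟩)) (.leaf ⟨nat_lit 0, nat_lit 1, nat_lit 1, nat_lit 0, nat_lit 0xc0a062, nat_lit 0x60c223b421, [], [], []⟩))) (.node (.node (.node (.leaf ⟨nat_lit 2, nat_lit 0, nat_lit 0, nat_lit 0x7344b6b8eb, nat_lit 0, nat_lit 0, [], [], [nat_lit 0x18b82d6539462, nat_lit 0xe749732a421]⟩) (.leaf ⟨nat_lit 0, nat_lit 1, nat_lit 1, nat_lit 0, nat_lit 0x82ce3, nat_lit 0x10b3ae0b, [], [], []⟩)) (.leaf ⟨nat_lit 0, nat_lit 1, nat_lit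 1, nat_lit 0, nat_lit 114, nat_lit 0xc82449, [], [], []⟩)) (.node (.node (.leaf ⟨nat_lit 0, nat_lit 1, nat_lit 1, nat_lit 0, nat_lit 547, nat_lit 51819, [], [], []⟩) (.leaf ⟨nat_lit 1, nat_lit 3, nat_lit 3, nat_lit 0x263095d224047, nat_lit 0x242588485c9c2, nat_lit 0x890a82160b, [], [], []⟩)) (.leaf ⟨nat_lit 0, nat_lit 1, nat_lit 1, nat_lit 0, nat_lit 0x318a5b442, nat_lit 0xb6418112841, [], [], []⟩))))

noncomputable def F2 : GT Fa := .node (.node (.node (.node (.node (.leaf ⟨nat_lit 0, nat_lit 0, nat_lit 0, nat_lit 0, nat_lit 5445, nat_lit 5733, [], [], []⟩) (.leaf ⟨nat_lit 0, nat_lit 1, nat_lit 1, nat_lit 0, nat_lit 8419, nat_lit 0x3c4e9, [], [], []⟩)) (.node (.leaf ⟨nat_lit 0, nat_lit 1, nat_lit 1, nat_lit 0, nat_lit 18001, nat_lit 0x8c467, [], [], []⟩) (.leaf ⟨nat_lit 1, nat_lit 4, nat_lit 4, nat_lit 0x22e3b9a839247, nat_lit 0xec58c8808a05, nat_lit 0x19221451708a4, [], [],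 []⟩))) (.node (.node (.leaf ⟨nat_lit 0, nat_lit 1, nat_lit 1, nat_lit 0, nat_lit 18947, nat_lit 0x18d07, [], [], []⟩) (.leaf ⟨nat_lit 0, nat_lit 1, nat_lit 1, nat_lit 0, nat_lit 0x5b18b10907, nat_lit 0x2ad6540450, [], [], []⟩)) (.leaf ⟨nat_lit 0, nat_lit 1, nat_lit 1, nat_lit 0, nat_lit 49, nat_lit 0x118641, [], [], []⟩))) (.node (.node (.node (.leaf ⟨nat_lit 2, nat_lit 0, nat_lit 0, nat_lit 0xb58c9014584, nat_lit 0, nat_lit 0, [], [], [nat_lit 0xb1956b42483, nat_lit 0x2e672ba4499c22, nat_lit 0x16c604a209041]⟩) (.leaf ⟨nat_lit 0, nat_lit 1, nat_lit 1, nat_lit 0, nat_lit 20009, nat_lit 0x17084941, [], [], []⟩)) (.leaf ⟨nat_lit 0, nat_lit 1, nat_lit 1, nat_lit 0, nat_lit 0x1620b181, nat_lit 0x2210581, [], [], []⟩)) (.node (.node (.leaf ⟨nat_lit 0, nat_lit 1, nat_lit 1, nat_lit 0, nat_lit 0x4110822, nat_lit 0x18b6316c, [], [], []⟩) (.leaf ⟨nat_lit 2, nat_lit 0, nat_lit 0, nat_lit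 0x31910568621, nat_lit 0, nat_lit 0, [], [], [nat_lit 14699, nat_lit 0x59c88384b2, nat_lit 4]⟩)) (.leaf ⟨nat_lit 0, nat_lit 1, nat_lit 1, nat_lit 0, nat_lit 0xc58831, nat_lit 0x2d8b10501, [], [], []⟩)))) (.node (.node (.node (.node (.leaf ⟨nat_lit 0, nat_lit 1, nat_lit 1, nat_lit 0, nat_lit 12322, nat_lit 0xc5b9c2, [], [], []⟩) (.leaf ⟨nat_lit 0, nat_lit 1, nat_lit 1, nat_lit 0, nat_lit 0x86312b18822, nat_lit 0x8316c48442, [], [], []⟩)) (.node (.leaf ⟨nat_lit 0, nat_lit 1, nat_lit 1, nat_lit 0, nat_lit 0x760447, nat_lit 0x302188522, [], [], []⟩) (.leaf ⟨nat_lit 1, nat_lit 2, nat_lit 4, nat_lit 0x5738a193028, nat_lit 0x100a4e583942, nat_lit 0x41d219205210a3, [], [], []⟩))) (.node (.node (.leaf ⟨nat_lit 0, nat_lit 1, nat_lit 1, nat_lit 0, nat_lit 0x5b16c08822, nat_lit 0x62d8b10441, [], [], []⟩) (.leaf ⟨nat_lit 0, nat_lit 1, nat_lit 1, nat_lit 0, nat_lit 0x1675c647, nat_lit 0x21348521,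 [], [], []⟩)) (.leaf ⟨nat_lit 0, nat_lit 1, nat_lit 1, nat_lit 0, nat_lit 0x4b10962, nat_lit 0x1816302c, [], [], []⟩))) (.node (.node (.node (.leaf ⟨nat_lit 0, nat_lit 1, nat_lit 1, nat_lit 0, nat_lit 103, nat_lit 0x1084a32, [], [], []⟩) (.leaf ⟨nat_lit 0, nat_lit 1, nat_lit 1, nat_lit 0, nat_lit 0xc80448, nat_lit 0x6402288601, [], [], []⟩)) (.leaf ⟨nat_lit 0, nat_lit 1, nat_lit 1, nat_lit 0, nat_lit 3186, nat_lit 0x1062451, [], [], []⟩)) (.node (.node (.leaf ⟨nat_lit 0, nat_lit 1, nat_lit 1, nat_lit 0, nat_lit 17955, nat_lit 0xd69ce8, [], [], []⟩) (.leaf ⟨nat_lit 1, nat_lit 3, nat_lit 2, nat_lit 0x14739584, nat_lit 0x2109384581221, nat_lit 0x17272cae6ada4, [], [], []⟩)) (.leaf ⟨nat_lit 0, nat_lit 1, nat_lit 1, nat_lit 0, nat_lit 17965, nat_lit 0x16d8860d, [], [], []⟩))))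

noncomputable def F3 : GT Fa := .node (.node (.node (.node (.node (.leaf ⟨nat_lit 0, nat_lit 1, nat_lit 1, nat_lit 0, nat_lit 3, nat_lit 5733, [], [], []⟩) (.leaf ⟨nat_lit 0, nat_lit 1, nat_lit 1, nat_lit 0, nat_lit 0x318b14450, nat_lit 0xb63025495a1, [], [], []⟩)) (.node (.leaf ⟨nat_lit 0, nat_lit 1, nat_lit 1, nat_lit 0, nat_lit 0x318110821, nat_lit 0xc60442, [], [], []⟩) (.leaf ⟨nat_lit 1, nat_lit 4, nat_lit 4, nat_lit 0x2e522c14e29221, nat_lit 0x1655b20a20644, nat_lit 0x24e290a881261, [], [], []⟩))) (.node (.node (.leaf ⟨nat_lit 0, nat_lit 1, nat_lit 1, nat_lit 0, nat_lit 0x8ca03, nat_lit 0xb6a030, [], [], []⟩) (.leaf ⟨nat_lit 0, nat_lit 1, nat_lit 1, nat_lit 0, nat_lit 0x22c08a23, nat_lit 0x31a10c422, [], [], []⟩)) (.leaf ⟨nat_lit 0, nat_lit 1, nat_lit 1, nat_lit 0, nat_lit 263, nat_lit 0x1720a072, [], [], []⟩))) (.node (.node (.node (.leaf ⟨nat_lit 2, nat_lit 0, nat_lit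 0, nat_lit 398, nat_lit 0, nat_lit 0, [], [], [nat_lit 0x2222160591201, nat_lit 130, nat_lit 0x2e4e89d6824102]⟩) (.leaf ⟨nat_lit 0, nat_lit 1, nat_lit 1, nat_lit 0, nat_lit 0x318b108e8, nat_lit 0xc82d2b62c42, [], [], []⟩)) (.leaf ⟨nat_lit 0, nat_lit 1, nat_lit 1, nat_lit 0, nat_lit 0x1625b18b, nat_lit 0x16212d81, [], [], []⟩)) (.node (.node (.leaf ⟨nat_lit 0, nat_lit 1, nat_lit 1, nat_lit 0, nat_lit 365, nat_lit 0x1ce2cca1, [], [], []⟩) (.leaf ⟨nat_lit 2, nat_lit 0, nat_lit 0, nat_lit 14, nat_lit 0, nat_lit 0, [], [], [nat_lit 0x59c88384b2, nat_lit 4, nat_lit 0xc420912b063]⟩)) (.leaf ⟨nat_lit 0, nat_lit 1, nat_lit 1, nat_lit 0, nat_lit 583, nat_lit 0x190d4b, [], [], []⟩)))) (.node (.node (.node (.node (.leaf ⟨nat_lit 2, nat_lit 0, nat_lit 0, nat_lit 0xc60442, nat_lit 0, nat_lit 0, [], [], [nat_lit 0x2d8c58841]⟩) (.leaf ⟨nat_lit 0, nat_lit 1, nat_lit 1, nat_lit 0, nat_lit 1315,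 nat_lit 0x4021441a1, [], [], []⟩)) (.node (.leaf ⟨nat_lit 0, nat_lit 1, nat_lit 1, nat_lit 0, nat_lit 0x458c5a442, nat_lit 0xc0942809461, [], [], []⟩) (.leaf ⟨nat_lit 1, nat_lit 3, nat_lit 4, nat_lit 0x4904ad391a8, nat_lit 0x327210e11c65, nat_lit 0x1cd715a170ca4, [], [], []⟩))) (.node (.node (.leaf ⟨nat_lit 0, nat_lit 1, nat_lit 1, nat_lit 0, nat_lit 113, nat_lit 51531, [], [], []⟩) (.leaf ⟨nat_lit 0, nat_lit 1, nat_lit 1, nat_lit 0, nat_lit 0x4c4e3, nat_lit 18856, [], [], []⟩)) (.leaf ⟨nat_lit 0, nat_lit 1, nat_lit 1, nat_lit 0, nat_lit 11491, nat_lit 0x16d8ad67, [], [], []⟩))) (.node (.node (.node (.leaf ⟨nat_lit 0, nat_lit 1, nat_lit 1, nat_lit 0, nat_lit 33, nat_lit 363, [], [], []⟩) (.leaf ⟨nat_lit 0, nat_lit 1, nat_lit 1, nat_lit 0, nat_lit 0x42463, nat_lit 17994, [], [], []⟩)) (.leaf ⟨nat_lit 0, nat_lit 1, nat_lit 1, nat_lit 0, nat_lit 0x84b12d81, nat_lit 0x2c4b62d8c,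 [], [], []⟩)) (.node (.node (.leaf ⟨nat_lit 0, nat_lit 1, nat_lit 1, nat_lit 0, nat_lit 265, nat_lit 0x41585, [], [], []⟩) (.leaf ⟨nat_lit 1, nat_lit 3, nat_lit 3, nat_lit 0x1321c425b181, nat_lit 0x9cdc582d07, nat_lit 0x41a54414e91221, [], [], []⟩)) (.leaf ⟨nat_lit 0, nat_lit 1, nat_lit 1, nat_lit 0, nat_lit 0xc58a32, nat_lit 0x5cd0b62562, [], [], []⟩))))

noncomputable def F4 : GT Fa := .node (.node (.node (.node (.node (.leaf ⟨nat_lit 2, nat_lit 0, nat_lit 0, nat_lit 7, nat_lit 0, nat_lit 0, [], [], [nat_lit 0x12a8ab]⟩) (.leaf ⟨nat_lit 0, nat_lit 1, nat_lit 1, nat_lit 0, nat_lit 16937, nat_lit 0xc80909, [], [], []⟩)) (.node (.leaf ⟨nat_lit 0, nat_lit 1, nat_lit 1, nat_lit 0, nat_lit 3331, nat_lit 0x1a208, [], [], []⟩) (.leaf ⟨nat_lit 1, nat_lit 4, nat_lit 4, nat_lit 0x1dad28427, nat_lit 0x20970a2414187, nat_lit 0x1667604a484481, [], [], []⟩))) (.node (.node (.leaf ⟨nat_lit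 0, nat_lit 1, nat_lit 1, nat_lit 0, nat_lit 0x210581, nat_lit 0xb12d8c, [], [], []⟩) (.leaf ⟨nat_lit 0, nat_lit 1, nat_lit 1, nat_lit 0, nat_lit 0x18182122, nat_lit 0x52163422, [], [], []⟩)) (.leaf ⟨nat_lit 0, nat_lit 1, nat_lit 1, nat_lit 0, nat_lit 0xc08907, nat_lit 0x303108451, [], [], []⟩))) (.node (.node (.node (.leaf ⟨nat_lit 2, nat_lit 0, nat_lit 0, nat_lit 0x2dd0121cc4b563, nat_lit 0, nat_lit 0, [], [], [nat_lit 130, nat_lit 0x2e4e89d6824102, nat_lit 0x6396b]⟩) (.leaf ⟨nat_lit 0, nat_lit 1, nat_lit 1, nat_lit 0, nat_lit 34083, nat_lit 0x20b5c4e3, [], [], []⟩)) (.leaf ⟨nat_lit 0, nat_lit 1, nat_lit 1, nat_lit 0, nat_lit 0x82c60421, nat_lit 0x2d6b1096c, [], [], []⟩)) (.node (.node (.leaf ⟨nat_lit 0, nat_lit 1, nat_lit 1, nat_lit 0, nat_lit 0x96212c41, nat_lit 0x2d8b6316c, [], [], []⟩) (.leaf ⟨nat_lit 1, nat_lit 2, nat_lit 2, nat_lit 0x5b0eb49dc2, nat_lit 0xad420882ae45,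 nat_lit 0x1ce99ca3744a1, [], [], []⟩)) (.leaf ⟨nat_lit 0, nat_lit 1, nat_lit 1, nat_lit 0, nat_lit 0x458c58902, nat_lit 0x5b18110861, [], [], []⟩)))) (.node (.node (.node (.node (.leaf ⟨nat_lit 0, nat_lit 0, nat_lit 0, nat_lit 0, nat_lit 0x2d6c62c42, nat_lit 0x318110821, [], [], []⟩) (.leaf ⟨nat_lit 0, nat_lit 1, nat_lit 1, nat_lit 0, nat_lit 9319, nat_lit 0xd82528, [], [], []⟩)) (.node (.leaf ⟨nat_lit 0, nat_lit 1, nat_lit 1, nat_lit 0, nat_lit 0xc088e3, nat_lit 0x604ed14021, [], [], []⟩) (.leaf ⟨nat_lit 1, nat_lit 4, nat_lit 4, nat_lit 0xb2b58b59429, nat_lit 0x2c5071d71090e8, nat_lit 0x20e5a204810eb, [], [], []⟩))) (.node (.node (.leaf ⟨nat_lit 0, nat_lit 1, nat_lit 1, nat_lit 0, nat_lit 295, nat_lit 0x84c69, [], [], []⟩) (.leaf ⟨nat_lit 0, nat_lit 1, nat_lit 1, nat_lit 0, nat_lit 0x6316244202, nat_lit 0x24d0b20c58841, [], [], []⟩)) (.leaf ⟨nat_lit 0, nat_lit 1, nat_lit 1,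 nat_lit 0, nat_lit 0xec484e2, nat_lit 0x6053114021, [], [], []⟩))) (.node (.node (.node (.leaf ⟨nat_lit 0, nat_lit 1, nat_lit 1, nat_lit 0, nat_lit 0x18c08841, nat_lit 0x16c62c42, [], [], []⟩) (.leaf ⟨nat_lit 0, nat_lit 1, nat_lit 1, nat_lit 0, nat_lit 0x1ac0a062, nat_lit 0x316e71e22, [], [], []⟩)) (.leaf ⟨nat_lit 0, nat_lit 1, nat_lit 1, nat_lit 0, nat_lit 0x5884b12d81, nat_lit 0x5882c0b181, [], [], []⟩)) (.node (.node (.leaf ⟨nat_lit 0, nat_lit 1, nat_lit 1, nat_lit 0, nat_lit 0xb60441, nat_lit 0x160441, [], [], []⟩) (.leaf ⟨nat_lit 1, nat_lit 3, nat_lit 3, nat_lit 0x5888e13b863, nat_lit 0x24e9156c43089, nat_lit 0xac695c76050c, [], [], []⟩)) (.leaf ⟨nat_lit 0, nat_lit 1, nat_lit 1, nat_lit 0, nat_lit 0x18b144e3, nat_lit 0x5a0eb62c62, [], [], []⟩))))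

noncomputable def F5 : GT Fa := .node (.node (.node (.node (.node (.leaf ⟨nat_lit 0, nat_lit 0, nat_lit 0, nat_lit 0, nat_lit 0x12ccab, nat_lit 0x12a8ab, [], [], []⟩) (.leaf ⟨nat_lit 0, nat_lit 1, nat_lit 1, nat_lit 0, nat_lit 0x62562, nat_lit 0x5882218442, [], [], []⟩)) (.node (.leaf ⟨nat_lit 0, nat_lit 1, nat_lit 1, nat_lit 0, nat_lit 0xb1082c, nat_lit 0x25b181, [], [], []⟩) (.leaf ⟨nat_lit 1, nat_lit 3, nat_lit 4, nat_lit 0x1708926572422, nat_lit 0x1c73b0ae2b865, nat_lit 0xad539732b5cd, [], [], []⟩))) (.node (.node (.leaf ⟨nat_lit 0, nat_lit 1, nat_lit 1, nat_lit 0, nat_lit 0x316c60581, nat_lit 0x316c58822, [], [], []⟩) (.leaf ⟨nat_lit 0, nat_lit 1, nat_lit 1, nat_lit 0, nat_lit 0x24c4ad22, nat_lit 0x8ae4b62e22, [], [], []⟩)) (.leaf ⟨nat_lit 0, nat_lit 1, nat_lit 1, nat_lit 0, nat_lit 0x24c08907, nat_lit 0x6482240601, [], [], []⟩))) (.node (.node (.node (.leaf ⟨nat_lit 2,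 nat_lit 0, nat_lit 0, nat_lit 0x20821, nat_lit 0, nat_lit 0, [], [], [nat_lit 0x2d2e4417121e22, nat_lit 0x6396b, nat_lit 0x168224ab6b8a3]⟩) (.leaf ⟨nat_lit 0, nat_lit 1, nat_lit 1, nat_lit 0, nat_lit 0xc59e22, nat_lit 0x5ad8b4b5a2, [], [], []⟩)) (.leaf ⟨nat_lit 0, nat_lit 1, nat_lit 1, nat_lit 0, nat_lit 0x62c48, nat_lit 0x2d6c5c8e2, [], [], []⟩)) (.node (.node (.leaf ⟨nat_lit 0, nat_lit 1, nat_lit 1, nat_lit 0, nat_lit 0x16c60442, nat_lit 0x18c58841, [], [], []⟩) (.leaf ⟨nat_lit 1, nat_lit 2, nat_lit 2, nat_lit 0x1709123069145, nat_lit 0x72a4842a204, nat_lit 0x100a0a72c0ab, [], [], []⟩)) (.leaf ⟨nat_lit 0, nat_lit 1, nat_lit 1, nat_lit 0, nat_lit 17635, nat_lit 17939, [], [], []⟩)))) (.node (.node (.node (.node (.leaf ⟨nat_lit 0, nat_lit 1, nat_lit 1, nat_lit 0, nat_lit 0xc60442, nat_lit 0x2d8c58841, [], [], []⟩) (.leaf ⟨nat_lit 0, nat_lit 1, nat_lit 1, nat_lit 0, nat_lit 0xc08a23,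 nat_lit 0x30224b421, [], [], []⟩)) (.node (.leaf ⟨nat_lit 0, nat_lit 1, nat_lit 1, nat_lit 0, nat_lit 13667, nat_lit 0x2d6b91c72, [], [], []⟩) (.leaf ⟨nat_lit 1, nat_lit 4, nat_lit 4, nat_lit 0x188dd0895ae, nat_lit 0x22b9488324825, nat_lit 0x18c7424e510ab, [], [], []⟩))) (.node (.node (.leaf ⟨nat_lit 0, nat_lit 1, nat_lit 1, nat_lit 0, nat_lit 0x1625b181, nat_lit 0x16212d8b, [], [], []⟩) (.leaf ⟨nat_lit 0, nat_lit 1, nat_lit 1, nat_lit 0, nat_lit 0x9b507, nat_lit 0xb94428, [], [], []⟩)) (.leaf ⟨nat_lit 0, nat_lit 1, nat_lit 1, nat_lit 0, nat_lit 9443, nat_lit 0x2b0b0, [], [], []⟩))) (.node (.node (.node (.leaf ⟨nat_lit 0, nat_lit 1, nat_lit 1, nat_lit 0, nat_lit 579, nat_lit 0xc90870, [], [], []⟩) (.leaf ⟨nat_lit 0, nat_lit 1, nat_lit 1, nat_lit 0, nat_lit 0x24c4b562, nat_lit 0x5ad913ae62, [], [], []⟩)) (.leaf ⟨nat_lit 0, nat_lit 1, nat_lit 1, nat_lit 0, nat_lit 0x18110421, nat_lit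 0x16b5b162, [], [], []⟩)) (.node (.node (.leaf ⟨nat_lit 0, nat_lit 1, nat_lit 1, nat_lit 0, nat_lit 7395, nat_lit 0x31a0e8, [], [], []⟩) (.leaf ⟨nat_lit 1, nat_lit 3, nat_lit 2, nat_lit 0x2112860c839a7, nat_lit 0xe80a1c591c88, nat_lit 0x2056392e2ce42, [], [], []⟩)) (.leaf ⟨nat_lit 0, nat_lit 1, nat_lit 1, nat_lit 0, nat_lit 0x22d61c22, nat_lit 0x218110501, [], [], []⟩))))

noncomputable def F6 : GT Fa := .node (.node (.node (.node (.node (.leaf ⟨nat_lit 0, nat_lit 1, nat_lit 1, nat_lit 0, nat_lit 7, nat_lit 0x12a8ab, [], [], []⟩) (.leaf ⟨nat_lit 0, nat_lit 1, nat_lit 1, nat_lit 0, nat_lit 0x1062562, nat_lit 0x2d6c58870, [], [], []⟩)) (.node (.leaf ⟨nat_lit 0, nat_lit 1, nat_lit 1, nat_lit 0, nat_lit 0x84110581, nat_lit 0x2c416058c, [], [], []⟩) (.leaf ⟨nat_lit 1, nat_lit 4, nat_lit 4, nat_lit 0x1ce6966459d84, nat_lit 0x253248a820c64, nat_lit 0x16325b86599c21, [], [], []⟩))) (.node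 (.node (.leaf ⟨nat_lit 0, nat_lit 1, nat_lit 1, nat_lit 0, nat_lit 433, nat_lit 0x1138d23, [], [], []⟩) (.leaf ⟨nat_lit 0, nat_lit 1, nat_lit 1, nat_lit 0, nat_lit 0x62462, nat_lit 0x1080d23, [], [], []⟩)) (.leaf ⟨nat_lit 0, nat_lit 1, nat_lit 1, nat_lit 0, nat_lit 0x60451, nat_lit 0x303208c22, [], [], []⟩))) (.node (.node (.node (.leaf ⟨nat_lit 2, nat_lit 0, nat_lit 0, nat_lit 0x1c74352e42127, nat_lit 0, nat_lit 0, [], [], [nat_lit 0x6396b, nat_lit 0x168224ab6b8a3, nat_lit 130]⟩) (.leaf ⟨nat_lit 0, nat_lit 1, nat_lit 1, nat_lit 0, nat_lit 0x23062c48, nat_lit 0x2d7162c49, [], [], []⟩)) (.leaf ⟨nat_lit 0, nat_lit 1, nat_lit 1, nat_lit 0, nat_lit 0x62c4b, nat_lit 45090, [], [], []⟩)) (.node (.node (.leaf ⟨nat_lit 0, nat_lit 1, nat_lit 1, nat_lit 0, nat_lit 0x18c58902, nat_lit 0xc62c4b92da2, [], [], []⟩) (.leaf ⟨nat_lit 1, nat_lit 1, nat_lit 3, nat_lit 164, nat_lit 0, nat_lit 0,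 [], [], []⟩)) (.leaf ⟨nat_lit 0, nat_lit 1, nat_lit 1, nat_lit 0, nat_lit 0x1262d02, nat_lit 0x5ad8b90c62, [], [], []⟩)))) (.node (.node (.node (.node (.leaf ⟨nat_lit 2, nat_lit 0, nat_lit 0, nat_lit 0x84163021, nat_lit 0, nat_lit 0, [], [], [nat_lit 0x84163021, nat_lit 0x21058c]⟩) (.leaf ⟨nat_lit 0, nat_lit 1, nat_lit 1, nat_lit 0, nat_lit 8776, nat_lit 0x1720cd28, [], [], []⟩)) (.node (.leaf ⟨nat_lit 0, nat_lit 1, nat_lit 1, nat_lit 0, nat_lit 0x6316288963, nat_lit 0x100b20c90442, [], [], []⟩) (.leaf ⟨nat_lit 1, nat_lit 4, nat_lit 4, nat_lit 0x238b8b00a425, nat_lit 0x16509c832cce5, nat_lit 0x322c53a04515a1, [], [], []⟩))) (.node (.node (.leaf ⟨nat_lit 0, nat_lit 1, nat_lit 1, nat_lit 0, nat_lit 0x420b084, nat_lit 77196, [], [], []⟩) (.leaf ⟨nat_lit 0, nat_lit 1, nat_lit 1, nat_lit 0, nat_lit 0x9360d, nat_lit 0xc3890a, [], [], []⟩)) (.leaf ⟨nat_lit 0, nat_lit 1, nat_lit 1, nat_lit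 0, nat_lit 7433, nat_lit 0x84243, [], [], []⟩))) (.node (.node (.node (.leaf ⟨nat_lit 0, nat_lit 1, nat_lit 1, nat_lit 0, nat_lit 45090, nat_lit 0x62c4b, [], [], []⟩) (.leaf ⟨nat_lit 0, nat_lit 1, nat_lit 1, nat_lit 0, nat_lit 0x43547, nat_lit 0xb1a101, [], [], []⟩)) (.leaf ⟨nat_lit 0, nat_lit 1, nat_lit 1, nat_lit 0, nat_lit 0x62c51, nat_lit 0x2d6c5c122, [], [], []⟩)) (.node (.node (.leaf ⟨nat_lit 0, nat_lit 1, nat_lit 1, nat_lit 0, nat_lit 0x20b181, nat_lit 0xb1096c, [], [], []⟩) (.leaf ⟨nat_lit 1, nat_lit 3, nat_lit 3, nat_lit 0x1019069291a8, nat_lit 0x1658ba0d511a2, nat_lit 0x18371ced21508, [], [], []⟩)) (.leaf ⟨nat_lit 0, nat_lit 1, nat_lit 1, nat_lit 0, nat_lit 18952, nat_lit 9641, [], [], []⟩))))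

noncomputable def F7 : GT Fa := .node (.node (.node (.node (.node (.leaf ⟨nat_lit 2, nat_lit 0, nat_lit 0, nat_lit 8, nat_lit 0, nat_lit 0, [], [], [nat_lit 19024]⟩) (.leaf ⟨nat_lit 0, nat_lit 1, nat_lit 1, nat_lit 0, nat_lit 3666, nat_lit 0x16748651, [], [], []⟩)) (.node (.leaf ⟨nat_lit 0, nat_lit 1, nat_lit 1, nat_lit 0, nat_lit 562, nat_lit 0x11288b3, [], [], []⟩) (.leaf ⟨nat_lit 1, nat_lit 4, nat_lit 4, nat_lit 0x1b8b10a86e, nat_lit 0xa438901994e4, nat_lit 0x90c46e2a902, [], [], []⟩))) (.node (.node (.leaf ⟨nat_lit 0, nat_lit 1, nat_lit 1, nat_lit 0, nat_lit 16433, nat_lit 0x2dce94603, [], [], []⟩) (.leaf ⟨nat_lit 0, nat_lit 1, nat_lit 1, nat_lit 0, nat_lit 0x38630, nat_lit 0x1ce8c169, [], [], []⟩)) (.leaf ⟨nat_lit 0, nat_lit 1, nat_lit 1, nat_lit 0, nat_lit 0x4163084, nat_lit 67948, [], [], []⟩))) (.node (.node (.node (.leaf ⟨nat_lit 0, nat_lit 1, nat_lit 1, nat_lit 0,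 nat_lit 515, nat_lit 0x16748603, [], [], []⟩) (.leaf ⟨nat_lit 0, nat_lit 1, nat_lit 1, nat_lit 0, nat_lit 17991, nat_lit 0x106b510, [], [], []⟩)) (.leaf ⟨nat_lit 0, nat_lit 1, nat_lit 1, nat_lit 0, nat_lit 423, nat_lit 0x1690a629, [], [], []⟩)) (.node (.node (.leaf ⟨nat_lit 0, nat_lit 1, nat_lit 1, nat_lit 0, nat_lit 0x4b6058c, nat_lit 0x425882c, [], [], []⟩) (.leaf ⟨nat_lit 0, nat_lit 3, nat_lit 3, nat_lit 0, nat_lit 0x2ce212d81, nat_lit 0x18d08c22, [], [], []⟩)) (.leaf ⟨nat_lit 0, nat_lit 1, nat_lit 1, nat_lit 0, nat_lit 1539, nat_lit 0x302148a01, [], [], []⟩)))) (.node (.node (.node (.node (.leaf ⟨nat_lit 2, nat_lit 0, nat_lit 0, nat_lit 0x212d8c, nat_lit 0, nat_lit 0, [], [], [nat_lit 0x84b6316b, nat_lit 0x84163021]⟩) (.leaf ⟨nat_lit 0, nat_lit 1, nat_lit 1, nat_lit 0, nat_lit 8713, nat_lit 0x1119ce3, [], [], []⟩)) (.node (.leaf ⟨nat_lit 0, nat_lit 1, nat_lit 1, nat_lit 0,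 nat_lit 0x5b162, nat_lit 0x60441, [], [], []⟩) (.leaf ⟨nat_lit 1, nat_lit 4, nat_lit 4, nat_lit 0x10e9c8eb, nat_lit 0x2523ad8483125, nat_lit 0x80621194ee, [], [], []⟩))) (.node (.node (.leaf ⟨nat_lit 0, nat_lit 1, nat_lit 1, nat_lit 0, nat_lit 0x6058c0b021, nat_lit 0x5ac4b10962, [], [], []⟩) (.leaf ⟨nat_lit 1, nat_lit 1, nat_lit 2, nat_lit 4, nat_lit 0, nat_lit 0, [], [], []⟩)) (.leaf ⟨nat_lit 0, nat_lit 1, nat_lit 1, nat_lit 0, nat_lit 0x25b181, nat_lit 0xb1082c, [], [], []⟩))) (.node (.node (.node (.leaf ⟨nat_lit 0, nat_lit 1, nat_lit 1, nat_lit 0, nat_lit 0x16210581, nat_lit 0x220b181, [], [], []⟩) (.leaf ⟨nat_lit 0, nat_lit 1, nat_lit 1, nat_lit 0, nat_lit 0x3181121a2, nat_lit 0xc6066212021, [], [], []⟩)) (.leaf ⟨nat_lit 0, nat_lit 1, nat_lit 1, nat_lit 0, nat_lit 432, nat_lit 0x73a509, [], [], []⟩)) (.node (.node (.leaf ⟨nat_lit 0, nat_lit 1, nat_lit 1, nat_lit 0, nat_lit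 0x62d02, nat_lit 0x31625c96d, [], [], []⟩) (.leaf ⟨nat_lit 1, nat_lit 1, nat_lit 4, nat_lit 130, nat_lit 0, nat_lit 0, [], [], []⟩)) (.leaf ⟨nat_lit 0, nat_lit 1, nat_lit 1, nat_lit 0, nat_lit 0x41ce3, nat_lit 0x2b265, [], [], []⟩))))

noncomputable def F8 : GT Fa := .node (.node (.node (.node (.node (.leaf ⟨nat_lit 0, nat_lit 0, nat_lit 0, nat_lit 0, nat_lit 7465, nat_lit 19024, [], [], []⟩) (.leaf ⟨nat_lit 0, nat_lit 1, nat_lit 1, nat_lit 0, nat_lit 0xc08a0d, nat_lit 0x606023a421, [], [], []⟩)) (.node (.leaf ⟨nat_lit 0, nat_lit 1, nat_lit 1, nat_lit 0, nat_lit 0xc08a32, nat_lit 0x634219a422, [], [], []⟩) (.leaf ⟨nat_lit 1, nat_lit 4, nat_lit 2, nat_lit 0x1671154121664, nat_lit 0x10611632a1c8, nat_lit 0xc28e4221488, [], [], []⟩))) (.node (.node (.leaf ⟨nat_lit 0, nat_lit 1, nat_lit 1, nat_lit 0, nat_lit 0x94031, nat_lit 0x3040c21, [], [], []⟩) (.leaf ⟨nat_lit 0, nat_lit 1, nat_lit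 1, nat_lit 0, nat_lit 19719, nat_lit 0x17208d12, [], [], []⟩)) (.leaf ⟨nat_lit 0, nat_lit 1, nat_lit 1, nat_lit 0, nat_lit 9315, nat_lit 9767, [], [], []⟩))) (.node (.node (.node (.leaf ⟨nat_lit 0, nat_lit 1, nat_lit 1, nat_lit 0, nat_lit 363, nat_lit 33, [], [], []⟩) (.leaf ⟨nat_lit 0, nat_lit 1, nat_lit 1, nat_lit 0, nat_lit 0xc0a051, nat_lit 0x303112421, [], [], []⟩)) (.leaf ⟨nat_lit 0, nat_lit 1, nat_lit 1, nat_lit 0, nat_lit 0xd62e22, nat_lit 0x62c685ae02, [], [], []⟩)) (.node (.node (.leaf ⟨nat_lit 0, nat_lit 1, nat_lit 1, nat_lit 0, nat_lit 0x2c4b6058c, nat_lit 0x96c0b181, [], [], []⟩) (.leaf ⟨nat_lit 0, nat_lit 3, nat_lit 3, nat_lit 0, nat_lit 0x6ad2b, nat_lit 0x12588306058c, [], [], []⟩)) (.leaf ⟨nat_lit 0, nat_lit 1, nat_lit 1, nat_lit 0, nat_lit 0x5884b10581, nat_lit 0x5896c0b181, [], [], []⟩)))) (.node (.node (.node (.node (.leaf ⟨nat_lit 2, nat_lit 0, nat_lit 0,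 nat_lit 0x5ad2582d4b, nat_lit 0, nat_lit 0, [], [], [nat_lit 0xd2a57374482, nat_lit 0x7344b6adcd]⟩) (.leaf ⟨nat_lit 0, nat_lit 1, nat_lit 1, nat_lit 0, nat_lit 0x6218a08a02, nat_lit 0x32ad6538441, [], [], []⟩)) (.leaf ⟨nat_lit 0, nat_lit 1, nat_lit 1, nat_lit 0, nat_lit 0xb12d8c, nat_lit 0x210581, [], [], []⟩)) (.node (.node (.leaf ⟨nat_lit 0, nat_lit 1, nat_lit 1, nat_lit 0, nat_lit 0x18b6316c, nat_lit 0x4110822, [], [], []⟩) (.leaf ⟨nat_lit 0, nat_lit 2, nat_lit 2, nat_lit 0, nat_lit 0x1620b181, nat_lit 0x16212d8b, [], [], []⟩)) (.leaf ⟨nat_lit 0, nat_lit 1, nat_lit 1, nat_lit 0, nat_lit 0x862c51, nat_lit 0x639cd3c422, [], [], []⟩))) (.node (.node (.node (.leaf ⟨nat_lit 0, nat_lit 1, nat_lit 1, nat_lit 0, nat_lit 0x2210581, nat_lit 0x1620b181, [], [], []⟩) (.leaf ⟨nat_lit 0, nat_lit 1, nat_lit 1, nat_lit 0, nat_lit 1351, nat_lit 0x2110a421, [], [], []⟩)) (.leaf ⟨nat_lit 0,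 nat_lit 1, nat_lit 1, nat_lit 0, nat_lit 0x762c51, nat_lit 0x5ad0c84962, [], [], []⟩)) (.node (.node (.leaf ⟨nat_lit 0, nat_lit 1, nat_lit 1, nat_lit 0, nat_lit 327, nat_lit 0xc83450, [], [], []⟩) (.leaf ⟨nat_lit 0, nat_lit 4, nat_lit 4, nat_lit 0, nat_lit 33, nat_lit 33, [], [], []⟩)) (.leaf ⟨nat_lit 0, nat_lit 1, nat_lit 1, nat_lit 0, nat_lit 0x89c63, nat_lit 0x835a9, [], [], []⟩))))

noncomputable def F9 : GT Fa := .node (.node (.node (.node (.node (.leaf ⟨nat_lit 0, nat_lit 1, nat_lit 1, nat_lit 0, nat_lit 8, nat_lit 16978, [], [], []⟩) (.leaf ⟨nat_lit 0, nat_lit 1, nat_lit 1, nat_lit 0, nat_lit 0x860502, nat_lit 0x6050710621, [], [], []⟩)) (.node (.leaf ⟨nat_lit 0, nat_lit 1, nat_lit 1, nat_lit 0, nat_lit 0x28a420c65, nat_lit 0x15ad738b3, [], [], []⟩) (.leaf ⟨nat_lit 1, nat_lit 4, nat_lit 4, nat_lit 0x18c410aa21025, nat_lit 0x1a58383224644, nat_lit 0x204395ae81642, [], [],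 []⟩))) (.node (.node (.leaf ⟨nat_lit 0, nat_lit 1, nat_lit 1, nat_lit 0, nat_lit 0x212d8b, nat_lit 0x11058c, [], [], []⟩) (.leaf ⟨nat_lit 0, nat_lit 1, nat_lit 1, nat_lit 0, nat_lit 0x630296a042, nat_lit 0x55aca18b441, [], [], []⟩)) (.leaf ⟨nat_lit 0, nat_lit 1, nat_lit 1, nat_lit 0, nat_lit 0xc42e22, nat_lit 0x5c5708b162, [], [], []⟩))) (.node (.node (.node (.leaf ⟨nat_lit 0, nat_lit 1, nat_lit 1, nat_lit 0, nat_lit 269, nat_lit 52523, [], [], []⟩) (.leaf ⟨nat_lit 0, nat_lit 1, nat_lit 1, nat_lit 0, nat_lit 0x1b262d02, nat_lit 0x31624a16b, [], [], []⟩)) (.leaf ⟨nat_lit 0, nat_lit 1, nat_lit 1, nat_lit 0, nat_lit 0xed62e22, nat_lit 0x8310b42d62, [], [], []⟩)) (.node (.node (.leaf ⟨nat_lit 0, nat_lit 1, nat_lit 1, nat_lit 0, nat_lit 7267, nat_lit 0xd841b2, [], [], []⟩) (.leaf ⟨nat_lit 0, nat_lit 3, nat_lit 3, nat_lit 0, nat_lit 0x16212d81, nat_lit 0x142832, [], [], []⟩)) (.leaf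 ⟨nat_lit 0, nat_lit 1, nat_lit 1, nat_lit 0, nat_lit 8707, nat_lit 0x19456d, [], [], []⟩)))) (.node (.node (.node (.node (.leaf ⟨nat_lit 2, nat_lit 0, nat_lit 0, nat_lit 0x7344b6b8eb, nat_lit 0, nat_lit 0, [], [], [nat_lit 0xb5a4b39c084, nat_lit 0xd2a57374482]⟩) (.leaf ⟨nat_lit 0, nat_lit 1, nat_lit 1, nat_lit 0, nat_lit 0xc40451, nat_lit 0x6064208e01, [], [], []⟩)) (.leaf ⟨nat_lit 0, nat_lit 1, nat_lit 1, nat_lit 0, nat_lit 0x762e22, nat_lit 0x5ac6762ce2, [], [], []⟩)) (.node (.node (.leaf ⟨nat_lit 0, nat_lit 1, nat_lit 1, nat_lit 0, nat_lit 4225, nat_lit 11, [], [], []⟩) (.leaf ⟨nat_lit 0, nat_lit 2, nat_lit 2, nat_lit 0, nat_lit 0x420882c, nat_lit 0x416058c, [], [], []⟩)) (.leaf ⟨nat_lit 0, nat_lit 1, nat_lit 1, nat_lit 0, nat_lit 1261, nat_lit 0x302190823, [], [], []⟩))) (.node (.node (.node (.leaf ⟨nat_lit 0, nat_lit 1, nat_lit 1, nat_lit 0, nat_lit 0x425896c, nat_lit 0x416058c,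 [], [], []⟩) (.leaf ⟨nat_lit 0, nat_lit 1, nat_lit 1, nat_lit 0, nat_lit 34307, nat_lit 0x16b64847, [], [], []⟩)) (.leaf ⟨nat_lit 0, nat_lit 1, nat_lit 1, nat_lit 0, nat_lit 0x60448, nat_lit 0x303048422, [], [], []⟩)) (.node (.node (.leaf ⟨nat_lit 0, nat_lit 1, nat_lit 1, nat_lit 0, nat_lit 13639, nat_lit 0x17084827, [], [], []⟩) (.leaf ⟨nat_lit 0, nat_lit 4, nat_lit 4, nat_lit 0, nat_lit 0xc60442, nat_lit 0xb5b162, [], [], []⟩)) (.leaf ⟨nat_lit 0, nat_lit 1, nat_lit 1, nat_lit 0, nat_lit 50403, nat_lit 0x1ce82163, [], [], []⟩))))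

noncomputable def F10 : GT Fa := .node (.node (.node (.node (.node (.leaf ⟨nat_lit 2, nat_lit 0, nat_lit 0, nat_lit 9, nat_lit 0, nat_lit 0, [], [], [nat_lit 0x28b0e3]⟩) (.leaf ⟨nat_lit 0, nat_lit 1, nat_lit 1, nat_lit 0, nat_lit 0x1162c50, nat_lit 0x39c760443, [], [], []⟩)) (.node (.leaf ⟨nat_lit 0, nat_lit 1, nat_lit 1, nat_lit 0, nat_lit 17987, nat_lit 18865, [], [], []⟩) (.leaf ⟨nat_lit 1, nat_lit 3, nat_lit 4, nat_lit 0x3241815c968585, nat_lit 0x22769dd212029, nat_lit 0x1832ad2d24cec, [], [], []⟩))) (.node (.node (.leaf ⟨nat_lit 0, nat_lit 1, nat_lit 1, nat_lit 0, nat_lit 0x316c62d81, nat_lit 0x2c4b10962, [], [], []⟩) (.leaf ⟨nat_lit 0, nat_lit 1, nat_lit 1, nat_lit 0, nat_lit 0x42169, nat_lit 0x2d713b52b, [], [], []⟩)) (.leaf ⟨nat_lit 0, nat_lit 1, nat_lit 1, nat_lit 0, nat_lit 13837, nat_lit 0x339d23, [], [], []⟩))) (.node (.node (.node (.leaf ⟨nat_lit 0, nat_lit 1, nat_lit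 1, nat_lit 0, nat_lit 16653, nat_lit 232, [], [], []⟩) (.leaf ⟨nat_lit 0, nat_lit 1, nat_lit 1, nat_lit 0, nat_lit 0x1a4e3, nat_lit 0x64051, [], [], []⟩)) (.leaf ⟨nat_lit 0, nat_lit 1, nat_lit 1, nat_lit 0, nat_lit 0x16212d8b, nat_lit 0x1625b181, [], [], []⟩)) (.node (.node (.leaf ⟨nat_lit 0, nat_lit 1, nat_lit 1, nat_lit 0, nat_lit 592, nat_lit 0x934ea, [], [], []⟩) (.leaf ⟨nat_lit 0, nat_lit 0, nat_lit 0, nat_lit 0, nat_lit 0x16442ae43228e1, nat_lit 0x2e13735212b925, [], [], []⟩)) (.leaf ⟨nat_lit 0, nat_lit 1, nat_lit 1, nat_lit 0, nat_lit 0x82123, nat_lit 0x39d2a, [], [], []⟩)))) (.node (.node (.node (.node (.leaf ⟨nat_lit 2, nat_lit 0, nat_lit 0, nat_lit 0xc7208a0c8a3, nat_lit 0, nat_lit 0, [], [], [nat_lit 0x15902a447, nat_lit 0xdd060c64]⟩) (.leaf ⟨nat_lit 0, nat_lit 1, nat_lit 1, nat_lit 0, nat_lit 0x392d71, nat_lit 0x1b00a121, [], [], []⟩)) (.leaf ⟨nat_lit 0, nat_lit 1,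 nat_lit 1, nat_lit 0, nat_lit 0x18b60442, nat_lit 0x18c58822, [], [], []⟩)) (.node (.node (.leaf ⟨nat_lit 0, nat_lit 1, nat_lit 1, nat_lit 0, nat_lit 0x18c58a22, nat_lit 0xc62c4b4ac62, [], [], []⟩) (.leaf ⟨nat_lit 0, nat_lit 2, nat_lit 2, nat_lit 0, nat_lit 0x62c4b, nat_lit 0x5b162, [], [], []⟩)) (.leaf ⟨nat_lit 0, nat_lit 1, nat_lit 1, nat_lit 0, nat_lit 0x884ed, nat_lit 0x301c821, [], [], []⟩))) (.node (.node (.node (.leaf ⟨nat_lit 0, nat_lit 1, nat_lit 1, nat_lit 0, nat_lit 99, nat_lit 0x2ce65, [], [], []⟩) (.leaf ⟨nat_lit 0, nat_lit 1, nat_lit 1, nat_lit 0, nat_lit 0x12862c47, nat_lit 0x5ad895a242, [], [], []⟩)) (.leaf ⟨nat_lit 0, nat_lit 1, nat_lit 1, nat_lit 0, nat_lit 584, nat_lit 0x1673a433, [], [], []⟩)) (.node (.node (.leaf ⟨nat_lit 0, nat_lit 1, nat_lit 1, nat_lit 0, nat_lit 0x62c62, nat_lit 0x5c96c588e3, [], [], []⟩) (.leaf ⟨nat_lit 0, nat_lit 4, nat_lit 4, nat_lit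 0, nat_lit 0x316c62d81, nat_lit 0xb62c41, [], [], []⟩)) (.leaf ⟨nat_lit 0, nat_lit 1, nat_lit 1, nat_lit 0, nat_lit 17699, nat_lit 0x23c587, [], [], []⟩))))

noncomputable def F11 : GT Fa := .node (.node (.node (.node (.node (.leaf ⟨nat_lit 0, nat_lit 0, nat_lit 0, nat_lit 0, nat_lit 0xd8090c, nat_lit 0x28b0e3, [], [], []⟩) (.leaf ⟨nat_lit 0, nat_lit 1, nat_lit 1, nat_lit 0, nat_lit 0x318b14447, nat_lit 0xb5c18c59c42, [], [], []⟩)) (.node (.leaf ⟨nat_lit 0, nat_lit 1, nat_lit 1, nat_lit 0, nat_lit 0x62e22, nat_lit 0x31625a563, [], [], []⟩) (.leaf ⟨nat_lit 1, nat_lit 4, nat_lit 4, nat_lit 0x6c1c12ba29, nat_lit 0x31cd2162488a02, nat_lit 0x1d328e0b24461, [], [], []⟩))) (.node (.node (.leaf ⟨nat_lit 0, nat_lit 1, nat_lit 1, nat_lit 0, nat_lit 0x4b10822, nat_lit 0x18b6302c, [], [], []⟩) (.leaf ⟨nat_lit 0, nat_lit 1, nat_lit 1, nat_lit 0, nat_lit 0x1c96d, nat_lit 0x16941d6b, [], [],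 []⟩)) (.leaf ⟨nat_lit 0, nat_lit 1, nat_lit 1, nat_lit 0, nat_lit 560, nat_lit 0x1690c5a9, [], [], []⟩))) (.node (.node (.node (.leaf ⟨nat_lit 0, nat_lit 1, nat_lit 1, nat_lit 0, nat_lit 0x6ad0d, nat_lit 0xe74221, [], [], []⟩) (.leaf ⟨nat_lit 0, nat_lit 1, nat_lit 1, nat_lit 0, nat_lit 0x10c44022, nat_lit 0x458110621, [], [], []⟩)) (.leaf ⟨nat_lit 0, nat_lit 1, nat_lit 1, nat_lit 0, nat_lit 0x1d8c08902, nat_lit 0xc0958109563, [], [], []⟩)) (.node (.node (.leaf ⟨nat_lit 0, nat_lit 1, nat_lit 1, nat_lit 0, nat_lit 0x16212d81, nat_lit 0x1625b18b, [], [], []⟩) (.leaf ⟨nat_lit 0, nat_lit 3, nat_lit 3, nat_lit 0, nat_lit 0x100b86569167, nat_lit 0x1c9144ee6aca1, [], [], []⟩)) (.leaf ⟨nat_lit 0, nat_lit 1, nat_lit 1, nat_lit 0, nat_lit 0x358c08a22, nat_lit 0xb4156b2ac48, [], [], []⟩)))) (.node (.node (.node (.node (.leaf ⟨nat_lit 2, nat_lit 0, nat_lit 0, nat_lit 14, nat_lit 0, nat_lit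 0, [], [], [nat_lit 0x5c5a589041, nat_lit 4, nat_lit 0x615d1694e4]⟩) (.leaf ⟨nat_lit 0, nat_lit 1, nat_lit 1, nat_lit 0, nat_lit 0x63108588e2, nat_lit 0x58c0a728442, [], [], []⟩)) (.leaf ⟨nat_lit 0, nat_lit 1, nat_lit 1, nat_lit 0, nat_lit 0x4163021, nat_lit 67628, [], [], []⟩)) (.node (.node (.leaf ⟨nat_lit 0, nat_lit 1, nat_lit 1, nat_lit 0, nat_lit 227, nat_lit 0x1094a30, [], [], []⟩) (.leaf ⟨nat_lit 1, nat_lit 2, nat_lit 2, nat_lit 0x948512103, nat_lit 0x6166862c42, nat_lit 0x44a09645, [], [], []⟩)) (.leaf ⟨nat_lit 0, nat_lit 1, nat_lit 1, nat_lit 0, nat_lit 0x2c08821, nat_lit 0x16b62c4b, [], [], []⟩))) (.node (.node (.node (.leaf ⟨nat_lit 0, nat_lit 1, nat_lit 1, nat_lit 0, nat_lit 0x60441, nat_lit 0x5b162, [], [], []⟩) (.leaf ⟨nat_lit 0, nat_lit 1, nat_lit 1, nat_lit 0, nat_lit 0x1160448, nat_lit 0x8b02280501, [], [], []⟩)) (.leaf ⟨nat_lit 0, nat_lit 1, nat_lit 1, nat_lit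 0, nat_lit 20017, nat_lit 0xb98c32, [], [], []⟩)) (.node (.node (.leaf ⟨nat_lit 0, nat_lit 1, nat_lit 1, nat_lit 0, nat_lit 1057, nat_lit 1, [], [], []⟩) (.leaf ⟨nat_lit 1, nat_lit 3, nat_lit 4, nat_lit 0xae990e519162, nat_lit 0x2652164d73568, nat_lit 0x15672adc9890e1, [], [], []⟩)) (.leaf ⟨nat_lit 0, nat_lit 1, nat_lit 1, nat_lit 0, nat_lit 264, nat_lit 16905, [], [], []⟩))))

noncomputable def F12 : GT Fa := .node (.node (.node (.node (.node (.leaf ⟨nat_lit 0, nat_lit 1, nat_lit 1, nat_lit 0, nat_lit 9, nat_lit 0xd92107, [], [], []⟩) (.leaf ⟨nat_lit 0, nat_lit 1, nat_lit 1, nat_lit 0, nat_lit 0x18940c22, nat_lit 0x6045068501, [], [], []⟩)) (.node (.leaf ⟨nat_lit 0, nat_lit 1, nat_lit 1, nat_lit 0, nat_lit 0x1262e22, nat_lit 0x62ceb41d62, [], [], []⟩) (.leaf ⟨nat_lit 1, nat_lit 3, nat_lit 4, nat_lit 0x22c7362e29069, nat_lit 0x14a0ac39108, nat_lit 0x1b139da469569, [], [], []⟩)))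 (.node (.node (.leaf ⟨nat_lit 0, nat_lit 0, nat_lit 0, nat_lit 0, nat_lit 0x6044242d27, nat_lit 0x8483163162, [], [], []⟩) (.leaf ⟨nat_lit 0, nat_lit 1, nat_lit 1, nat_lit 0, nat_lit 0x92ced, nat_lit 0x1674a16b, [], [], []⟩)) (.leaf ⟨nat_lit 0, nat_lit 1, nat_lit 1, nat_lit 0, nat_lit 521, nat_lit 0x100cd2b, [], [], []⟩))) (.node (.node (.node (.leaf ⟨nat_lit 0, nat_lit 1, nat_lit 1, nat_lit 0, nat_lit 0x5b022, nat_lit 0x62c41, [], [], []⟩) (.leaf ⟨nat_lit 0, nat_lit 1, nat_lit 1, nat_lit 0, nat_lit 0x218c5b442, nat_lit 0xc0c4a1504a1, [], [], []⟩)) (.leaf ⟨nat_lit 0, nat_lit 1, nat_lit 1, nat_lit 0, nat_lit 0x6303212122, nat_lit 0x18c1c42910821, [], [], []⟩)) (.node (.node (.leaf ⟨nat_lit 0, nat_lit 1, nat_lit 1, nat_lit 0, nat_lit 0x420882c, nat_lit 0x4b62d8c, [], [], []⟩) (.leaf ⟨nat_lit 2, nat_lit 0, nat_lit 0, nat_lit 453, nat_lit 0, nat_lit 0, [], [], [nat_lit 0x100b8656b9a1,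 nat_lit 164, nat_lit 0x1c9144ee6aca1]⟩)) (.leaf ⟨nat_lit 0, nat_lit 1, nat_lit 1, nat_lit 0, nat_lit 0x830ec588e2, nat_lit 0xb4ad8c5c042, [], [], []⟩)))) (.node (.node (.node (.node (.leaf ⟨nat_lit 2, nat_lit 0, nat_lit 0, nat_lit 0x5c5a588824, nat_lit 0, nat_lit 0, [], [], [nat_lit 4, nat_lit 0x615d1694e4, nat_lit 14699]⟩) (.leaf ⟨nat_lit 0, nat_lit 1, nat_lit 1, nat_lit 0, nat_lit 0x762c50, nat_lit 0x59d6c5c062, [], [], []⟩)) (.leaf ⟨nat_lit 0, nat_lit 1, nat_lit 1, nat_lit 0, nat_lit 0x82210441, nat_lit 0x2d816302c, [], [], []⟩)) (.node (.node (.leaf ⟨nat_lit 0, nat_lit 1, nat_lit 1, nat_lit 0, nat_lit 0x60447, nat_lit 0x5a0ab61485, [], [], []⟩) (.leaf ⟨nat_lit 0, nat_lit 0, nat_lit 0, nat_lit 0, nat_lit 0x8c46489641, nat_lit 0x5a4a873508, [], [], []⟩)) (.leaf ⟨nat_lit 0, nat_lit 1, nat_lit 1, nat_lit 0, nat_lit 0xc42d02, nat_lit 0x62db15ace2, [], [], []⟩))) (.node (.node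 (.node (.leaf ⟨nat_lit 0, nat_lit 1, nat_lit 1, nat_lit 0, nat_lit 67948, nat_lit 0x16b12d8c, [], [], []⟩) (.leaf ⟨nat_lit 0, nat_lit 1, nat_lit 1, nat_lit 0, nat_lit 0x6302242d02, nat_lit 0x116256c80442, [], [], []⟩)) (.leaf ⟨nat_lit 0, nat_lit 1, nat_lit 1, nat_lit 0, nat_lit 0x62c50, nat_lit 0x62d2b5c447, [], [], []⟩)) (.node (.node (.leaf ⟨nat_lit 0, nat_lit 1, nat_lit 1, nat_lit 0, nat_lit 132, nat_lit 462, [], [], []⟩) (.leaf ⟨nat_lit 0, nat_lit 4, nat_lit 4, nat_lit 0, nat_lit 0x1a591c8b61664, nat_lit 0x22d722411c88a, [], [], []⟩)) (.leaf ⟨nat_lit 0, nat_lit 1, nat_lit 1, nat_lit 0, nat_lit 18797, nat_lit 0x1ce8a433, [], [], []⟩))))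

noncomputable def F13 : GT Fa := .node (.node (.node (.node (.node (.leaf ⟨nat_lit 2, nat_lit 0, nat_lit 0, nat_lit 1, nat_lit 0, nat_lit 0, [], [], [nat_lit 1057]⟩) (.leaf ⟨nat_lit 0, nat_lit 1, nat_lit 1, nat_lit 0, nat_lit 16931, nat_lit 0xb904e8, [], [], []⟩)) (.node (.leaf ⟨nat_lit 0, nat_lit 1, nat_lit 1, nat_lit 0, nat_lit 0x64222, nat_lit 0xd69e27, [], [], []⟩) (.leaf ⟨nat_lit 1, nat_lit 4, nat_lit 4, nat_lit 0x2a291722b0e5, nat_lit 0x1717156a71e24, nat_lit 0xc1a8875c0a2, [], [], []⟩))) (.node (.node (.leaf ⟨nat_lit 1, nat_lit 1, nat_lit 1, nat_lit 0x58cec62562, nat_lit 0x84163021, nat_lit 0x8483163162, [], [], []⟩) (.leaf ⟨nat_lit 0, nat_lit 1, nat_lit 1, nat_lit 0, nat_lit 0x318180a22, nat_lit 0x55acb340441, [], [], []⟩)) (.leaf ⟨nat_lit 0, nat_lit 1, nat_lit 1, nat_lit 0, nat_lit 0x18c5a042, nat_lit 0x5956b28502, [], [], []⟩))) (.node (.node (.node (.leaf ⟨nat_lit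 0, nat_lit 0, nat_lit 0, nat_lit 0, nat_lit 0x18d2c0a109c22, nat_lit 0x18b82d6539462, [], [], []⟩) (.leaf ⟨nat_lit 0, nat_lit 1, nat_lit 1, nat_lit 0, nat_lit 0x989c63, nat_lit 0x40d03, [], [], []⟩)) (.leaf ⟨nat_lit 0, nat_lit 1, nat_lit 1, nat_lit 0, nat_lit 0x212d81, nat_lit 0xb1058c, [], [], []⟩)) (.node (.node (.leaf ⟨nat_lit 0, nat_lit 1, nat_lit 1, nat_lit 0, nat_lit 0x160441, nat_lit 0xb60441, [], [], []⟩) (.leaf ⟨nat_lit 2, nat_lit 0, nat_lit 0, nat_lit 0x100b86569167, nat_lit 0, nat_lit 0, [], [], [nat_lit 164, nat_lit 0x1c9144ee6aca1, nat_lit 0x7156b]⟩)) (.leaf ⟨nat_lit 0, nat_lit 1, nat_lit 1, nat_lit 0, nat_lit 0x218c58a22, nat_lit 0x5b18114441, [], [], []⟩)))) (.node (.node (.node (.node (.leaf ⟨nat_lit 2, nat_lit 0, nat_lit 0, nat_lit 0x5c5a589041, nat_lit 0, nat_lit 0, [], [], [nat_lit 14699, nat_lit 0x5c5a589041, nat_lit 4]⟩) (.leaf ⟨nat_lit 0, nat_lit 1, nat_lit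 1, nat_lit 0, nat_lit 0xb9c601, nat_lit 0x101250c, [], [], []⟩)) (.leaf ⟨nat_lit 0, nat_lit 1, nat_lit 1, nat_lit 0, nat_lit 77196, nat_lit 0x16b1096c, [], [], []⟩)) (.node (.node (.leaf ⟨nat_lit 0, nat_lit 1, nat_lit 1, nat_lit 0, nat_lit 0x18c58841, nat_lit 0x16c60442, [], [], []⟩) (.leaf ⟨nat_lit 0, nat_lit 2, nat_lit 2, nat_lit 0, nat_lit 0x1675b90568621, nat_lit 0xc420912b063, [], [], []⟩)) (.leaf ⟨nat_lit 0, nat_lit 1, nat_lit 1, nat_lit 0, nat_lit 586, nat_lit 0x8050b, [], [], []⟩))) (.node (.node (.node (.leaf ⟨nat_lit 0, nat_lit 1, nat_lit 1, nat_lit 0, nat_lit 0x18b6302c, nat_lit 0x4b10822, [], [], []⟩) (.leaf ⟨nat_lit 0, nat_lit 1, nat_lit 1, nat_lit 0, nat_lit 0x18b1a047, nat_lit 0x5ad9059d22, [], [], []⟩)) (.leaf ⟨nat_lit 0, nat_lit 1, nat_lit 1, nat_lit 0, nat_lit 0xb1096c, nat_lit 0x20b181, [], [], []⟩)) (.node (.node (.leaf ⟨nat_lit 0, nat_lit 1, nat_lit 1, nat_lit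 0, nat_lit 0x2c60442, nat_lit 0x18c5884b, [], [], []⟩) (.leaf ⟨nat_lit 2, nat_lit 0, nat_lit 0, nat_lit 0x1ca2882e824a3, nat_lit 0, nat_lit 0, [], [], [nat_lit 130, nat_lit 0x26e4b56989068, nat_lit 0x6396b]⟩)) (.leaf ⟨nat_lit 0, nat_lit 1, nat_lit 1, nat_lit 0, nat_lit 0x5914eb10968, nat_lit 0x6316549572, [], [], []⟩))))

noncomputable def F14 : GT Fa := .node (.node (.node (.node (.node (.leaf ⟨nat_lit 0, nat_lit 0, nat_lit 0, nat_lit 0, nat_lit 11627, nat_lit 1057, [], [], []⟩) (.leaf ⟨nat_lit 0, nat_lit 1, nat_lit 1, nat_lit 0, nat_lit 0x22c59c62, nat_lit 0x73a0c98502, [], [], []⟩)) (.node (.leaf ⟨nat_lit 0, nat_lit 1, nat_lit 1, nat_lit 0, nat_lit 0xc08821, nat_lit 12322, [], [], []⟩) (.leaf ⟨nat_lit 1, nat_lit 4, nat_lit 4, nat_lit 0x209720b2220a7, nat_lit 0x20920ce588489, nat_lit 0x18b12d0494568, [], [], []⟩))) (.node (.node (.leaf ⟨nat_lit 2, nat_lit 0, nat_lit 0, nat_lit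 0x2d6212d8c, nat_lit 0, nat_lit 0, [], [], [nat_lit 0x58cec62562, nat_lit 0x6044242d27]⟩) (.leaf ⟨nat_lit 0, nat_lit 1, nat_lit 1, nat_lit 0, nat_lit 0x1885a4e2, nat_lit 0x8b1725ada2, [], [], []⟩)) (.leaf ⟨nat_lit 0, nat_lit 1, nat_lit 1, nat_lit 0, nat_lit 0x458c5a042, nat_lit 0xb6302912841, [], [], []⟩))) (.node (.node (.node (.leaf ⟨nat_lit 1, nat_lit 1, nat_lit 1, nat_lit 0xe748aa0a484, nat_lit 0x7344b6b8eb, nat_lit 0x18b82d6539462, [], [], []⟩) (.leaf ⟨nat_lit 0, nat_lit 1, nat_lit 1, nat_lit 0, nat_lit 0x106316288963, nat_lit 0x1631b288442, [], [], []⟩)) (.leaf ⟨nat_lit 0, nat_lit 1, nat_lit 1, nat_lit 0, nat_lit 0x18c08848, nat_lit 0xb6316c3b181, [], [], []⟩)) (.node (.node (.leaf ⟨nat_lit 0, nat_lit 1, nat_lit 1, nat_lit 0, nat_lit 0x4420b021, nat_lit 0x2d625b18b, [], [], []⟩) (.leaf ⟨nat_lit 1, nat_lit 3, nat_lit 3, nat_lit 0x630a4188a9, nat_lit 0x18b90ca2, nat_lit 627,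 [], [], []⟩)) (.leaf ⟨nat_lit 0, nat_lit 1, nat_lit 1, nat_lit 0, nat_lit 18691, nat_lit 0x841b1, [], [], []⟩)))) (.node (.node (.node (.node (.leaf ⟨nat_lit 2, nat_lit 0, nat_lit 0, nat_lit 0x72e2d2c441, nat_lit 0, nat_lit 0, [], [], [nat_lit 4, nat_lit 0x740a3410a2, nat_lit 14699]⟩) (.leaf ⟨nat_lit 0, nat_lit 1, nat_lit 1, nat_lit 0, nat_lit 0xc5c450, nat_lit 0x5ad874ace2, [], [], []⟩)) (.leaf ⟨nat_lit 0, nat_lit 1, nat_lit 1, nat_lit 0, nat_lit 272, nat_lit 0xc69c4a, [], [], []⟩)) (.node (.node (.leaf ⟨nat_lit 0, nat_lit 1, nat_lit 1, nat_lit 0, nat_lit 0x220b181, nat_lit 0x16210581, [], [], []⟩) (.leaf ⟨nat_lit 2, nat_lit 0, nat_lit 0, nat_lit 4129, nat_lit 0, nat_lit 0, [], [], [nat_lit 0xd688a874622, nat_lit 14699, nat_lit 0xb42c6589063]⟩)) (.leaf ⟨nat_lit 0, nat_lit 1, nat_lit 1, nat_lit 0, nat_lit 0x2c425882c, nat_lit 0x84b10581, [], [], []⟩))) (.node (.node (.node (.leaf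 ⟨nat_lit 0, nat_lit 1, nat_lit 1, nat_lit 0, nat_lit 557, nat_lit 0x1119d23, [], [], []⟩) (.leaf ⟨nat_lit 0, nat_lit 1, nat_lit 1, nat_lit 0, nat_lit 0x62e2c08a22, nat_lit 0x104318958822, [], [], []⟩)) (.leaf ⟨nat_lit 0, nat_lit 1, nat_lit 1, nat_lit 0, nat_lit 0xd62c62, nat_lit 0x5ad928c162, [], [], []⟩)) (.node (.node (.leaf ⟨nat_lit 0, nat_lit 1, nat_lit 1, nat_lit 0, nat_lit 0x11058c, nat_lit 0x212d8b, [], [], []⟩) (.leaf ⟨nat_lit 2, nat_lit 0, nat_lit 0, nat_lit 0xe515040956a, nat_lit 0, nat_lit 0, [], [], [nat_lit 0x6396b, nat_lit 0x761232095a1, nat_lit 130]⟩)) (.leaf ⟨nat_lit 0, nat_lit 1, nat_lit 1, nat_lit 0, nat_lit 0x1062c62, nat_lit 0x1d6b64162, [], [], []⟩))))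

noncomputable def F15 : GT Fa := .node (.node (.node (.node (.node (.leaf ⟨nat_lit 0, nat_lit 1, nat_lit 1, nat_lit 0, nat_lit 1, nat_lit 11726, [], [], []⟩) (.leaf ⟨nat_lit 0, nat_lit 1, nat_lit 1, nat_lit 0, nat_lit 0x27162c62, nat_lit 0x31621c16b, [], [], []⟩)) (.node (.leaf ⟨nat_lit 0, nat_lit 1, nat_lit 1, nat_lit 0, nat_lit 0x18c08902, nat_lit 0x2ad6508827, [], [], []⟩) (.leaf ⟨nat_lit 1, nat_lit 4, nat_lit 3, nat_lit 0x18e2ba5020523, nat_lit 0x1735b4ab61108, nat_lit 0x3240c8883143, [], [], []⟩))) (.node (.node (.leaf ⟨nat_lit 0, nat_lit 1, nat_lit 1, nat_lit 0, nat_lit 0xb8ca03, nat_lit 0x16b82172, [], [], []⟩) (.leaf ⟨nat_lit 0, nat_lit 1, nat_lit 1, nat_lit 0, nat_lit 0x5cc61, nat_lit 0x6c907, [], [], []⟩)) (.leaf ⟨nat_lit 0, nat_lit 1, nat_lit 1, nat_lit 0, nat_lit 11501, nat_lit 0x2d6b825a9, [], [], []⟩))) (.node (.node (.node (.leaf ⟨nat_lit 2, nat_lit 0, nat_lit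 0, nat_lit 0x1633b0e5748a1, nat_lit 0, nat_lit 0, [], [], [nat_lit 0x6952489430, nat_lit 0xe748aa0a484]⟩) (.leaf ⟨nat_lit 0, nat_lit 1, nat_lit 1, nat_lit 0, nat_lit 0x1ac80622, nat_lit 0x60c228c821, [], [], []⟩)) (.leaf ⟨nat_lit 0, nat_lit 1, nat_lit 1, nat_lit 0, nat_lit 0x62c47, nat_lit 0x641628adab, [], [], []⟩)) (.node (.node (.leaf ⟨nat_lit 0, nat_lit 1, nat_lit 1, nat_lit 0, nat_lit 0x84b10581, nat_lit 0x2c425882c, [], [], []⟩) (.leaf ⟨nat_lit 1, nat_lit 3, nat_lit 2, nat_lit 0x1011d6541425, nat_lit 0x1654206e49647, nat_lit 0xc09ca10956d, [], [], []⟩)) (.leaf ⟨nat_lit 0, nat_lit 1, nat_lit 1, nat_lit 0, nat_lit 0x862c47, nat_lit 0x39d060622, [], [], []⟩)))) (.node (.node (.node (.node (.leaf ⟨nat_lit 2, nat_lit 0, nat_lit 0, nat_lit 0xd74a21095a1, nat_lit 0, nat_lit 0, [], [], [nat_lit 0x38e243a4c, nat_lit 0xb1956b42483, nat_lit 0x2dca73545221a4]⟩) (.leaf ⟨nat_lit 0, nat_lit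 1, nat_lit 1, nat_lit 0, nat_lit 0x24c52d22, nat_lit 0x2d6c9ac48, [], [], []⟩)) (.leaf ⟨nat_lit 0, nat_lit 1, nat_lit 1, nat_lit 0, nat_lit 291, nat_lit 0x111c4e3, [], [], []⟩)) (.node (.node (.leaf ⟨nat_lit 0, nat_lit 1, nat_lit 1, nat_lit 0, nat_lit 0x60502, nat_lit 0x302218521, [], [], []⟩) (.leaf ⟨nat_lit 2, nat_lit 0, nat_lit 0, nat_lit 14, nat_lit 0, nat_lit 0, [], [], [nat_lit 0xb42c6589063, nat_lit 4, nat_lit 0xd688a874622]⟩)) (.leaf ⟨nat_lit 0, nat_lit 1, nat_lit 1, nat_lit 0, nat_lit 8487, nat_lit 0x84072, [], [], []⟩))) (.node (.node (.node (.leaf ⟨nat_lit 0, nat_lit 1, nat_lit 1, nat_lit 0, nat_lit 232, nat_lit 0x17208e48, [], [], []⟩) (.leaf ⟨nat_lit 0, nat_lit 1, nat_lit 1, nat_lit 0, nat_lit 0x318b10a32, nat_lit 0xc184a1088a1, [], [], []⟩)) (.leaf ⟨nat_lit 0, nat_lit 1, nat_lit 1, nat_lit 0, nat_lit 0x16d62c62, nat_lit 0x310114221, [], [], []⟩)) (.node (.node (.leaf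 ⟨nat_lit 0, nat_lit 1, nat_lit 1, nat_lit 0, nat_lit 259, nat_lit 0xd821b2, [], [], []⟩) (.leaf ⟨nat_lit 2, nat_lit 0, nat_lit 0, nat_lit 398, nat_lit 0, nat_lit 0, [], [], [nat_lit 0x761232095a1, nat_lit 130, nat_lit 0x22d722411c88a]⟩)) (.leaf ⟨nat_lit 0, nat_lit 1, nat_lit 1, nat_lit 0, nat_lit 0x28ca160603, nat_lit 0x5b6425b183, [], [], []⟩))))

noncomputable def F : GT Fa := (.node (.node (.node (.node F0 F8) (.node F4 F12)) (.node (.node F2 F10) (.node F6 F14))) (.node (.node (.node F1 F9) (.node F5 F13)) (.node (.node F3 F11) (.node F7 F15))))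

noncomputable def W0 : GT (List ℕ) := .node (.node (.node (.leaf ([])) (.leaf ([nat_lit 19, nat_lit 1, nat_lit 3, nat_lit 19]))) (.leaf ([nat_lit 19, nat_lit 3, nat_lit 19]))) (.node (.leaf ([nat_lit 19])) (.leaf ([nat_lit 19, nat_lit 3, nat_lit 4, nat_lit 19])))

noncomputable def W : GT (List ℕ) := W0

/-- the relators with the new generator -/
def R : List (List ℕ × List ℕ × List ℕ) := [([nat_lit 20, nat_lit 5, nat_lit 19, nat_lit 10, nat_lit 11, nat_lit 2, nat_lit 10, nat_lit 1, nat_lit 2, nat_lit 11, nat_lit 0, nat_lit 1, nat_lit 0], [], []),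
  ([nat_lit 20, nat_lit 6, nat_lit 19, nat_lit 11, nat_lit 12, nat_lit 11, nat_lit 0, nat_lit 12, nat_lit 10, nat_lit 1, nat_lit 1], [], []),
  ([nat_lit 20, nat_lit 7, nat_lit 19, nat_lit 10, nat_lit 11, nat_lit 10, nat_lit 12, nat_lit 0, nat_lit 1, nat_lit 0], [], []),
  ([nat_lit 20, nat_lit 8, nat_lit 19, nat_lit 11, nat_lit 10, nat_lit 1, nat_lit 12, nat_lit 11, nat_lit 0, nat_lit 1], [], []),
  ([nat_lit 20, nat_lit 9, nat_lit 19, nat_lit 2, nat_lit 1, nat_lit 1, nat_lit 12, nat_lit 10, nat_lit 11, nat_lit 12, nat_lit 1, nat_lit 0, nat_lit 11, nat_lit 11], [], []),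
  ([nat_lit 20, nat_lit 0, nat_lit 19, nat_lit 0, nat_lit 0, nat_lit 0], [], []),
  ([nat_lit 20, nat_lit 1, nat_lit 0, nat_lit 11, nat_lit 19, nat_lit 0, nat_lit 0, nat_lit 1, nat_lit 0, nat_lit 11], [], []),
  ([nat_lit 20, nat_lit 1, nat_lit 1, nat_lit 0, nat_lit 11, nat_lit 11, nat_lit 19, nat_lit 0, nat_lit 1, nat_lit 1, nat_lit 10, nat_lit 11, nat_lit 11, nat_lit 10], [], []),
  ([nat_lit 19, nat_lit 19, nat_lit 10, nat_lit 10], [], []),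
  ([nat_lit 11, nat_lit 11, nat_lit 0, nat_lit 1, nat_lit 1, nat_lit 19, nat_lit 11, nat_lit 11, nat_lit 0, nat_lit 1, nat_lit 1, nat_lit 19, nat_lit 11, nat_lit 11, nat_lit 0, nat_lit 1, nat_lit 1, nat_lit 19, nat_lit 0, nat_lit 0], [], []),
  ([nat_lit 12, nat_lit 13, nat_lit 10, nat_lit 12, nat_lit 10, nat_lit 1, nat_lit 12, nat_lit 13, nat_lit 19, nat_lit 10, nat_lit 3, nat_lit 11, nat_lit 12, nat_lit 10, nat_lit 1, nat_lit 12, nat_lit 13, nat_lit 1, nat_lit 12, nat_lit 11, nat_lit 10, nat_lit 12, nat_lit 0, nat_lit 11, nat_lit 0, nat_lit 1, nat_lit 0, nat_lit 11, nat_lit 19, nat_lit 10, nat_lit 12, nat_lit 13, nat_lit 0, nat_lit 12, nat_lit 11, nat_lit 0, nat_lit 12, nat_lit 13, nat_lit 10, nat_lit 12, nat_lit 0, nat_lit 2, nat_lit 11, nat_lit 11, nat_lit 12, nat_lit 11, nat_lit 10, nat_lit 11, nat_lit 11, nat_lit 19], [], []),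
  ([nat_lit 20, nat_lit 13, nat_lit 20, nat_lit 10, nat_lit 12, nat_lit 13, nat_lit 1, nat_lit 10, nat_lit 11, nat_lit 12, nat_lit 13, nat_lit 1, nat_lit 10, nat_lit 11, nat_lit 12, nat_lit 11, nat_lit 0, nat_lit 11, nat_lit 11, nat_lit 0, nat_lit 11, nat_lit 19, nat_lit 3, nat_lit 19, nat_lit 0, nat_lit 1, nat_lit 10, nat_lit 1, nat_lit 1, nat_lit 10, nat_lit 1, nat_lit 1, nat_lit 12, nat_lit 0, nat_lit 2, nat_lit 1, nat_lit 2, nat_lit 11, nat_lit 3, nat_lit 2, nat_lit 11, nat_lit 11, nat_lit 3, nat_lit 2, nat_lit 1, nat_lit 2], [], []),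
  ([nat_lit 19, nat_lit 1, nat_lit 0, nat_lit 11, nat_lit 10, nat_lit 11, nat_lit 11, nat_lit 10, nat_lit 11, nat_lit 2, nat_lit 1, nat_lit 1, nat_lit 2, nat_lit 1, nat_lit 3, nat_lit 2, nat_lit 11, nat_lit 11, nat_lit 3, nat_lit 2, nat_lit 1, nat_lit 2, nat_lit 19, nat_lit 0, nat_lit 11, nat_lit 11, nat_lit 10, nat_lit 2, nat_lit 1, nat_lit 12, nat_lit 1, nat_lit 10, nat_lit 12, nat_lit 12, nat_lit 3, nat_lit 2, nat_lit 0, nat_lit 2, nat_lit 10, nat_lit 2, nat_lit 11, nat_lit 13, nat_lit 20, nat_lit 12, nat_lit 11, nat_lit 12, nat_lit 13, nat_lit 1, nat_lit 1, nat_lit 12, nat_lit 13, nat_lit 11, nat_lit 12, nat_lit 11, nat_lit 11, nat_lit 12, nat_lit 1, nat_lit 0, nat_lit 1, nat_lit 1, nat_lit 0, nat_lit 1, nat_lit 10, nat_lit 11, nat_lit 20, nat_lit 13, nat_lit 0, nat_lit 2, nat_lit 1, nat_lit 2, nat_lit 10, nat_lit 12, nat_lit 13, nat_lit 0, nat_lit 11, nat_lit 10, nat_lit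 2, nat_lit 10, nat_lit 11, nat_lit 11, nat_lit 10, nat_lit 1, nat_lit 10], [], []),
  ([nat_lit 19, nat_lit 1, nat_lit 3, nat_lit 19, nat_lit 1, nat_lit 1, nat_lit 10, nat_lit 11, nat_lit 10, nat_lit 1, nat_lit 1, nat_lit 12, nat_lit 0, nat_lit 2, nat_lit 10, nat_lit 12, nat_lit 3, nat_lit 12, nat_lit 1, nat_lit 1, nat_lit 10, nat_lit 2, nat_lit 1, nat_lit 20, nat_lit 13, nat_lit 11, nat_lit 20, nat_lit 12, nat_lit 10, nat_lit 2, nat_lit 1, nat_lit 12, nat_lit 13, nat_lit 2, nat_lit 10, nat_lit 2, nat_lit 0, nat_lit 2, nat_lit 11, nat_lit 10, nat_lit 11, nat_lit 10, nat_lit 1], [], [])]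

/-- the data -/
noncomputable def P : Par := ⟨LyAct.T, nat_lit 19, fun y => Nat.land (Nat.shiftRight (nat_lit 0x13a2507314620825183dc46b16a) (Nat.mul (nat_lit 5) y)) (nat_lit 31), [nat_lit 0, nat_lit 1, nat_lit 20], nat_lit 0, nat_lit 363, [], [], F.get, W.get, R⟩

def D0 : List De := [⟨nat_lit 2, nat_lit 0, nat_lit 0, nat_lit 0, false, nat_lit 0⟩,
  ⟨nat_lit 3, nat_lit 0, nat_lit 0, nat_lit 0, false, nat_lit 0⟩,
  ⟨nat_lit 1, nat_lit 0, nat_lit 0, nat_lit 0, false, nat_lit 0⟩,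
  ⟨nat_lit 0, nat_lit 4, nat_lit 0x2000000000020000000000013000000000004, nat_lit 0, false, nat_lit 0⟩,
  ⟨nat_lit 3, nat_lit 0, nat_lit 0, nat_lit 1, false, nat_lit 0⟩,
  ⟨nat_lit 1, nat_lit 0, nat_lit 0, nat_lit 0, false, nat_lit 0⟩,
  ⟨nat_lit 0, nat_lit 4, nat_lit 0x2000000000050000000000043000000000004, nat_lit 0, false, nat_lit 0⟩,
  ⟨nat_lit 3, nat_lit 0, nat_lit 0, nat_lit 2, false, nat_lit 0⟩,
  ⟨nat_lit 1, nat_lit 0, nat_lit 0, nat_lit 0, false, nat_lit 0⟩,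
  ⟨nat_lit 0, nat_lit 4, nat_lit 0x2000000000080000000000073000000000004, nat_lit 0, false, nat_lit 0⟩,
  ⟨nat_lit 3, nat_lit 0, nat_lit 0, nat_lit 3, false, nat_lit 0⟩,
  ⟨nat_lit 1, nat_lit 0, nat_lit 0, nat_lit 0, false, nat_lit 0⟩,
  ⟨nat_lit 0, nat_lit 4, nat_lit 0x20000000000b00000000000a3000000000004, nat_lit 0, false, nat_lit 0⟩,
  ⟨nat_lit 3, nat_lit 0, nat_lit 0, nat_lit 5, false, nat_lit 0⟩,
  ⟨nat_lit 1, nat_lit 0, nat_lit 0, nat_lit 0, false, nat_lit 0⟩,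
  ⟨nat_lit 0, nat_lit 4, nat_lit 0x20000000000e00000000000d3000000000004, nat_lit 0, false, nat_lit 0⟩,
  ⟨nat_lit 3, nat_lit 0, nat_lit 0, nat_lit 6, false, nat_lit 0⟩,
  ⟨nat_lit 1, nat_lit 0, nat_lit 0, nat_lit 0, false, nat_lit 0⟩,
  ⟨nat_lit 0, nat_lit 4, nat_lit 0x2000000000110000000000103000000000004, nat_lit 0, false, nat_lit 0⟩,
  ⟨nat_lit 3, nat_lit 0, nat_lit 0, nat_lit 7, false, nat_lit 0⟩,
  ⟨nat_lit 1, nat_lit 0, nat_lit 0, nat_lit 0, false, nat_lit 0⟩,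
  ⟨nat_lit 0, nat_lit 4, nat_lit 0x2000000000140000000000133000000000004, nat_lit 0, false, nat_lit 0⟩,
  ⟨nat_lit 3, nat_lit 0, nat_lit 0, nat_lit 9, false, nat_lit 11⟩,
  ⟨nat_lit 3, nat_lit 0, nat_lit 0, nat_lit 9, true, nat_lit 2⟩,
  ⟨nat_lit 3, nat_lit 0, nat_lit 0, nat_lit 10, false, nat_lit 8⟩,
  ⟨nat_lit 3, nat_lit 0, nat_lit 0, nat_lit 10, false, nat_lit 49⟩,
  ⟨nat_lit 3, nat_lit 0, nat_lit 0, nat_lit 10, true, nat_lit 0⟩,
  ⟨nat_lit 3, nat_lit 0, nat_lit 0, nat_lit 11, false, nat_lit 0⟩,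
  ⟨nat_lit 3, nat_lit 0, nat_lit 0, nat_lit 11, false, nat_lit 2⟩,
  ⟨nat_lit 3, nat_lit 0, nat_lit 0, nat_lit 11, false, nat_lit 23⟩,
  ⟨nat_lit 3, nat_lit 0, nat_lit 0, nat_lit 11, true, nat_lit 24⟩,
  ⟨nat_lit 3, nat_lit 0, nat_lit 0, nat_lit 12, false, nat_lit 42⟩,
  ⟨nat_lit 3, nat_lit 0, nat_lit 0, nat_lit 12, true, nat_lit 40⟩,
  ⟨nat_lit 3, nat_lit 0, nat_lit 0, nat_lit 12, true, nat_lit 60⟩,
  ⟨nat_lit 3, nat_lit 0, nat_lit 0, nat_lit 12, true, nat_lit 82⟩,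
  ⟨nat_lit 3, nat_lit 0, nat_lit 0, nat_lit 13, false, nat_lit 23⟩,
  ⟨nat_lit 3, nat_lit 0, nat_lit 0, nat_lit 13, false, nat_lit 26⟩,
  ⟨nat_lit 3, nat_lit 0, nat_lit 0, nat_lit 13, true, nat_lit 16⟩,
  ⟨nat_lit 3, nat_lit 0, nat_lit 0, nat_lit 13, true, nat_lit 19⟩,
  ⟨nat_lit 0, nat_lit 2, nat_lit 0x68000000000030, nat_lit 0, false, nat_lit 0⟩,
  ⟨nat_lit 0, nat_lit 2, nat_lit 0xf80000000000f8, nat_lit 0, false, nat_lit 0⟩,
  ⟨nat_lit 0, nat_lit 2, nat_lit 0x90000000000038, nat_lit 0, false, nat_lit 0⟩,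
  ⟨nat_lit 0, nat_lit 2, nat_lit 0x68000000000290, nat_lit 0, false, nat_lit 0⟩,
  ⟨nat_lit 0, nat_lit 2, nat_lit 0xf80000000002a0, nat_lit 0, false, nat_lit 0⟩,
  ⟨nat_lit 0, nat_lit 2, nat_lit 0xf8000000000120, nat_lit 0, false, nat_lit 0⟩,
  ⟨nat_lit 1, nat_lit 0, nat_lit 0, nat_lit 0, false, nat_lit 0⟩,
  ⟨nat_lit 0, nat_lit 6, nat_lit 0x20000000002d000000000000a0000000002b10000000002c1000000000193, nat_lit 0, false, nat_lit 0⟩,
  ⟨nat_lit 4, nat_lit 0, nat_lit 0, nat_lit 46, false, nat_lit 10⟩,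
  ⟨nat_lit 4, nat_lit 0, nat_lit 0, nat_lit 46, true, nat_lit 19⟩,
  ⟨nat_lit 4, nat_lit 0, nat_lit 0, nat_lit 46, true, nat_lit 29⟩,
  ⟨nat_lit 0, nat_lit 2, nat_lit 0x30000000000060, nat_lit 0, false, nat_lit 0⟩,
  ⟨nat_lit 0, nat_lit 2, nat_lit 0xf00000000000f0, nat_lit 0, false, nat_lit 0⟩,
  ⟨nat_lit 0, nat_lit 2, nat_lit 0x1500000000000f0, nat_lit 0, false, nat_lit 0⟩,
  ⟨nat_lit 0, nat_lit 2, nat_lit 0xc8000000000030, nat_lit 0, false, nat_lit 0⟩,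
  ⟨nat_lit 0, nat_lit 2, nat_lit 0xf0000000000120, nat_lit 0, false, nat_lit 0⟩,
  ⟨nat_lit 0, nat_lit 2, nat_lit 0x158000000000360, nat_lit 0, false, nat_lit 0⟩,
  ⟨nat_lit 0, nat_lit 2, nat_lit 0x150000000000360, nat_lit 0, false, nat_lit 0⟩,
  ⟨nat_lit 0, nat_lit 2, nat_lit 0x128000000000380, nat_lit 0, false, nat_lit 0⟩,
  ⟨nat_lit 0, nat_lit 2, nat_lit 0x30000000000030, nat_lit 0, false, nat_lit 0⟩,
  ⟨nat_lit 0, nat_lit 2, nat_lit 0x1200000000000f0, nat_lit 0, false, nat_lit 0⟩,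
  ⟨nat_lit 0, nat_lit 2, nat_lit 0x1500000000003b0, nat_lit 0, false, nat_lit 0⟩,
  ⟨nat_lit 0, nat_lit 2, nat_lit 0x1200000000003c0, nat_lit 0, false, nat_lit 0⟩,
  ⟨nat_lit 0, nat_lit 2, nat_lit 0x98000000000038, nat_lit 0, false, nat_lit 0⟩,
  ⟨nat_lit 0, nat_lit 2, nat_lit 0x60000000000090, nat_lit 0, false, nat_lit 0⟩,
  ⟨nat_lit 0, nat_lit 2, nat_lit 0x120000000000380, nat_lit 0, false, nat_lit 0⟩,
  ⟨nat_lit 0, nat_lit 2, nat_lit 0x68000000000038, nat_lit 0, false, nat_lit 0⟩,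
  ⟨nat_lit 0, nat_lit 2, nat_lit 0xc8000000000270, nat_lit 0, false, nat_lit 0⟩,
  ⟨nat_lit 0, nat_lit 2, nat_lit 0x98000000000420, nat_lit 0, false, nat_lit 0⟩,
  ⟨nat_lit 0, nat_lit 2, nat_lit 0x158000000000128, nat_lit 0, false, nat_lit 0⟩,
  ⟨nat_lit 0, nat_lit 2, nat_lit 0x128000000000440, nat_lit 0, false, nat_lit 0⟩,
  ⟨nat_lit 0, nat_lit 2, nat_lit 0x38000000000098, nat_lit 0, false, nat_lit 0⟩,
  ⟨nat_lit 0, nat_lit 2, nat_lit 0xf0000000000460, nat_lit 0, false, nat_lit 0⟩,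
  ⟨nat_lit 0, nat_lit 2, nat_lit 0xc8000000000470, nat_lit 0, false, nat_lit 0⟩,
  ⟨nat_lit 0, nat_lit 2, nat_lit 0x150000000000120, nat_lit 0, false, nat_lit 0⟩,
  ⟨nat_lit 0, nat_lit 2, nat_lit 0x120000000000490, nat_lit 0, false, nat_lit 0⟩,
  ⟨nat_lit 0, nat_lit 2, nat_lit 0xf00000000004a0, nat_lit 0, false, nat_lit 0⟩,
  ⟨nat_lit 1, nat_lit 0, nat_lit 0, nat_lit 0, false, nat_lit 0⟩,
  ⟨nat_lit 0, nat_lit 6, nat_lit 0x20000000004c000000000000a0000000004810000000004b1000000000163, nat_lit 0, false, nat_lit 0⟩,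
  ⟨nat_lit 4, nat_lit 0, nat_lit 0, nat_lit 77, false, nat_lit 18⟩,
  ⟨nat_lit 0, nat_lit 2, nat_lit 0xf8000000000430, nat_lit 0, false, nat_lit 0⟩,
  ⟨nat_lit 0, nat_lit 2, nat_lit 0x60000000000038, nat_lit 0, false, nat_lit 0⟩,
  ⟨nat_lit 0, nat_lit 2, nat_lit 0x128000000000490, nat_lit 0, false, nat_lit 0⟩,
  ⟨nat_lit 0, nat_lit 2, nat_lit 0xf8000000000510, nat_lit 0, false, nat_lit 0⟩,
  ⟨nat_lit 0, nat_lit 2, nat_lit 0x30000000000098, nat_lit 0, false, nat_lit 0⟩,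
  ⟨nat_lit 0, nat_lit 2, nat_lit 0xc0000000000060, nat_lit 0, false, nat_lit 0⟩,
  ⟨nat_lit 0, nat_lit 2, nat_lit 0x120000000000340, nat_lit 0, false, nat_lit 0⟩,
  ⟨nat_lit 0, nat_lit 2, nat_lit 0x1580000000003b0, nat_lit 0, false, nat_lit 0⟩,
  ⟨nat_lit 0, nat_lit 2, nat_lit 0x128000000000560, nat_lit 0, false, nat_lit 0⟩,
  ⟨nat_lit 0, nat_lit 2, nat_lit 0x1280000000003c0, nat_lit 0, false, nat_lit 0⟩,
  ⟨nat_lit 0, nat_lit 2, nat_lit 0xf8000000000280, nat_lit 0, false, nat_lit 0⟩,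
  ⟨nat_lit 0, nat_lit 2, nat_lit 0x158000000000038, nat_lit 0, false, nat_lit 0⟩,
  ⟨nat_lit 0, nat_lit 2, nat_lit 0x60000000000030, nat_lit 0, false, nat_lit 0⟩,
  ⟨nat_lit 0, nat_lit 2, nat_lit 0x120000000000060, nat_lit 0, false, nat_lit 0⟩,
  ⟨nat_lit 0, nat_lit 2, nat_lit 0x1580000000000f0, nat_lit 0, false, nat_lit 0⟩,
  ⟨nat_lit 0, nat_lit 2, nat_lit 0x1280000000005d0, nat_lit 0, false, nat_lit 0⟩,
  ⟨nat_lit 0, nat_lit 2, nat_lit 0x120000000000030, nat_lit 0, false, nat_lit 0⟩,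
  ⟨nat_lit 0, nat_lit 2, nat_lit 0x158000000000120, nat_lit 0, false, nat_lit 0⟩,
  ⟨nat_lit 0, nat_lit 2, nat_lit 0x128000000000600, nat_lit 0, false, nat_lit 0⟩,
  ⟨nat_lit 0, nat_lit 2, nat_lit 0xf8000000000610, nat_lit 0, false, nat_lit 0⟩,
  ⟨nat_lit 0, nat_lit 2, nat_lit 0xf8000000000038, nat_lit 0, false, nat_lit 0⟩,
  ⟨nat_lit 0, nat_lit 2, nat_lit 0xf80000000003d0, nat_lit 0, false, nat_lit 0⟩,
  ⟨nat_lit 0, nat_lit 2, nat_lit 0xf8000000000150, nat_lit 0, false, nat_lit 0⟩,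
  ⟨nat_lit 0, nat_lit 2, nat_lit 0x158000000000030, nat_lit 0, false, nat_lit 0⟩,
  ⟨nat_lit 0, nat_lit 2, nat_lit 0x128000000000370, nat_lit 0, false, nat_lit 0⟩,
  ⟨nat_lit 0, nat_lit 2, nat_lit 0xf8000000000670, nat_lit 0, false, nat_lit 0⟩,
  ⟨nat_lit 0, nat_lit 2, nat_lit 0x600000000003a0, nat_lit 0, false, nat_lit 0⟩,
  ⟨nat_lit 0, nat_lit 2, nat_lit 0xc8000000000068, nat_lit 0, false, nat_lit 0⟩,
  ⟨nat_lit 0, nat_lit 2, nat_lit 0x1580000000002c0, nat_lit 0, false, nat_lit 0⟩,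
  ⟨nat_lit 0, nat_lit 2, nat_lit 0x1280000000006b0, nat_lit 0, false, nat_lit 0⟩,
  ⟨nat_lit 0, nat_lit 2, nat_lit 0xf00000000003b0, nat_lit 0, false, nat_lit 0⟩,
  ⟨nat_lit 0, nat_lit 2, nat_lit 0x1500000000006d0, nat_lit 0, false, nat_lit 0⟩,
  ⟨nat_lit 0, nat_lit 2, nat_lit 0x1200000000006e0, nat_lit 0, false, nat_lit 0⟩,
  ⟨nat_lit 0, nat_lit 2, nat_lit 0x158000000000090, nat_lit 0, false, nat_lit 0⟩,
  ⟨nat_lit 0, nat_lit 2, nat_lit 0x98000000000030, nat_lit 0, false, nat_lit 0⟩,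
  ⟨nat_lit 0, nat_lit 2, nat_lit 0x98000000000710, nat_lit 0, false, nat_lit 0⟩,
  ⟨nat_lit 0, nat_lit 2, nat_lit 0x900000000000c0, nat_lit 0, false, nat_lit 0⟩,
  ⟨nat_lit 0, nat_lit 2, nat_lit 0xf80000000003b0, nat_lit 0, false, nat_lit 0⟩,
  ⟨nat_lit 0, nat_lit 2, nat_lit 0x600000000005b0, nat_lit 0, false, nat_lit 0⟩,
  ⟨nat_lit 0, nat_lit 2, nat_lit 0xf80000000005e0, nat_lit 0, false, nat_lit 0⟩,
  ⟨nat_lit 0, nat_lit 2, nat_lit 0x128000000000030, nat_lit 0, false, nat_lit 0⟩,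
  ⟨nat_lit 0, nat_lit 2, nat_lit 0x380000000005b0, nat_lit 0, false, nat_lit 0⟩,
  ⟨nat_lit 0, nat_lit 2, nat_lit 0x38000000000780, nat_lit 0, false, nat_lit 0⟩,
  ⟨nat_lit 0, nat_lit 2, nat_lit 0x1280000000000c0, nat_lit 0, false, nat_lit 0⟩,
  ⟨nat_lit 0, nat_lit 2, nat_lit 0xf0000000000330, nat_lit 0, false, nat_lit 0⟩,
  ⟨nat_lit 0, nat_lit 2, nat_lit 0xf00000000007b0, nat_lit 0, false, nat_lit 0⟩,
  ⟨nat_lit 0, nat_lit 2, nat_lit 0x1580000000000f8, nat_lit 0, false, nat_lit 0⟩,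
  ⟨nat_lit 0, nat_lit 2, nat_lit 0x128000000000158, nat_lit 0, false, nat_lit 0⟩,
  ⟨nat_lit 0, nat_lit 2, nat_lit 0x90000000000030, nat_lit 0, false, nat_lit 0⟩,
  ⟨nat_lit 0, nat_lit 2, nat_lit 0x1580000000006d0, nat_lit 0, false, nat_lit 0⟩,
  ⟨nat_lit 0, nat_lit 2, nat_lit 0xc8000000000098, nat_lit 0, false, nat_lit 0⟩,
  ⟨nat_lit 0, nat_lit 2, nat_lit 0x98000000000810, nat_lit 0, false, nat_lit 0⟩,
  ⟨nat_lit 0, nat_lit 2, nat_lit 0x150000000000330, nat_lit 0, false, nat_lit 0⟩,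
  ⟨nat_lit 0, nat_lit 2, nat_lit 0x300000000007f0, nat_lit 0, false, nat_lit 0⟩,
  ⟨nat_lit 0, nat_lit 2, nat_lit 0x158000000000740, nat_lit 0, false, nat_lit 0⟩,
  ⟨nat_lit 0, nat_lit 2, nat_lit 0x128000000000850, nat_lit 0, false, nat_lit 0⟩,
  ⟨nat_lit 0, nat_lit 2, nat_lit 0x980000000000c8, nat_lit 0, false, nat_lit 0⟩,
  ⟨nat_lit 0, nat_lit 2, nat_lit 0x120000000000870, nat_lit 0, false, nat_lit 0⟩,
  ⟨nat_lit 0, nat_lit 2, nat_lit 0xf00000000006f0, nat_lit 0, false, nat_lit 0⟩,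
  ⟨nat_lit 0, nat_lit 2, nat_lit 0x98000000000350, nat_lit 0, false, nat_lit 0⟩,
  ⟨nat_lit 0, nat_lit 2, nat_lit 0x128000000000038, nat_lit 0, false, nat_lit 0⟩,
  ⟨nat_lit 0, nat_lit 2, nat_lit 0xc80000000008b0, nat_lit 0, false, nat_lit 0⟩,
  ⟨nat_lit 0, nat_lit 2, nat_lit 0x1200000000008c0, nat_lit 0, false, nat_lit 0⟩,
  ⟨nat_lit 0, nat_lit 2, nat_lit 0x120000000000330, nat_lit 0, false, nat_lit 0⟩,
  ⟨nat_lit 0, nat_lit 2, nat_lit 0x150000000000030, nat_lit 0, false, nat_lit 0⟩,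
  ⟨nat_lit 0, nat_lit 2, nat_lit 0x150000000000038, nat_lit 0, false, nat_lit 0⟩,
  ⟨nat_lit 0, nat_lit 2, nat_lit 0x380000000007f0, nat_lit 0, false, nat_lit 0⟩,
  ⟨nat_lit 0, nat_lit 2, nat_lit 0x600000000005c0, nat_lit 0, false, nat_lit 0⟩,
  ⟨nat_lit 0, nat_lit 2, nat_lit 0x300000000005a0, nat_lit 0, false, nat_lit 0⟩,
  ⟨nat_lit 0, nat_lit 2, nat_lit 0x1200000000005b0, nat_lit 0, false, nat_lit 0⟩,
  ⟨nat_lit 0, nat_lit 2, nat_lit 0xf8000000000270, nat_lit 0, false, nat_lit 0⟩,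
  ⟨nat_lit 0, nat_lit 2, nat_lit 0x158000000000950, nat_lit 0, false, nat_lit 0⟩,
  ⟨nat_lit 0, nat_lit 2, nat_lit 0xf8000000000128, nat_lit 0, false, nat_lit 0⟩,
  ⟨nat_lit 0, nat_lit 2, nat_lit 0x120000000000150, nat_lit 0, false, nat_lit 0⟩,
  ⟨nat_lit 0, nat_lit 2, nat_lit 0x600000000008b0, nat_lit 0, false, nat_lit 0⟩,
  ⟨nat_lit 0, nat_lit 2, nat_lit 0x128000000000150, nat_lit 0, false, nat_lit 0⟩,
  ⟨nat_lit 0, nat_lit 2, nat_lit 0xf80000000009a0, nat_lit 0, false, nat_lit 0⟩,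
  ⟨nat_lit 0, nat_lit 2, nat_lit 0xf8000000000570, nat_lit 0, false, nat_lit 0⟩,
  ⟨nat_lit 0, nat_lit 2, nat_lit 0xf0000000000980, nat_lit 0, false, nat_lit 0⟩,
  ⟨nat_lit 0, nat_lit 2, nat_lit 0x90000000000068, nat_lit 0, false, nat_lit 0⟩,
  ⟨nat_lit 0, nat_lit 2, nat_lit 0xc0000000000030, nat_lit 0, false, nat_lit 0⟩,
  ⟨nat_lit 0, nat_lit 2, nat_lit 0xc8000000000038, nat_lit 0, false, nat_lit 0⟩,
  ⟨nat_lit 0, nat_lit 2, nat_lit 0x120000000000a00, nat_lit 0, false, nat_lit 0⟩,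
  ⟨nat_lit 0, nat_lit 2, nat_lit 0x1280000000007d0, nat_lit 0, false, nat_lit 0⟩,
  ⟨nat_lit 0, nat_lit 2, nat_lit 0x128000000000340, nat_lit 0, false, nat_lit 0⟩,
  ⟨nat_lit 0, nat_lit 2, nat_lit 0xf8000000000a30, nat_lit 0, false, nat_lit 0⟩,
  ⟨nat_lit 0, nat_lit 2, nat_lit 0x128000000000090, nat_lit 0, false, nat_lit 0⟩,
  ⟨nat_lit 0, nat_lit 2, nat_lit 0x1280000000000f8, nat_lit 0, false, nat_lit 0⟩,
  ⟨nat_lit 0, nat_lit 2, nat_lit 0x38000000000060, nat_lit 0, false, nat_lit 0⟩,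
  ⟨nat_lit 0, nat_lit 2, nat_lit 0x380000000008b0, nat_lit 0, false, nat_lit 0⟩,
  ⟨nat_lit 0, nat_lit 2, nat_lit 0x60000000000a80, nat_lit 0, false, nat_lit 0⟩,
  ⟨nat_lit 0, nat_lit 2, nat_lit 0xf8000000000490, nat_lit 0, false, nat_lit 0⟩,
  ⟨nat_lit 0, nat_lit 2, nat_lit 0x600000000008f0, nat_lit 0, false, nat_lit 0⟩,
  ⟨nat_lit 0, nat_lit 2, nat_lit 0x60000000000ab0, nat_lit 0, false, nat_lit 0⟩,
  ⟨nat_lit 0, nat_lit 2, nat_lit 0x1500000000008e0, nat_lit 0, false, nat_lit 0⟩,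
  ⟨nat_lit 0, nat_lit 2, nat_lit 0x150000000000090, nat_lit 0, false, nat_lit 0⟩,
  ⟨nat_lit 0, nat_lit 2, nat_lit 0x128000000000060, nat_lit 0, false, nat_lit 0⟩,
  ⟨nat_lit 0, nat_lit 2, nat_lit 0xf80000000007e0, nat_lit 0, false, nat_lit 0⟩,
  ⟨nat_lit 0, nat_lit 2, nat_lit 0x300000000000c8, nat_lit 0, false, nat_lit 0⟩,
  ⟨nat_lit 0, nat_lit 2, nat_lit 0x30000000000b10, nat_lit 0, false, nat_lit 0⟩,
  ⟨nat_lit 0, nat_lit 2, nat_lit 0x1280000000006e0, nat_lit 0, false, nat_lit 0⟩,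
  ⟨nat_lit 0, nat_lit 2, nat_lit 0xf8000000000b30, nat_lit 0, false, nat_lit 0⟩,
  ⟨nat_lit 0, nat_lit 2, nat_lit 0x1200000000007b0, nat_lit 0, false, nat_lit 0⟩,
  ⟨nat_lit 0, nat_lit 2, nat_lit 0x128000000000098, nat_lit 0, false, nat_lit 0⟩,
  ⟨nat_lit 0, nat_lit 2, nat_lit 0x38000000000068, nat_lit 0, false, nat_lit 0⟩,
  ⟨nat_lit 0, nat_lit 2, nat_lit 0x60000000000b60, nat_lit 0, false, nat_lit 0⟩,
  ⟨nat_lit 0, nat_lit 2, nat_lit 0x120000000000090, nat_lit 0, false, nat_lit 0⟩,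
  ⟨nat_lit 0, nat_lit 2, nat_lit 0xc8000000000090, nat_lit 0, false, nat_lit 0⟩,
  ⟨nat_lit 0, nat_lit 2, nat_lit 0x38000000000720, nat_lit 0, false, nat_lit 0⟩,
  ⟨nat_lit 0, nat_lit 2, nat_lit 0x128000000000068, nat_lit 0, false, nat_lit 0⟩,
  ⟨nat_lit 0, nat_lit 2, nat_lit 0xf80000000003c0, nat_lit 0, false, nat_lit 0⟩,
  ⟨nat_lit 0, nat_lit 2, nat_lit 0x380000000007a0, nat_lit 0, false, nat_lit 0⟩,
  ⟨nat_lit 0, nat_lit 2, nat_lit 0xf8000000000be0, nat_lit 0, false, nat_lit 0⟩,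
  ⟨nat_lit 0, nat_lit 2, nat_lit 0x900000000003a0, nat_lit 0, false, nat_lit 0⟩,
  ⟨nat_lit 0, nat_lit 2, nat_lit 0x30000000000c00, nat_lit 0, false, nat_lit 0⟩,
  ⟨nat_lit 0, nat_lit 2, nat_lit 0xf0000000000098, nat_lit 0, false, nat_lit 0⟩,
  ⟨nat_lit 0, nat_lit 2, nat_lit 0x90000000000060, nat_lit 0, false, nat_lit 0⟩,
  ⟨nat_lit 0, nat_lit 2, nat_lit 0x120000000000c30, nat_lit 0, false, nat_lit 0⟩,
  ⟨nat_lit 0, nat_lit 2, nat_lit 0xc8000000000c40, nat_lit 0, false, nat_lit 0⟩,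
  ⟨nat_lit 0, nat_lit 2, nat_lit 0x120000000000098, nat_lit 0, false, nat_lit 0⟩,
  ⟨nat_lit 0, nat_lit 2, nat_lit 0xf8000000000980, nat_lit 0, false, nat_lit 0⟩]

theorem c0 : P.chkL D0 0 = true := by decide +kernel

def D1 : List De := [⟨nat_lit 0, nat_lit 2, nat_lit 0xc00000000003a0, nat_lit 0, false, nat_lit 0⟩,
  ⟨nat_lit 0, nat_lit 2, nat_lit 0x300000000008b0, nat_lit 0, false, nat_lit 0⟩,
  ⟨nat_lit 0, nat_lit 2, nat_lit 0x38000000000410, nat_lit 0, false, nat_lit 0⟩,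
  ⟨nat_lit 0, nat_lit 2, nat_lit 0x98000000000068, nat_lit 0, false, nat_lit 0⟩,
  ⟨nat_lit 0, nat_lit 2, nat_lit 0xc0000000000068, nat_lit 0, false, nat_lit 0⟩,
  ⟨nat_lit 0, nat_lit 2, nat_lit 0x1580000000000c0, nat_lit 0, false, nat_lit 0⟩,
  ⟨nat_lit 0, nat_lit 2, nat_lit 0x98000000000cd0, nat_lit 0, false, nat_lit 0⟩,
  ⟨nat_lit 0, nat_lit 2, nat_lit 0xf8000000000500, nat_lit 0, false, nat_lit 0⟩,
  ⟨nat_lit 0, nat_lit 2, nat_lit 0x300000000000c0, nat_lit 0, false, nat_lit 0⟩,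
  ⟨nat_lit 0, nat_lit 2, nat_lit 0x120000000000d00, nat_lit 0, false, nat_lit 0⟩,
  ⟨nat_lit 0, nat_lit 2, nat_lit 0xf80000000004a0, nat_lit 0, false, nat_lit 0⟩,
  ⟨nat_lit 0, nat_lit 2, nat_lit 0xf80000000005b0, nat_lit 0, false, nat_lit 0⟩,
  ⟨nat_lit 0, nat_lit 2, nat_lit 0x120000000000690, nat_lit 0, false, nat_lit 0⟩,
  ⟨nat_lit 0, nat_lit 2, nat_lit 0xc00000000005b0, nat_lit 0, false, nat_lit 0⟩,
  ⟨nat_lit 0, nat_lit 2, nat_lit 0x60000000000730, nat_lit 0, false, nat_lit 0⟩,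
  ⟨nat_lit 0, nat_lit 2, nat_lit 0xf0000000000550, nat_lit 0, false, nat_lit 0⟩,
  ⟨nat_lit 0, nat_lit 2, nat_lit 0x90000000000b60, nat_lit 0, false, nat_lit 0⟩,
  ⟨nat_lit 0, nat_lit 2, nat_lit 0xf0000000000500, nat_lit 0, false, nat_lit 0⟩,
  ⟨nat_lit 0, nat_lit 2, nat_lit 0x98000000000d90, nat_lit 0, false, nat_lit 0⟩,
  ⟨nat_lit 0, nat_lit 2, nat_lit 0xf00000000008e0, nat_lit 0, false, nat_lit 0⟩,
  ⟨nat_lit 0, nat_lit 2, nat_lit 0x30000000000770, nat_lit 0, false, nat_lit 0⟩,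
  ⟨nat_lit 0, nat_lit 2, nat_lit 0x98000000000ba0, nat_lit 0, false, nat_lit 0⟩,
  ⟨nat_lit 0, nat_lit 2, nat_lit 0xf8000000000400, nat_lit 0, false, nat_lit 0⟩,
  ⟨nat_lit 0, nat_lit 2, nat_lit 0x90000000000540, nat_lit 0, false, nat_lit 0⟩,
  ⟨nat_lit 0, nat_lit 2, nat_lit 0x60000000000df0, nat_lit 0, false, nat_lit 0⟩,
  ⟨nat_lit 0, nat_lit 2, nat_lit 0xc80000000000c8, nat_lit 0, false, nat_lit 0⟩,
  ⟨nat_lit 0, nat_lit 2, nat_lit 0x128000000000c20, nat_lit 0, false, nat_lit 0⟩,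
  ⟨nat_lit 0, nat_lit 2, nat_lit 0xc8000000000060, nat_lit 0, false, nat_lit 0⟩,
  ⟨nat_lit 0, nat_lit 2, nat_lit 0x98000000000660, nat_lit 0, false, nat_lit 0⟩,
  ⟨nat_lit 0, nat_lit 2, nat_lit 0x980000000005b0, nat_lit 0, false, nat_lit 0⟩,
  ⟨nat_lit 0, nat_lit 2, nat_lit 0xc8000000000770, nat_lit 0, false, nat_lit 0⟩,
  ⟨nat_lit 0, nat_lit 2, nat_lit 0xf0000000000270, nat_lit 0, false, nat_lit 0⟩,
  ⟨nat_lit 0, nat_lit 2, nat_lit 0xf80000000006f0, nat_lit 0, false, nat_lit 0⟩,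
  ⟨nat_lit 0, nat_lit 2, nat_lit 0x90000000000270, nat_lit 0, false, nat_lit 0⟩,
  ⟨nat_lit 0, nat_lit 2, nat_lit 0xc0000000000e90, nat_lit 0, false, nat_lit 0⟩,
  ⟨nat_lit 0, nat_lit 2, nat_lit 0x38000000000900, nat_lit 0, false, nat_lit 0⟩,
  ⟨nat_lit 0, nat_lit 2, nat_lit 0x30000000000e40, nat_lit 0, false, nat_lit 0⟩,
  ⟨nat_lit 0, nat_lit 2, nat_lit 0x900000000005a0, nat_lit 0, false, nat_lit 0⟩,
  ⟨nat_lit 0, nat_lit 2, nat_lit 0xc80000000007f0, nat_lit 0, false, nat_lit 0⟩,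
  ⟨nat_lit 0, nat_lit 2, nat_lit 0x90000000000af0, nat_lit 0, false, nat_lit 0⟩,
  ⟨nat_lit 0, nat_lit 2, nat_lit 0x90000000000c30, nat_lit 0, false, nat_lit 0⟩,
  ⟨nat_lit 0, nat_lit 2, nat_lit 0xc00000000005a0, nat_lit 0, false, nat_lit 0⟩,
  ⟨nat_lit 0, nat_lit 2, nat_lit 0x980000000003e0, nat_lit 0, false, nat_lit 0⟩,
  ⟨nat_lit 0, nat_lit 2, nat_lit 0x128000000000870, nat_lit 0, false, nat_lit 0⟩,
  ⟨nat_lit 0, nat_lit 2, nat_lit 0x128000000000e50, nat_lit 0, false, nat_lit 0⟩,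
  ⟨nat_lit 0, nat_lit 2, nat_lit 0x90000000000940, nat_lit 0, false, nat_lit 0⟩,
  ⟨nat_lit 0, nat_lit 2, nat_lit 0x900000000006a0, nat_lit 0, false, nat_lit 0⟩,
  ⟨nat_lit 0, nat_lit 2, nat_lit 0x90000000000750, nat_lit 0, false, nat_lit 0⟩,
  ⟨nat_lit 0, nat_lit 2, nat_lit 0x98000000000690, nat_lit 0, false, nat_lit 0⟩,
  ⟨nat_lit 0, nat_lit 2, nat_lit 0xf0000000000e50, nat_lit 0, false, nat_lit 0⟩,
  ⟨nat_lit 0, nat_lit 2, nat_lit 0x980000000009f0, nat_lit 0, false, nat_lit 0⟩,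
  ⟨nat_lit 0, nat_lit 2, nat_lit 0x90000000000090, nat_lit 0, false, nat_lit 0⟩,
  ⟨nat_lit 0, nat_lit 2, nat_lit 0xc8000000000630, nat_lit 0, false, nat_lit 0⟩,
  ⟨nat_lit 0, nat_lit 2, nat_lit 0x90000000000960, nat_lit 0, false, nat_lit 0⟩,
  ⟨nat_lit 0, nat_lit 2, nat_lit 0x680000000007a0, nat_lit 0, false, nat_lit 0⟩,
  ⟨nat_lit 0, nat_lit 2, nat_lit 0x158000000000fe0, nat_lit 0, false, nat_lit 0⟩,
  ⟨nat_lit 0, nat_lit 2, nat_lit 0x1280000000009e0, nat_lit 0, false, nat_lit 0⟩,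
  ⟨nat_lit 0, nat_lit 2, nat_lit 0x38000000000500, nat_lit 0, false, nat_lit 0⟩,
  ⟨nat_lit 0, nat_lit 2, nat_lit 0x900000000005b0, nat_lit 0, false, nat_lit 0⟩,
  ⟨nat_lit 0, nat_lit 2, nat_lit 0x158000000000b70, nat_lit 0, false, nat_lit 0⟩,
  ⟨nat_lit 0, nat_lit 2, nat_lit 0xc0000000000cb0, nat_lit 0, false, nat_lit 0⟩,
  ⟨nat_lit 0, nat_lit 2, nat_lit 0x128000000000cc0, nat_lit 0, false, nat_lit 0⟩,
  ⟨nat_lit 0, nat_lit 2, nat_lit 0x68000000001050, nat_lit 0, false, nat_lit 0⟩,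
  ⟨nat_lit 0, nat_lit 2, nat_lit 0x30000000000e10, nat_lit 0, false, nat_lit 0⟩,
  ⟨nat_lit 0, nat_lit 2, nat_lit 0x120000000000410, nat_lit 0, false, nat_lit 0⟩,
  ⟨nat_lit 0, nat_lit 2, nat_lit 0x900000000005f0, nat_lit 0, false, nat_lit 0⟩,
  ⟨nat_lit 0, nat_lit 2, nat_lit 0x98000000000bc0, nat_lit 0, false, nat_lit 0⟩,
  ⟨nat_lit 0, nat_lit 2, nat_lit 0x158000000000a70, nat_lit 0, false, nat_lit 0⟩,
  ⟨nat_lit 0, nat_lit 2, nat_lit 0x120000000000ee0, nat_lit 0, false, nat_lit 0⟩,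
  ⟨nat_lit 0, nat_lit 2, nat_lit 0x68000000000710, nat_lit 0, false, nat_lit 0⟩,
  ⟨nat_lit 0, nat_lit 2, nat_lit 0x128000000000c80, nat_lit 0, false, nat_lit 0⟩,
  ⟨nat_lit 0, nat_lit 2, nat_lit 0xc80000000010e0, nat_lit 0, false, nat_lit 0⟩,
  ⟨nat_lit 0, nat_lit 2, nat_lit 0x68000000000a50, nat_lit 0, false, nat_lit 0⟩,
  ⟨nat_lit 0, nat_lit 2, nat_lit 0x30000000000cb0, nat_lit 0, false, nat_lit 0⟩,
  ⟨nat_lit 0, nat_lit 2, nat_lit 0x150000000000990, nat_lit 0, false, nat_lit 0⟩,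
  ⟨nat_lit 0, nat_lit 2, nat_lit 0xf00000000009f0, nat_lit 0, false, nat_lit 0⟩,
  ⟨nat_lit 0, nat_lit 2, nat_lit 0xc0000000000320, nat_lit 0, false, nat_lit 0⟩,
  ⟨nat_lit 0, nat_lit 2, nat_lit 0x120000000000710, nat_lit 0, false, nat_lit 0⟩,
  ⟨nat_lit 0, nat_lit 2, nat_lit 0x90000000000ba0, nat_lit 0, false, nat_lit 0⟩,
  ⟨nat_lit 0, nat_lit 2, nat_lit 0x90000000000cc0, nat_lit 0, false, nat_lit 0⟩,
  ⟨nat_lit 0, nat_lit 2, nat_lit 0x150000000000d60, nat_lit 0, false, nat_lit 0⟩,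
  ⟨nat_lit 0, nat_lit 2, nat_lit 0x30000000000c60, nat_lit 0, false, nat_lit 0⟩,
  ⟨nat_lit 0, nat_lit 2, nat_lit 0x158000000000f10, nat_lit 0, false, nat_lit 0⟩,
  ⟨nat_lit 0, nat_lit 2, nat_lit 0x158000000000d50, nat_lit 0, false, nat_lit 0⟩,
  ⟨nat_lit 0, nat_lit 2, nat_lit 0x60000000000bc0, nat_lit 0, false, nat_lit 0⟩,
  ⟨nat_lit 0, nat_lit 2, nat_lit 0x1200000000011c0, nat_lit 0, false, nat_lit 0⟩,
  ⟨nat_lit 0, nat_lit 2, nat_lit 0x128000000000b70, nat_lit 0, false, nat_lit 0⟩,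
  ⟨nat_lit 0, nat_lit 2, nat_lit 0x380000000011e0, nat_lit 0, false, nat_lit 0⟩,
  ⟨nat_lit 0, nat_lit 2, nat_lit 0xc0000000000ae0, nat_lit 0, false, nat_lit 0⟩,
  ⟨nat_lit 0, nat_lit 2, nat_lit 0x120000000000910, nat_lit 0, false, nat_lit 0⟩,
  ⟨nat_lit 0, nat_lit 2, nat_lit 0x38000000000fa0, nat_lit 0, false, nat_lit 0⟩,
  ⟨nat_lit 0, nat_lit 2, nat_lit 0x1580000000003f0, nat_lit 0, false, nat_lit 0⟩,
  ⟨nat_lit 0, nat_lit 2, nat_lit 0xf0000000001130, nat_lit 0, false, nat_lit 0⟩,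
  ⟨nat_lit 0, nat_lit 2, nat_lit 0xc00000000008b0, nat_lit 0, false, nat_lit 0⟩,
  ⟨nat_lit 0, nat_lit 2, nat_lit 0x98000000001100, nat_lit 0, false, nat_lit 0⟩,
  ⟨nat_lit 0, nat_lit 2, nat_lit 0x98000000000e30, nat_lit 0, false, nat_lit 0⟩,
  ⟨nat_lit 0, nat_lit 2, nat_lit 0x120000000000530, nat_lit 0, false, nat_lit 0⟩,
  ⟨nat_lit 0, nat_lit 2, nat_lit 0x38000000000e60, nat_lit 0, false, nat_lit 0⟩,
  ⟨nat_lit 0, nat_lit 2, nat_lit 0x30000000000d50, nat_lit 0, false, nat_lit 0⟩,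
  ⟨nat_lit 0, nat_lit 2, nat_lit 0x98000000001080, nat_lit 0, false, nat_lit 0⟩,
  ⟨nat_lit 0, nat_lit 2, nat_lit 0xc0000000000ed0, nat_lit 0, false, nat_lit 0⟩,
  ⟨nat_lit 0, nat_lit 2, nat_lit 0xc0000000000f80, nat_lit 0, false, nat_lit 0⟩,
  ⟨nat_lit 0, nat_lit 2, nat_lit 0x68000000000960, nat_lit 0, false, nat_lit 0⟩,
  ⟨nat_lit 0, nat_lit 2, nat_lit 0x38000000000a10, nat_lit 0, false, nat_lit 0⟩,
  ⟨nat_lit 0, nat_lit 2, nat_lit 0xc0000000000f00, nat_lit 0, false, nat_lit 0⟩,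
  ⟨nat_lit 0, nat_lit 2, nat_lit 0x68000000000d30, nat_lit 0, false, nat_lit 0⟩,
  ⟨nat_lit 0, nat_lit 2, nat_lit 0x120000000000ba0, nat_lit 0, false, nat_lit 0⟩,
  ⟨nat_lit 0, nat_lit 2, nat_lit 0x90000000000c80, nat_lit 0, false, nat_lit 0⟩,
  ⟨nat_lit 0, nat_lit 2, nat_lit 0x38000000000d10, nat_lit 0, false, nat_lit 0⟩,
  ⟨nat_lit 0, nat_lit 2, nat_lit 0xc0000000000f40, nat_lit 0, false, nat_lit 0⟩,
  ⟨nat_lit 0, nat_lit 2, nat_lit 0x90000000000790, nat_lit 0, false, nat_lit 0⟩,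
  ⟨nat_lit 0, nat_lit 2, nat_lit 0x150000000000b10, nat_lit 0, false, nat_lit 0⟩,
  ⟨nat_lit 0, nat_lit 2, nat_lit 0xf0000000000780, nat_lit 0, false, nat_lit 0⟩,
  ⟨nat_lit 0, nat_lit 2, nat_lit 0xf0000000000e70, nat_lit 0, false, nat_lit 0⟩,
  ⟨nat_lit 0, nat_lit 2, nat_lit 0xc0000000000ef0, nat_lit 0, false, nat_lit 0⟩,
  ⟨nat_lit 0, nat_lit 2, nat_lit 0x98000000000b90, nat_lit 0, false, nat_lit 0⟩,
  ⟨nat_lit 0, nat_lit 2, nat_lit 0x150000000000dc0, nat_lit 0, false, nat_lit 0⟩,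
  ⟨nat_lit 0, nat_lit 2, nat_lit 0x128000000001140, nat_lit 0, false, nat_lit 0⟩,
  ⟨nat_lit 0, nat_lit 2, nat_lit 0x128000000000eb0, nat_lit 0, false, nat_lit 0⟩,
  ⟨nat_lit 0, nat_lit 2, nat_lit 0x158000000000870, nat_lit 0, false, nat_lit 0⟩,
  ⟨nat_lit 0, nat_lit 2, nat_lit 0x300000000013f0, nat_lit 0, false, nat_lit 0⟩,
  ⟨nat_lit 0, nat_lit 2, nat_lit 0xf0000000000c30, nat_lit 0, false, nat_lit 0⟩,
  ⟨nat_lit 0, nat_lit 2, nat_lit 0x150000000001410, nat_lit 0, false, nat_lit 0⟩,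
  ⟨nat_lit 0, nat_lit 2, nat_lit 0x98000000001150, nat_lit 0, false, nat_lit 0⟩,
  ⟨nat_lit 0, nat_lit 2, nat_lit 0x120000000001040, nat_lit 0, false, nat_lit 0⟩,
  ⟨nat_lit 0, nat_lit 2, nat_lit 0x300000000010a0, nat_lit 0, false, nat_lit 0⟩,
  ⟨nat_lit 0, nat_lit 2, nat_lit 0xc8000000000840, nat_lit 0, false, nat_lit 0⟩,
  ⟨nat_lit 0, nat_lit 2, nat_lit 0xf0000000001110, nat_lit 0, false, nat_lit 0⟩,
  ⟨nat_lit 0, nat_lit 2, nat_lit 0x38000000001020, nat_lit 0, false, nat_lit 0⟩,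
  ⟨nat_lit 0, nat_lit 2, nat_lit 0x150000000001160, nat_lit 0, false, nat_lit 0⟩,
  ⟨nat_lit 0, nat_lit 2, nat_lit 0x38000000000fc0, nat_lit 0, false, nat_lit 0⟩,
  ⟨nat_lit 0, nat_lit 2, nat_lit 0x30000000000fc0, nat_lit 0, false, nat_lit 0⟩,
  ⟨nat_lit 0, nat_lit 2, nat_lit 0xc8000000000cf0, nat_lit 0, false, nat_lit 0⟩,
  ⟨nat_lit 0, nat_lit 2, nat_lit 0x150000000000f60, nat_lit 0, false, nat_lit 0⟩,
  ⟨nat_lit 0, nat_lit 2, nat_lit 0x128000000001270, nat_lit 0, false, nat_lit 0⟩,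
  ⟨nat_lit 0, nat_lit 2, nat_lit 0x38000000000750, nat_lit 0, false, nat_lit 0⟩,
  ⟨nat_lit 0, nat_lit 2, nat_lit 0x68000000001070, nat_lit 0, false, nat_lit 0⟩,
  ⟨nat_lit 0, nat_lit 2, nat_lit 0x380000000010b0, nat_lit 0, false, nat_lit 0⟩,
  ⟨nat_lit 0, nat_lit 2, nat_lit 0x158000000000930, nat_lit 0, false, nat_lit 0⟩,
  ⟨nat_lit 0, nat_lit 2, nat_lit 0xc0000000000e50, nat_lit 0, false, nat_lit 0⟩,
  ⟨nat_lit 0, nat_lit 2, nat_lit 0x38000000001030, nat_lit 0, false, nat_lit 0⟩,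
  ⟨nat_lit 0, nat_lit 2, nat_lit 0x38000000001480, nat_lit 0, false, nat_lit 0⟩,
  ⟨nat_lit 0, nat_lit 2, nat_lit 0xc8000000000ca0, nat_lit 0, false, nat_lit 0⟩,
  ⟨nat_lit 2, nat_lit 0, nat_lit 0, nat_lit 0, false, nat_lit 0⟩,
  ⟨nat_lit 0, nat_lit 13, nat_lit 0x1572000000000a210000000000380000000001280000000000980000000001500000000000f00000000000f00000000000f00000000000600000000000c8000000000030000000001574, nat_lit 0, false, nat_lit 0⟩,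
  ⟨nat_lit 0, nat_lit 12, nat_lit 0x15720000000006c10000000000900000000000680000000000300000000001280000000000f8000000000158000000000120000000000098000000000038000000001574, nat_lit 0, false, nat_lit 0⟩,
  ⟨nat_lit 0, nat_lit 14, nat_lit 0x1572000000000a610000000000380000000000c00000000000900000000000c00000000001280000000000f00000000001500000000000380000000000c0000000000030000000000150000000001574, nat_lit 0, false, nat_lit 0⟩,
  ⟨nat_lit 0, nat_lit 11, nat_lit 0x157200000000144100000000033100000000003000000000015000000000009800000000012000000000157a000000000ac1000000000b01000000000313, nat_lit 0, false, nat_lit 0⟩,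
  ⟨nat_lit 1, nat_lit 0, nat_lit 0, nat_lit 0, false, nat_lit 0⟩,
  ⟨nat_lit 0, nat_lit 19, nat_lit 0x15720000000013510000000004010000000000c00000000001280000000000680000000000020000000015c000000000000a0000000012310000000008910000000001f30000000013a1000000000b510000000000c00000000000c0000000000128000000000090000000001574, nat_lit 0, false, nat_lit 0⟩,
  ⟨nat_lit 4, nat_lit 0, nat_lit 0, nat_lit 349, false, nat_lit 0⟩,
  ⟨nat_lit 4, nat_lit 0, nat_lit 0, nat_lit 349, false, nat_lit 12⟩,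
  ⟨nat_lit 4, nat_lit 0, nat_lit 0, nat_lit 349, false, nat_lit 14⟩,
  ⟨nat_lit 4, nat_lit 0, nat_lit 0, nat_lit 349, true, nat_lit 10⟩,
  ⟨nat_lit 4, nat_lit 0, nat_lit 0, nat_lit 349, true, nat_lit 12⟩,
  ⟨nat_lit 4, nat_lit 0, nat_lit 0, nat_lit 349, true, nat_lit 22⟩,
  ⟨nat_lit 0, nat_lit 15, nat_lit 0x15720000000000310000000000f90000000000380000000000900000000000380000000001200000000002e2000000000bb10000000005d10000000000f800000000157a0000000010010000000006d1000000001603, nat_lit 0, false, nat_lit 0⟩,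
  ⟨nat_lit 0, nat_lit 15, nat_lit 0x15720000000014010000000006810000000000380000000000600000000000980000000000680000000004d20000000004f100000000086100000000012800000000015800000000157a000000000361000000000233, nat_lit 0, false, nat_lit 0⟩,
  ⟨nat_lit 2, nat_lit 0, nat_lit 0, nat_lit 0, false, nat_lit 0⟩,
  ⟨nat_lit 0, nat_lit 15, nat_lit 0x16620000000000310000000006b10000000000600000000001200000000000600000000000f00000000000f00000000000f00000000000f0000000000060000000000120000000000090000000000060000000001664, nat_lit 0, false, nat_lit 0⟩,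
  ⟨nat_lit 0, nat_lit 15, nat_lit 0x16620000000007010000000001590000000000380000000000c00000000000c00000000001280000000001580000000001200000000000f0000000000060000000000038000000000128000000000038000000001664, nat_lit 0, false, nat_lit 0⟩,
  ⟨nat_lit 0, nat_lit 9, nat_lit 0x1688000000001678000000001688000000001678000000001678000000001678000000001670000000001688000000001688, nat_lit 0, false, nat_lit 0⟩,
  ⟨nat_lit 1, nat_lit 0, nat_lit 0, nat_lit 0, false, nat_lit 0⟩,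
  ⟨nat_lit 0, nat_lit 19, nat_lit 0x1662000000000e21000000000c710000000000f80000000001200000000000c80000000001500000000000020000000016a000000000000a0000000012e1000000000bd1000000000203000000000fb10000000009710000000000c8000000000098000000000068000000001664, nat_lit 0, false, nat_lit 0⟩,
  ⟨nat_lit 4, nat_lit 0, nat_lit 0, nat_lit 363, true, nat_lit 23⟩,
  ⟨nat_lit 4, nat_lit 0, nat_lit 0, nat_lit 363, true, nat_lit 26⟩,
  ⟨nat_lit 0, nat_lit 11, nat_lit 0x1662000000000a91000000000de100000000003800000000006000000000003000000000006800000000166a000000001561000000000391000000000303, nat_lit 0, false, nat_lit 0⟩,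
  ⟨nat_lit 0, nat_lit 10, nat_lit 0x157200000000041100000000080100000000009000000000015000000000009000000000166a0000000010d1000000000a310000000002f3, nat_lit 0, false, nat_lit 0⟩,
  ⟨nat_lit 0, nat_lit 12, nat_lit 0x16f20000000012d10000000005210000000016900000000016b80000000016780000000016980000000016b80000000016e2000000000c11000000000bd1000000000303, nat_lit 0, false, nat_lit 0⟩,
  ⟨nat_lit 0, nat_lit 15, nat_lit 0x16620000000014710000000005110000000000300000000000c80000000000f00000000000c000000000157a0000000013710000000006410000000015d00000000016f20000000014a1000000000371000000001633, nat_lit 0, false, nat_lit 0⟩,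
  ⟨nat_lit 0, nat_lit 16, nat_lit 0x16420000000011910000000005610000000015980000000015d80000000015800000000015720000000012c1000000000b010000000000680000000000c800000000015800000000166a0000000008810000000001290000000016d3, nat_lit 0, false, nat_lit 0⟩,
  ⟨nat_lit 0, nat_lit 18, nat_lit 0x16fa0000000008a1000000000c710000000015880000000015d80000000016f20000000013d10000000001510000000016800000000016b80000000016880000000017120000000013210000000006810000000016880000000016b80000000016780000000015f3, nat_lit 0, false, nat_lit 0⟩,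
  ⟨nat_lit 0, nat_lit 21, nat_lit 0x17320000000012910000000005810000000016780000000016900000000016780000000016b80000000016780000000016900000000016b80000000016fa0000000012410000000004510000000015d00000000015d00000000015800000000015a8000000001722000000000ec1000000000681000000000223, nat_lit 0, false, nat_lit 0⟩,
  ⟨nat_lit 0, nat_lit 16, nat_lit 0x17220000000008210000000005610000000016b80000000016880000000016880000000017420000000008d10000000004a10000000016880000000016b80000000016880000000017120000000007710000000007c1000000000253, nat_lit 0, false, nat_lit 0⟩,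
  ⟨nat_lit 0, nat_lit 12, nat_lit 0x172a0000000013b10000000003310000000015880000000015d80000000015880000000015a80000000015d00000000016f2000000001391000000000bd1000000000313, nat_lit 0, false, nat_lit 0⟩,
  ⟨nat_lit 2, nat_lit 0, nat_lit 0, nat_lit 0, false, nat_lit 0⟩,
  ⟨nat_lit 0, nat_lit 17, nat_lit 0x17720000000003310000000000380000000000600000000001580000000000c00000000001200000000001500000000001280000000001580000000001280000000000f80000000000c80000000000980000000000f00000000000c8000000001774, nat_lit 0, false, nat_lit 0⟩,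
  ⟨nat_lit 0, nat_lit 15, nat_lit 0x17720000000001510000000000380000000000680000000001580000000001200000000000c80000000001280000000001580000000001200000000000380000000000680000000000900000000000c8000000001774, nat_lit 0, false, nat_lit 0⟩,
  ⟨nat_lit 0, nat_lit 17, nat_lit 0x17720000000004a10000000000380000000001500000000000c00000000000300000000001280000000001280000000000f80000000001580000000001280000000000f80000000000c00000000001280000000000c0000000000128000000001774, nat_lit 0, false, nat_lit 0⟩,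
  ⟨nat_lit 0, nat_lit 17, nat_lit 0x17720000000012610000000006510000000000980000000000c800000000009800000000015000000000157a0000000010110000000004b10000000015d80000000015880000000015a8000000001722000000001121000000000a31000000000243, nat_lit 0, false, nat_lit 0⟩,
  ⟨nat_lit 0, nat_lit 15, nat_lit 0x17b2000000000ea10000000006c10000000016780000000016800000000016b80000000016700000000016900000000016900000000016800000000016980000000016b80000000016900000000016780000000017b4, nat_lit 0, false, nat_lit 0⟩,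
  ⟨nat_lit 4, nat_lit 0, nat_lit 0, nat_lit 380, false, nat_lit 17⟩,
  ⟨nat_lit 4, nat_lit 0, nat_lit 0, nat_lit 380, true, nat_lit 13⟩,
  ⟨nat_lit 4, nat_lit 0, nat_lit 0, nat_lit 380, true, nat_lit 24⟩,
  ⟨nat_lit 0, nat_lit 21, nat_lit 0x17420000000010610000000005210000000016780000000016800000000016900000000016b80000000016700000000016980000000017420000000011710000000005e10000000016700000000016880000000016b80000000016900000000016780000000017ba000000000f910000000009b10000000016c3, nat_lit 0, false, nat_lit 0⟩,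
  ⟨nat_lit 0, nat_lit 22, nat_lit 0x180a000000000471000000000aa10000000016780000000016b80000000016880000000016880000000016b8000000001670000000001732000000001461000000000b310000000016880000000016780000000016b80000000016980000000016980000000016b80000000016fa0000000014f10000000005910000000017d3, nat_lit 0, false, nat_lit 0⟩,
  ⟨nat_lit 0, nat_lit 20, nat_lit 0x1812000000001551000000000d710000000015a80000000015800000000015d80000000015d80000000015880000000017220000000010910000000008310000000016980000000016b80000000016780000000016900000000016b8000000001802000000000ce10000000003610000000017e3, nat_lit 0, false, nat_lit 0⟩,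
  ⟨nat_lit 0, nat_lit 14, nat_lit 0x180a000000000bf10000000003b10000000016700000000016880000000016b80000000016780000000016880000000016700000000016b80000000017ba0000000012510000000003410000000001a3, nat_lit 0, false, nat_lit 0⟩,
  ⟨nat_lit 0, nat_lit 26, nat_lit 0x18120000000013c1000000000a610000000015d80000000015d80000000015880000000015d80000000015980000000016f20000000013610000000008010000000016980000000016b8000000001678000000001698000000001688000000001802000000000f210000000007d10000000017800000000017c80000000017980000000017a00000000017c80000000017a80000000001e3, nat_lit 0, false, nat_lit 0⟩,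
  ⟨nat_lit 0, nat_lit 18, nat_lit 0x1832000000001381000000000bd10000000017800000000017c80000000018420000000013110000000004b10000000017980000000017c80000000017880000000017880000000017c80000000017900000000017b2000000000d41000000000e810000000001c3, nat_lit 0, false, nat_lit 0⟩,
  ⟨nat_lit 0, nat_lit 13, nat_lit 0x180a000000001541000000000a210000000016800000000016980000000016980000000016b80000000016700000000016980000000017ba000000000b210000000005e1000000000173, nat_lit 0, false, nat_lit 0⟩,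
  ⟨nat_lit 0, nat_lit 12, nat_lit 0x1812000000000f71000000000ad10000000015a80000000015d80000000015800000000015d00000000015a000000000181a0000000013410000000007e10000000004e3, nat_lit 0, false, nat_lit 0⟩,
  ⟨nat_lit 0, nat_lit 18, nat_lit 0x1752000000000d810000000006110000000016880000000016b80000000016980000000016700000000016620000000013e1000000000d7100000000003800000000015800000000006000000000012800000000177a0000000011b10000000007c10000000017f3, nat_lit 0, false, nat_lit 0⟩,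
  ⟨nat_lit 0, nat_lit 21, nat_lit 0x187a0000000012a1000000000b310000000017980000000017a80000000017c800000000188a0000000014d10000000009a10000000015800000000015d00000000015800000000015a80000000015d000000000158000000000181a0000000014b10000000001290000000017900000000017a80000000017f3, nat_lit 0, false, nat_lit 0⟩,
  ⟨nat_lit 0, nat_lit 19, nat_lit 0x18520000000012810000000007d10000000016780000000016900000000016880000000016b800000000167000000000170a000000001511000000000a410000000015880000000015a80000000015d0000000001588000000001722000000001331000000000a310000000001d3, nat_lit 0, false, nat_lit 0⟩,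
  ⟨nat_lit 0, nat_lit 12, nat_lit 0x18a20000000015210000000008310000000016880000000016700000000016b80000000016780000000016800000000018aa0000000012b1000000000a31000000000173, nat_lit 0, false, nat_lit 0⟩,
  ⟨nat_lit 0, nat_lit 21, nat_lit 0x188a0000000012110000000001210000000015880000000015a80000000015d80000000015800000000015a80000000015d80000000018820000000011810000000007e10000000017800000000017c80000000017a80000000017900000000017c800000000180a0000000014210000000006e1000000000263, nat_lit 0, false, nat_lit 0⟩,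
  ⟨nat_lit 0, nat_lit 19, nat_lit 0x1852000000000fd10000000002810000000016b80000000016980000000016b80000000016780000000016900000000016fa000000000da10000000006210000000015d00000000015980000000015d80000000015980000000018820000000014d10000000009710000000017d3, nat_lit 0, false, nat_lit 0⟩,
  ⟨nat_lit 0, nat_lit 21, nat_lit 0x180a000000000921000000000a210000000016780000000016880000000016700000000016b80000000016800000000016780000000016b800000000175a0000000011a10000000009d10000000015880000000015a80000000015d0000000001588000000001882000000001301000000000de10000000001f3, nat_lit 0, false, nat_lit 0⟩,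
  ⟨nat_lit 0, nat_lit 21, nat_lit 0x1732000000001491000000000b410000000016780000000016900000000016780000000016b80000000016980000000016980000000017120000000015310000000009c10000000016780000000016780000000016880000000016b80000000016780000000018ca0000000011d10000000006710000000001c3, nat_lit 0, false, nat_lit 0⟩]

theorem c1 : P.chkL D1 200 = true := by decide +kernel

def D2 : List De := [⟨nat_lit 0, nat_lit 23, nat_lit 0x18420000000010f1000000000bd10000000017a00000000017c80000000017880000000017a0000000001812000000000c910000000005d10000000015d800000000158800000000158800000000181a0000000011f1000000000d210000000017800000000017900000000017c80000000017980000000017c8000000001788000000001623, nat_lit 0, false, nat_lit 0⟩,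
  ⟨nat_lit 0, nat_lit 15, nat_lit 0x16620000000003a10000000007e10000000000300000000001500000000000600000000001200000000004d20000000004f1000000000c7100000000012800000000015800000000177a000000000db10000000001b3, nat_lit 0, false, nat_lit 0⟩,
  ⟨nat_lit 0, nat_lit 22, nat_lit 0x1822000000000c51000000000d210000000017a0000000001852000000000dd10000000007c10000000016780000000016800000000016b80000000016780000000016900000000016b800000000175a000000000ff10000000001290000000015880000000015880000000015d00000000015a8000000001580000000001613, nat_lit 0, false, nat_lit 0⟩,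
  ⟨nat_lit 0, nat_lit 26, nat_lit 0x187a0000000012010000000005810000000017a80000000017c80000000017980000000017a80000000017c80000000017a8000000001902000000000eb10000000006510000000017980000000017a80000000017c80000000017980000000018520000000010c1000000000ad10000000016800000000016b80000000016780000000016880000000016b8000000001678000000000213, nat_lit 0, false, nat_lit 0⟩,
  ⟨nat_lit 0, nat_lit 15, nat_lit 0x187a000000000b81000000000a610000000017c80000000017880000000017c80000000017800000000017900000000018420000000014310000000007b10000000017900000000017a8000000001790000000000183, nat_lit 0, false, nat_lit 0⟩,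
  ⟨nat_lit 0, nat_lit 21, nat_lit 0x18920000000012210000000007610000000017980000000017c80000000017a80000000017980000000017c80000000017a0000000001812000000001501000000000bd10000000015880000000015a00000000015d80000000015d800000000158000000000181a0000000014510000000000f90000000015f3, nat_lit 0, false, nat_lit 0⟩,
  ⟨nat_lit 0, nat_lit 22, nat_lit 0x18720000000014c10000000006210000000017900000000017c80000000017880000000017880000000017c8000000001822000000000f510000000006410000000017a80000000017c80000000017a0000000001892000000000f310000000006d10000000017c80000000017880000000017a00000000017c8000000000223, nat_lit 0, false, nat_lit 0⟩,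
  ⟨nat_lit 0, nat_lit 23, nat_lit 0x187a000000000e01000000000b410000000017800000000017c80000000017980000000017a00000000018520000000012f10000000000f10000000016780000000016780000000016800000000016980000000016b80000000016700000000018f20000000014e10000000009c10000000017c80000000017800000000017c80000000015e3, nat_lit 0, false, nat_lit 0⟩]

theorem c2 : P.chkL D2 400 = true := by decide +kernel


theorem val {H : Type} [Group H] {N : ℕ} {Γ : Type} [Group Γ] {A : RAct H N} {g : ℕ → H} {φ : H →* Γ} {z : Γ}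
    {c : ℕ → Subgroup.center Γ} (h : CtxH P A g) (hG : CtxG P g φ z c) :
    ∀ x < 408, Val P g φ z c (P.F x) := by
  have h0 : ∀ x < 0, Val P g φ z c (P.F x) := forall_lt_zero'
  have h1 : ∀ x < 200, Val P g φ z c (P.F x) := chkL_spec h hG h0 c0
  have h2 : ∀ x < 400, Val P g φ z c (P.F x) := chkL_spec h hG h1 c1
  have h3 : ∀ x < 408, Val P g φ z c (P.F x) := chkL_spec h hG h2 c2
  exact h3

end Cfsg.Agent.L0.LyFB
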